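import Mathlib
import Cfsg.Agent.Lib.ThreeTrans.FiCent23.Final
import Cfsg.Agent.Lib.ThreeTrans.Tower.Types
import Cfsg.Agent.Lib.ThreeTrans.TypeTop.InvolutionTypes
import Cfsg.Agent.Lib.ThreeTrans.TypeTop.Facts
import Cfsg.Agent.Lib.ThreeTrans.TypeTop.Perfect

/-! What is used of a class of type M(23): its numbers, and a base of 23 members with the subgroup of
order 2^11 they generate. -/

set_option autoImplicit false
set_option linter.unusedSectionVars false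

namespace CfsgLib.ThreeTrans.FiCent24

open CfsgLib.ThreeTrans CfsgLib.ThreeTrans.FiCent23
open CfsgLib.ThreeTrans.Tower (IsBase22)
open CfsgLib.ThreeTrans.TypeTop (IsProd)
open CfsgLib.ThreeTrans.LocalSymThree (nbr)

universe u v

variable {Y : Type u} [Group Y]

/-- What the next level uses of a class of type M(23) with a base through one member. -/
structure M23 (t : Y) (Ω0 : Set Y) : Prop where
  ord : orderOf t = 2
  cls : Cfsg.IsThreeTranspositionClass (Dc t)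
  good : Classif.Good (Dc t)
  level : Classif.LevelTwentyThree (Dc t)
  loc : Tower.Local (Dc t) 31671 3510 693 351
  rel : ∀ j ≤ 6, 2 ≤ j → NoRel (Dc t) j
  classify : ∀ x : Y, x * x = 1 → x ≠ 1 → ∃ n, 1 ≤ n ∧ n ≤ 3 ∧ IsProd (Dc t) n x
  order : Nat.card Y = 31671 * (2 * 64561751654400)
  lam3 : ∀ a b c : Y, Triple (Dc t) a b c →
    (nbr (Dc t) a ∩ nbr (Dc t) b ∩ nbr (Dc t) c).ncard = 180
  lam4 : ∀ a b c e : Y, Triple (Dc t) a b c → e ∈ nbr (Dc t) a ∩ nbr (Dc t) b ∩ nbr (Dc t) c →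
    (nbr (Dc t) a ∩ nbr (Dc t) b ∩ nbr (Dc t) c ∩ nbr (Dc t) e).ncard = 51
  triples : ∀ a b c a' b' c' : Y, Triple (Dc t) a b c → Triple (Dc t) a' b' c' →
    ∃ y : Y, cj y a = a' ∧ cj y b = b' ∧ cj y c = c'
  sub : Ω0 ⊆ Dc t
  self : t ∈ Ω0
  comm : ∀ a ∈ Ω0, ∀ b ∈ Ω0, Commute a b
  card : Ω0.ncard = 23
  maximal : ∀ e ∈ Dc t, (∀ b ∈ Ω0, Commute e b) → e ∈ Ω0
  card_closure : Nat.card (Subgroup.closure Ω0) = 2 ^ 11
  elem : ∀ W : Subgroup Y, Cfsg.IsElementaryAbelian 2 W → Nat.card W = 2 ^ 11 →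
    ∃ y : Y, ∀ x ∈ Subgroup.closure Ω0, cj y x ∈ W
  perm : ∀ a b c a' b' c' : Y, a ∈ Ω0 → b ∈ Ω0 → c ∈ Ω0 → a ≠ b → a ≠ c → b ≠ c →
    a' ∈ Ω0 → b' ∈ Ω0 → c' ∈ Ω0 → a' ≠ b' → a' ≠ c' → b' ≠ c' →
    ∃ y : Y, cj y '' Ω0 = Ω0 ∧ cj y a = a' ∧ cj y b = b' ∧ cj y c = c'
  odd_bases : Odd {S : Set Y | (∃ y, cj y '' Ω0 = S) ∧ t ∈ S}.ncard
  odd_rel : ∃ l : List Y, Odd l.length ∧ (∀ y ∈ l, y ∈ Dc t) ∧ l.prod = 1
  cent_core : ∀ L : Subgroup Y, L ≤ Cd t → (∀ g ∈ Cd t, ∀ k ∈ L, g * k * g⁻¹ ∈ L) →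
    (∀ k ∈ L, ∃ m, Odd m ∧ (k ^ m = 1 ∨ k ^ m = t)) → ∀ k ∈ L, k = 1 ∨ k = t

variable [Finite Y] {Z : Type v} [Group Z] [Finite Z] {t : Y} {φ : Cd t →* Z} {E : Set Z} {x₁ : Cd t}

/-- The base over a base of the double cover. -/
def upBase (t : Y) (φ : Cd t →* Z) (x₁ : Cd t) (B : Set Z) : Set Y :=
  insert t ((fun e => (lift φ x₁ e : Y)) '' B)

section FromHy

variable (h : Hy t φ E x₁)
include h

theorem lift_ne {e : Z} (he : e ∈ E) : (lift φ x₁ e : Y) ≠ t :=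
  (h.mem_nbr_d.2 ⟨e, he, rfl⟩).2.1

theorem lift_inj' {e f : Z} (he : e ∈ E) (hf : f ∈ E) (k : (lift φ x₁ e : Y) = (lift φ x₁ f : Y)) : e = f :=
  h.cov.lift_inj h.seed he hf (Subtype.ext k)

theorem upBase_inj {B B' : Set Z} (hB : B ⊆ E) (hB' : B' ⊆ E) (k : upBase t φ x₁ B = upBase t φ x₁ B') :
    B = B' := by
  have key : ∀ {B B' : Set Z}, B ⊆ E → B' ⊆ E → upBase t φ x₁ B = upBase t φ x₁ B' → B ⊆ B' := by
    intro B B' hB hB' k e he
    have hm : (lift φ x₁ e : Y) ∈ upBase t φ x₁ B' := k.le (Or.inr ⟨e, he, rfl⟩)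
    rcases hm with q | ⟨e', he', q⟩
    · exact absurd q (lift_ne h (hB he))
    · exact lift_inj' h (hB' he') (hB he) q ▸ he'
  exact Set.Subset.antisymm (key hB hB' k) (key hB' hB k.symm)

theorem cj_upBase (k : Cd t) {B : Set Z} (hB : B ⊆ E) :
    cj (k : Y) '' upBase t φ x₁ B = upBase t φ x₁ (cj (φ k) '' B) := by
  rw [upBase, upBase, Set.image_insert_eq, Set.image_image, Set.image_image,
    cj_of_commute (Subgroup.mem_centralizer_singleton_iff.1 k.2)]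
  congr 1
  exact Set.image_congr fun e he => h.cj_lift k (hB he)

theorem exists_M23 : ∃ Ω0, M23 t Ω0 := by
  classical
  obtain ⟨B₀, hB₀⟩ := h.cov.m22.exists_base
  let B : Finset Z := B₀.toFinite.toFinset
  have hBc : (↑B : Set Z) = B₀ := by simp [B]
  have f : Fr t φ E x₁ B := ⟨h.cov, h.seed, hBc.symm ▸ hB₀⟩
  have m22 := h.cov.m22
  have hG := h.good_Dc
  have hgrp := hG.group
  have hprim := hG.set.prim
  have h23 := h.typeM23
  have hloc := Tower.local23 hgrp hprim h23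
  have hset := hgrp.1
  refine ⟨upBase t φ x₁ ↑B, ?_⟩
  set Ω := upBase t φ x₁ (↑B : Set Z) with hΩ
  have hBE : (↑B : Set Z) ⊆ E := f.base.sub
  have hsub : Ω ⊆ Dc t := by
    rintro y (rfl | ⟨e, he, rfl⟩)
    exacts [h.d_mem, (h.mem_nbr_d.2 ⟨e, hBE he, rfl⟩).1]
  have hmem : ∀ y, y ∈ Ω ↔ y ∈ Dc t ∧ y ∈ Agrp φ B := by
    intro y
    refine ⟨fun hy => ⟨hsub hy, ?_⟩, fun ⟨hy, hA⟩ => ?_⟩
    · rcases hy with rfl | ⟨e, he, rfl⟩
      · exact f.dd_mem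
      · exact f.mem_A.2 ⟨false, {e}, by simpa using he, by simp, by rw [f.el_single he]⟩
    · obtain ⟨k, hk, rfl⟩ := Fr.mem_Agrp.1 hA
      rcases (h.iff k).1 hy with rfl | ⟨e, he, rfl⟩
      · exact Or.inl rfl
      · have hcl : e ∈ Subgroup.closure (↑B : Set Z) := h.cov.map_lift h.seed he ▸ hk
        exact Or.inr ⟨e, f.base.maximal he fun b hb => (f.mul_self_closure hcl).2 b hb, rfl⟩
  have hcomm : ∀ a ∈ Ω, ∀ b ∈ Ω, Commute a b := fun a ha b hb => by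
    have := f.A_elementary.1
    exact setLike_mul_comm ((hmem a).1 ha).2 ((hmem b).1 hb).2
  have hcl : Subgroup.closure Ω = Agrp φ B := by
    refine le_antisymm ((Subgroup.closure_le _).2 fun y hy => ((hmem y).1 hy).2) fun y hy => ?_
    obtain ⟨e, S, hS, -, rfl⟩ := f.mem_A.1 hy
    suffices el φ x₁ e S ∈ (Subgroup.closure Ω).comap (Cd t).subtype from this
    refine mul_mem ?_ ?_
    · rw [h.cov.sp_eq h.seed f.base (f.cB hS)]
      exact Subgroup.noncommProd_mem _ _ fun b hb => Subgroup.subset_closure (Or.inr ⟨b, hS hb, rfl⟩)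
    · cases e
      · exact one_mem _
      · exact Subgroup.subset_closure (Or.inl rfl)
  have hnorm : ∀ n ∈ Subgroup.normalizer (Agrp φ B : Set Y), cj n '' Ω = Ω := fun n hn => by
    refine Set.eq_of_subset_of_ncard_le ?_ (by rw [Set.ncard_image_of_injective _ (cj_inj n)]) (Set.toFinite _)
    rintro _ ⟨y, hy, rfl⟩
    obtain ⟨h1, h2⟩ := (hmem y).1 hy
    exact (hmem _).2 ⟨Dc_cj n h1, (Subgroup.mem_normalizer_iff.1 hn y).1 h2⟩
  have hmove : ∀ a ∈ Ω, ∃ n, cj n '' Ω = Ω ∧ cj n t = a := fun a ha => by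
    obtain ⟨h1, h2⟩ := (hmem a).1 ha
    obtain ⟨g, hg⟩ := isConj_iff.1 h1
    have hg' : cj g t = a := hg
    obtain ⟨n, hn, e⟩ := f.fusion (g := g) (hg' ▸ h2)
    exact ⟨n, hnorm n hn, e.trans hg'⟩
  have hback : ∀ a ∈ Ω, ∃ n, cj n '' Ω = Ω ∧ cj n a = t := fun a ha => by
    obtain ⟨n, hn, e⟩ := hmove a ha
    refine ⟨n⁻¹, ?_, by rw [← e, cj_cj, inv_mul_cancel, cj_one]⟩
    conv_lhs => rw [← hn, cj_image_comp, inv_mul_cancel]
    ext y; simp [cj]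
  -- the members commuting with a member, read in the double cover
  have htriple : ∀ {a b c : Y}, Triple (Dc t) a b c → ∃ χ, Classif.Chart (Dc t) a χ E ∧
      Triple (Dc t) a b c ∧ b ∈ nbr (Dc t) a ∧ c ∈ nbr (Dc t) a ∧ χ c ∈ nbr E (χ b) := by
    rintro a b c ht
    obtain ⟨χ, C, -⟩ := h.exists_chart ht.1
    obtain ⟨ha, hb, hc, nab, nac, nbc, cab, cac, cbc⟩ := id ht
    have hb' : b ∈ nbr (Dc t) a := ⟨hb, nab.symm, cab⟩
    have hc' : c ∈ nbr (Dc t) a := ⟨hc, nac.symm, cac⟩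
    exact ⟨χ, C, ht, hb', hc', C.bij.mapsTo hc', fun k => nbc (C.bij.injOn hb' hc' k.symm),
      (C.comm b hb' c hc').2 cbc⟩
  have pairs : ∀ {e₁ e₂ e₁' e₂' : Z}, e₁ ∈ E → e₂ ∈ E → e₁ ≠ e₂ → Commute e₁ e₂ →
      e₁' ∈ E → e₂' ∈ E → e₁' ≠ e₂' → Commute e₁' e₂' → ∃ z, cj z e₁ = e₁' ∧ cj z e₂ = e₂' := by
    intro e₁ e₂ e₁' e₂' h1 h2 h3 h4 k1 k2 k3 k4
    obtain ⟨c, tc⟩ := m22.exists_third h1 h2 h3 h4
    obtain ⟨c', tc'⟩ := m22.exists_third k1 k2 k3 k4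
    obtain ⟨B₁, hB₁, p1, p2, p3⟩ := m22.exists_base_through tc
    obtain ⟨B₂, hB₂, q1, q2, q3⟩ := m22.exists_base_through tc'
    obtain ⟨z, z1, z2, -, -⟩ := m22.triples_conj hB₁ hB₂ tc p1 p2 p3 tc' q1 q2 q3
    exact ⟨z, z1, z2⟩
  refine ⟨h.cov.ord, h.class_Dc, hG, h.level_Dc, hloc, (good23 hgrp h23).rel,
    fun x hx hx1 => TypeTop.classify23 hgrp hprim h23 hx hx1, TypeTop.order23 hgrp hprim h23,
    ?_, ?_, ?_, hsub, Or.inl rfl, hcomm, ?_, ?_, ?_, ?_, ?_, ?_, ?_, ?_⟩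
  · intro a b c ht
    obtain ⟨χ, C, -, hb, hc, hbc⟩ := htriple ht
    rw [← (C.bij.injOn.mono (Set.inter_subset_left.trans Set.inter_subset_left)).ncard_image,
      show nbr (Dc t) a ∩ nbr (Dc t) b ∩ nbr (Dc t) c =
        (nbr (Dc t) a ∩ nbr (Dc t) b) ∩ (nbr (Dc t) a ∩ nbr (Dc t) c) by ext; simp; tauto,
      C.bij.injOn.image_inter Set.inter_subset_left Set.inter_subset_left, C.image_nbr hb, C.image_nbr hc]
    exact m22.loc.lam _ (C.bij.mapsTo hb) _ hbc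
  · rintro a b c e ht ⟨⟨hea, heb⟩, hec⟩
    obtain ⟨χ, C, -, hb, hc, hbc⟩ := htriple ht
    obtain ⟨F, _, _, K⟩ := m22.exists_K
    rw [← (C.bij.injOn.mono
        ((Set.inter_subset_left.trans Set.inter_subset_left).trans Set.inter_subset_left)).ncard_image,
      show nbr (Dc t) a ∩ nbr (Dc t) b ∩ nbr (Dc t) c ∩ nbr (Dc t) e =
        ((nbr (Dc t) a ∩ nbr (Dc t) b) ∩ (nbr (Dc t) a ∩ nbr (Dc t) c)) ∩ (nbr (Dc t) a ∩ nbr (Dc t) e) by
          ext; simp; tauto,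
      C.bij.injOn.image_inter (Set.inter_subset_left.trans Set.inter_subset_left) Set.inter_subset_left,
      C.bij.injOn.image_inter Set.inter_subset_left Set.inter_subset_left, C.image_nbr hb, C.image_nbr hc,
      C.image_nbr hea]
    set β := χ b
    set γ := χ c
    set ε := χ e
    have hβ : β ∈ E := C.bij.mapsTo hb
    have hγ : γ ∈ E := hbc.1
    have hε : ε ∈ E := C.bij.mapsTo hea
    have nbγ : β ≠ γ := Ne.symm hbc.2.1
    have nbε : β ≠ ε := fun k => heb.2.1 (C.bij.injOn hea hb k.symm)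
    have ncε : γ ≠ ε := fun k => hec.2.1 (C.bij.injOn hea hc k.symm)
    have cbε : Commute β ε := (C.comm b hb e hea).2 heb.2.2
    have ccε : Commute γ ε := (C.comm c hc e hea).2 hec.2.2
    have t3 : Triple E β γ ε := ⟨hβ, hγ, hε, nbγ, nbε, ncε, hbc.2.2, cbε, ccε⟩
    have h48 := K.ncard_outer hβ hγ hε nbγ nbε ncε hbc.2.2 cbε ccε
    have hsubH : Tower.hex E β γ ε ⊆ {y | y ∈ E ∧ Commute y β ∧ Commute y γ ∧ Commute y ε} := fun y hy =>
      ⟨hy.1, hy.2 β hβ (Commute.refl β) hbc.2.2 cbε, hy.2 γ hγ hbc.2.2.symm (Commute.refl γ) ccε,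
        hy.2 ε hε cbε.symm ccε.symm (Commute.refl ε)⟩
    rw [Set.ncard_sdiff hsubH, m22.ncard_hex t3] at h48
    have hset : nbr E β ∩ nbr E γ ∩ nbr E ε =
        {y | y ∈ E ∧ Commute y β ∧ Commute y γ ∧ Commute y ε} \ {β, γ, ε} := by
      ext y
      simp only [Set.mem_inter_iff, Set.mem_sdiff, Set.mem_insert_iff, Set.mem_singleton_iff, Set.mem_ofPred_eq,
        not_or]
      exact ⟨fun k => ⟨⟨k.2.1, k.1.1.2.2.symm, k.1.2.2.2.symm, k.2.2.2.symm⟩, k.1.1.2.1, k.1.2.2.1, k.2.2.1⟩,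
        fun k => ⟨⟨⟨k.1.1, k.2.1, k.1.2.1.symm⟩, k.1.1, k.2.2.1, k.1.2.2.1.symm⟩, k.1.1, k.2.2.2, k.1.2.2.2.symm⟩⟩
    rw [hset, Set.ncard_sdiff ?_,
      Set.ncard_eq_three.2 ⟨β, γ, ε, nbγ, nbε, ncε, rfl⟩]
    · omega
    · rintro y (rfl | rfl | rfl)
      exacts [⟨hβ, Commute.refl _, hbc.2.2, cbε⟩, ⟨hγ, hbc.2.2.symm, Commute.refl _, ccε⟩,
        ⟨hε, cbε.symm, ccε.symm, Commute.refl _⟩]
  · -- ordered triples
    have norm : ∀ {a b c : Y}, Triple (Dc t) a b c → ∃ (g : Y) (e₁ e₂ : Z), e₁ ∈ E ∧ e₂ ∈ E ∧ e₁ ≠ e₂ ∧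
        Commute e₁ e₂ ∧ cj g a = t ∧ cj g b = (lift φ x₁ e₁ : Y) ∧ cj g c = (lift φ x₁ e₂ : Y) := by
      rintro a b c ⟨ha, hb, hc, nab, nac, nbc, cab, cac, cbc⟩
      obtain ⟨k, hk⟩ := isConj_iff.1 ha
      have hk' : cj k⁻¹ a = t := by rw [← hk]; simp [cj, mul_assoc]
      obtain ⟨e₁, h1, k1⟩ := h.mem_nbr_d.1 (nbr_cj_mem (g := k⁻¹) ⟨hb, nab.symm, cab⟩ hk')
      obtain ⟨e₂, h2, k2⟩ := h.mem_nbr_d.1 (nbr_cj_mem (g := k⁻¹) ⟨hc, nac.symm, cac⟩ hk')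
      refine ⟨k⁻¹, e₁, e₂, h1, h2, fun e => nbc (cj_inj k⁻¹ (by rw [k1, k2, e])), ?_, hk', k1, k2⟩
      refine (h.cov.lift_comm h.seed h1 h2).1 (Subtype.ext (?_ : Commute (lift φ x₁ e₁ : Y) (lift φ x₁ e₂ : Y)).eq)
      rw [← k1, ← k2]
      exact (commute_conj_iff k⁻¹ b c).2 cbc
    intro a b c a' b' c' ht ht'
    obtain ⟨g, e₁, e₂, h1, h2, h3, h4, ga, gb, gc⟩ := norm ht
    obtain ⟨g', e₁', e₂', k1, k2, k3, k4, ga', gb', gc'⟩ := norm ht'
    obtain ⟨z, z1, z2⟩ := pairs h1 h2 h3 h4 k1 k2 k3 k4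
    obtain ⟨k, rfl⟩ := h.cov.surj z
    have hkt : cj (k : Y) t = t := cj_of_commute (Subgroup.mem_centralizer_singleton_iff.1 k.2)
    refine ⟨g'⁻¹ * (k * g), ?_, ?_, ?_⟩ <;> rw [← cj_cj, ← cj_cj]
    · rw [ga, hkt, ← ga', cj_cj, inv_mul_cancel, cj_one]
    · rw [gb, h.cj_lift k h1, z1, ← gb', cj_cj, inv_mul_cancel, cj_one]
    · rw [gc, h.cj_lift k h2, z2, ← gc', cj_cj, inv_mul_cancel, cj_one]
  · rw [hΩ, upBase, Set.ncard_insert_of_notMem ?_ (Set.toFinite _), Set.InjOn.ncard_image ?_, f.base.card]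
    · exact fun a ha b hb k => lift_inj' h (hBE ha) (hBE hb) k
    · rintro ⟨e, he, k⟩
      exact lift_ne h (hBE he) k
  · intro e he hall
    have hc : Commute e t := hall t (Or.inl rfl)
    rcases (h.iff ⟨e, Subgroup.mem_centralizer_singleton_iff.2 hc.eq⟩).1 he with k | ⟨z, hz, k⟩
    · exact Or.inl (congrArg Subtype.val k)
    · have k' : e = (lift φ x₁ z : Y) := congrArg Subtype.val k
      refine Or.inr ⟨z, f.base.maximal hz fun b hb => ?_, k'.symm⟩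
      refine (h.cov.lift_comm h.seed hz (hBE hb)).1 (Subtype.ext (?_ : Commute (lift φ x₁ z : Y) _).eq)
      rw [← k']
      exact hall _ (Or.inr ⟨b, hb, rfl⟩)
  · rw [hcl, f.card_A]
  · intro W hW hcard
    have : Fact (Nat.Prime 2) := ⟨Nat.prime_two⟩
    letI : MulAction W (Dc t) :=
      { smul := fun g x => ⟨cj (g : Y) x, Dc_cj _ x.2⟩
        one_smul := fun x => Subtype.ext (cj_one _)
        mul_smul := fun g k x => Subtype.ext (cj_cj _ _ _).symm }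
    obtain ⟨⟨a, ha⟩, hfix⟩ := (IsPGroup.of_card hcard).nonempty_fixed_point_of_prime_not_dvd_card (Dc t) (by
      rw [Nat.card_coe_set_eq, hloc.card]; norm_num)
    obtain ⟨g, hg⟩ := isConj_iff.1 ha
    let W' := W.map (MulAut.conj g⁻¹).toMonoidHom
    have hWel : Cfsg.IsElementaryAbelian 2 W' := by
      have := hW.1
      refine ⟨inferInstance, ?_⟩
      rintro _ ⟨x, hx, rfl⟩
      rw [← map_pow, hW.2 x hx, map_one]
    have hWC : W' ≤ Cd t := by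
      rintro _ ⟨x, hx, rfl⟩
      refine Subgroup.mem_centralizer_singleton_iff.2 ?_
      have hxa : Commute x a := commute_of_cj (congrArg Subtype.val (hfix ⟨x, hx⟩))
      have := (commute_conj_iff g⁻¹ x a).2 hxa
      rw [show g⁻¹ * a * g⁻¹⁻¹ = t by rw [← hg]; group] at this
      exact this.eq
    obtain ⟨k, hk⟩ := f.elementary_conj hWC hWel
      (by rw [Subgroup.card_map_of_injective (MulEquiv.injective _), hcard])
    refine ⟨g * k, fun x hx => ?_⟩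
    obtain ⟨w, hw, e⟩ := hk x (hcl ▸ hx)
    rw [← cj_cj, ← e]
    show cj g (g⁻¹ * w * g⁻¹⁻¹) ∈ W
    simpa [cj, mul_assoc] using hw
  · intro a b c a' b' c' ha hb hc nab nac nbc ha' hb' hc' nab' nac' nbc'
    obtain ⟨n, hn, na⟩ := hback a ha
    obtain ⟨n', hn', na'⟩ := hback a' ha'
    have inB : ∀ {m : Y} {x z : Y}, cj m '' Ω = Ω → cj m x = t → z ∈ Ω → x ≠ z →
        ∃ e ∈ B, cj m z = (lift φ x₁ e : Y) := fun {m x z} hm hx hz hne => by
      rcases hm ▸ Set.mem_image_of_mem (cj m) hz with k | ⟨e, he, k⟩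
      · exact absurd (cj_inj m (hx.trans k.symm)) hne
      · exact ⟨e, he, k.symm⟩
    obtain ⟨e₁, h1, k1⟩ := inB hn na hb nab
    obtain ⟨e₂, h2, k2⟩ := inB hn na hc nac
    obtain ⟨e₁', h1', k1'⟩ := inB hn' na' hb' nab'
    obtain ⟨e₂', h2', k2'⟩ := inB hn' na' hc' nac'
    obtain ⟨k, hk, z1, z2⟩ := f.perm2 h1 h2 (fun e => nbc (cj_inj n (by rw [k1, k2, e]))) h1' h2'
      (fun e => nbc' (cj_inj n' (by rw [k1', k2', e])))
    have hkt : cj (k : Y) t = t := cj_of_commute (Subgroup.mem_centralizer_singleton_iff.1 k.2)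
    refine ⟨n'⁻¹ * (k * n), ?_, ?_, ?_, ?_⟩
    · rw [← cj_image_comp, ← cj_image_comp, hn, hΩ, cj_upBase h k hBE, hk, ← hΩ]
      conv_lhs => rw [← hn', cj_image_comp, inv_mul_cancel]
      ext y; simp [cj]
    all_goals rw [← cj_cj, ← cj_cj]
    · rw [na, hkt, ← na', cj_cj, inv_mul_cancel, cj_one]
    · rw [k1, h.cj_lift k (hBE h1), z1, ← k1', cj_cj, inv_mul_cancel, cj_one]
    · rw [k2, h.cj_lift k (hBE h2), z2, ← k2', cj_cj, inv_mul_cancel, cj_one]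
  · have himg : {S : Set Y | (∃ y, cj y '' Ω = S) ∧ t ∈ S} = upBase t φ x₁ '' {B' | IsBase22 E B'} := by
      ext S
      constructor
      · rintro ⟨⟨y, rfl⟩, b, hb, hbt⟩
        obtain ⟨n, hn, e⟩ := hmove b hb
        have hfix : cj (y * n) t = t := by rw [← cj_cj, e, hbt]
        refine ⟨cj (φ ⟨y * n, Subgroup.mem_centralizer_singleton_iff.2 (commute_of_cj hfix).eq⟩) '' ↑B,
          base_conj m22.closed f.base _, ?_⟩
        rw [← cj_upBase h _ hBE]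
        show cj (y * n) '' Ω = cj y '' Ω
        rw [← cj_image_comp, hn]
      · rintro ⟨B', hB', rfl⟩
        obtain ⟨z, rfl⟩ := m22.bases_conj f.base hB'
        obtain ⟨k, rfl⟩ := h.cov.surj z
        exact ⟨⟨k, cj_upBase h k hBE⟩, Or.inl rfl⟩
    rw [himg, Set.InjOn.ncard_image]
    · exact m22.odd_bases
    · exact fun B₁ h₁ B₂ h₂ k => upBase_inj h h₁.sub h₂.sub k
  · obtain ⟨b, hb⟩ := h.exists_nbr
    obtain ⟨l, hlen, hlm, hlp⟩ := h.five (Or.inl rfl) (Or.inr (Or.inl hb)) hb.2.2 hb.2.1.symm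
    refine ⟨l ++ [b, t], by rw [List.length_append, hlen]; exact ⟨3, rfl⟩, ?_, ?_⟩
    · intro y hy
      rcases List.mem_append.1 hy with k | k
      · exact h.om_sub (hlm y k).1
      · simp only [List.mem_cons, List.not_mem_nil, or_false] at k
        rcases k with rfl | rfl
        exacts [hb.1, h.d_mem]
    · rw [List.prod_append, hlp]
      simp only [List.prod_cons, List.prod_nil, mul_one]
      rw [mul_assoc, ← mul_assoc b b, h.sq hb.1, one_mul, h.cov.dd]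
  · intro L hL hn ho k hk
    have hZs := (TypeTop.main22 m22.group m22.prim m22.typ).1
    have hN : ((L.subgroupOf (Cd t)).map φ).Normal :=
      (⟨fun x hx g => hn g g.2 x hx⟩ : (L.subgroupOf (Cd t)).Normal).map φ h.cov.surj
    rcases hZs.eq_bot_or_eq_top_of_normal _ hN with e | e
    · have : φ ⟨k, hL hk⟩ = 1 := by
        rw [← Subgroup.mem_bot, ← e]
        exact ⟨⟨k, hL hk⟩, hk, rfl⟩
      exact (h.cov.ker' _ this).imp (congrArg Subtype.val) (congrArg Subtype.val)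
    · exfalso
      obtain ⟨a, ha⟩ : ∃ a, a ∈ B := f.exists_member
      obtain ⟨x, hx, hxa⟩ : a ∈ (L.subgroupOf (Cd t)).map φ := e ▸ Subgroup.mem_top a
      obtain ⟨m, ⟨j, rfl⟩, k1⟩ := ho x hx
      have k2 : φ x ^ (2 * j + 1) = 1 := by
        rw [← map_pow]
        rcases k1 with q | q
        · rw [show x ^ (2 * j + 1) = 1 from Subtype.ext q, map_one]
        · rw [show x ^ (2 * j + 1) = dC t from Subtype.ext q, h.cov.map_dC]
      rw [hxa, pow_succ, pow_mul, pow_two, mul_self m22.set (f.subE ha), one_pow, one_mul] at k2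
      exact ne_one m22.set (f.subE ha) k2

end FromHy

end CfsgLib.ThreeTrans.FiCent24
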