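import Mathlib
import Cfsg.Agent.Lib.ThreeTrans.FiCent24.Base23

/-! The subgroup of order 2^11 over a base of type M(23): its elements are products of at most three of
the 23 members, each size of product a single kind, and every involution is conjugate into it. -/

set_option autoImplicit false
set_option linter.unusedSectionVars false

namespace CfsgLib.ThreeTrans.FiCent24

open CfsgLib.ThreeTrans CfsgLib.ThreeTrans.FiCent23
open CfsgLib.ThreeTrans.TypeTop (IsProd isProd_one isProd_two isProd_three length_unique)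
open CfsgLib.ThreeTrans.Tower (mul_sq_one)
open CfsgLib.ThreeTrans.LocalSymThree (nbr nbr_symm)

universe u

variable {Y : Type u} [Group Y]

/-- Products of two members of a set. -/
def K2 (Ω0 : Set Y) : Set Y := {x | ∃ a ∈ Ω0, ∃ b ∈ Ω0, a ≠ b ∧ x = a * b}

/-- Products of three members of a set. -/
def K3 (Ω0 : Set Y) : Set Y :=
  {x | ∃ a ∈ Ω0, ∃ b ∈ Ω0, ∃ c ∈ Ω0, a ≠ b ∧ a ≠ c ∧ b ≠ c ∧ x = a * b * c}

variable [Finite Y] {t : Y} {Ω0 : Set Y}

namespace M23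

variable (h : M23 t Ω0)
include h

theorem set : Cfsg.IsThreeTranspositionSet (Dc t) := h.cls.1

theorem sq {x : Y} (hx : x ∈ Dc t) : x * x = 1 := mul_self h.set hx

theorem inv {x : Y} (hx : x ∈ Dc t) : x⁻¹ = x := inv_eq h.set hx

theorem closed : ConjClosed (Dc t) := conjClosed_of_class h.cls

theorem rel3 : NoRel (Dc t) 3 := h.rel 3 (by norm_num) (by norm_num)

theorem rel4 : NoRel (Dc t) 4 := h.rel 4 (by norm_num) (by norm_num)

theorem rel5 : NoRel (Dc t) 5 := h.rel 5 (by norm_num) (by norm_num)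

theorem len_unique {n n' : ℕ} {x : Y} (hn : 1 ≤ n) (hn3 : n ≤ 3) (hn' : 1 ≤ n') (hn3' : n' ≤ 3)
    (hp : IsProd (Dc t) n x) (hp' : IsProd (Dc t) n' x) : n = n' :=
  length_unique h.set h.rel3 h.rel4 h.rel5 hn hn3 hn' hn3' hp hp'

theorem tri {a b c : Y} (ha : a ∈ Ω0) (hb : b ∈ Ω0) (hc : c ∈ Ω0) (nab : a ≠ b) (nac : a ≠ c) (nbc : b ≠ c) :
    Triple (Dc t) a b c :=
  ⟨h.sub ha, h.sub hb, h.sub hc, nab, nac, nbc, h.comm a ha b hb, h.comm a ha c hc, h.comm b hb c hc⟩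

theorem prod_two {a b : Y} (ha : a ∈ Dc t) (hb : b ∈ nbr (Dc t) a) : IsProd (Dc t) 2 (a * b) :=
  isProd_two.2 ⟨a, ha, b, hb, rfl⟩

theorem prod_three {a b c : Y} (T : Triple (Dc t) a b c) : IsProd (Dc t) 3 (a * b * c) := by
  obtain ⟨ha, hb, hc, nab, nac, nbc, cab, cac, cbc⟩ := T
  exact isProd_three.2 ⟨a, ha, b, ⟨hb, nab.symm, cab⟩, c, ⟨⟨hc, nac.symm, cac⟩, hc, nbc.symm, cbc⟩, rfl⟩

theorem two_of_K2 {x : Y} (hx : x ∈ K2 Ω0) : IsProd (Dc t) 2 x := by
  obtain ⟨a, ha, b, hb, nab, rfl⟩ := hx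
  exact h.prod_two (h.sub ha) ⟨h.sub hb, nab.symm, h.comm a ha b hb⟩

theorem three_of_K3 {x : Y} (hx : x ∈ K3 Ω0) : IsProd (Dc t) 3 x := by
  obtain ⟨a, ha, b, hb, c, hc, nab, nac, nbc, rfl⟩ := hx
  exact h.prod_three (h.tri ha hb hc nab nac nbc)

theorem disj12 : Disjoint Ω0 (K2 Ω0) := Set.disjoint_left.2 fun x h1 h2 => by
  have := h.len_unique le_rfl (by norm_num) (by norm_num) (by norm_num) (isProd_one.2 (h.sub h1)) (h.two_of_K2 h2)
  omega

theorem disj13 : Disjoint Ω0 (K3 Ω0) := Set.disjoint_left.2 fun x h1 h2 => by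
  have := h.len_unique le_rfl (by norm_num) (by norm_num) (by norm_num) (isProd_one.2 (h.sub h1)) (h.three_of_K3 h2)
  omega

theorem disj23 : Disjoint (K2 Ω0) (K3 Ω0) := Set.disjoint_left.2 fun x h1 h2 => by
  have := h.len_unique (by norm_num) (by norm_num) (by norm_num) (by norm_num) (h.two_of_K2 h1) (h.three_of_K3 h2)
  omega

theorem commA {x y : Y} (hx : x ∈ Subgroup.closure Ω0) (hy : y ∈ Subgroup.closure Ω0) : Commute x y := by
  have step : ∀ a ∈ Ω0, Commute y a := fun a ha => by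
    have hle : Subgroup.closure Ω0 ≤ Subgroup.centralizer ({a} : Set Y) :=
      (Subgroup.closure_le _).2 fun b hb => Subgroup.mem_centralizer_singleton_iff.2 (h.comm b hb a ha).eq
    exact Subgroup.mem_centralizer_singleton_iff.1 (hle hy)
  have hle : Subgroup.closure Ω0 ≤ Subgroup.centralizer ({y} : Set Y) :=
    (Subgroup.closure_le _).2 fun b hb => Subgroup.mem_centralizer_singleton_iff.2 (step b hb).eq.symm
  exact Subgroup.mem_centralizer_singleton_iff.1 (hle hx)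

theorem sqA {x : Y} (hx : x ∈ Subgroup.closure Ω0) : x * x = 1 := by
  induction hx using Subgroup.closure_induction with
  | mem z hz => exact h.sq (h.sub hz)
  | one => exact one_mul 1
  | mul p q hp' hq' hp hq => exact mul_sq_one hp hq (h.commA hp' hq')
  | inv p _ hp => rw [← mul_inv_rev, hp, inv_one]

theorem forms {x : Y} (hx : x * x = 1) (hc : ∀ a ∈ Ω0, Commute x a) (h1 : x ≠ 1) :
    x ∈ Ω0 ∨ x ∈ K2 Ω0 ∨ x ∈ K3 Ω0 := by
  obtain ⟨n, hn, hn3, hp⟩ := h.classify x hx h1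
  interval_cases n
  · exact Or.inl (h.maximal x (isProd_one.1 hp) hc)
  · obtain ⟨a, ha, b, hb, rfl⟩ := isProd_two.1 hp
    have key := fun z (hz : z ∈ Ω0) =>
      commute_of_commute_two h.set ha hb.1 (h.sub hz) hb.2.1.symm hb.2.2 (hc z hz).symm
    exact Or.inr (Or.inl ⟨a, h.maximal a ha fun z hz => (key z hz).1.symm, b,
      h.maximal b hb.1 fun z hz => (key z hz).2.symm, hb.2.1.symm, rfl⟩)
  · obtain ⟨a, ha, b, hb, c, ⟨hca, hcb⟩, rfl⟩ := isProd_three.1 hp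
    have key : ∀ z ∈ Ω0, Commute z a ∧ Commute z b ∧ Commute z c := fun z hz => by
      by_cases e : z = c
      · subst e; exact ⟨hca.2.2.symm, hcb.2.2.symm, Commute.refl z⟩
      exact commute_of_commute_three h.set ha hb.1 hca.1 (h.sub hz) hb.2.1.symm hca.2.1.symm
        hcb.2.1.symm hb.2.2 hca.2.2 hcb.2.2 e (hc z hz).symm
    exact Or.inr (Or.inr ⟨a, h.maximal a ha fun z hz => (key z hz).1.symm, b,
      h.maximal b hb.1 fun z hz => (key z hz).2.1.symm, c, h.maximal c hca.1 fun z hz => (key z hz).2.2.symm,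
      hb.2.1.symm, hca.2.1.symm, hcb.2.1.symm, rfl⟩)

theorem cases {x : Y} (hx : x ∈ Subgroup.closure Ω0) (h1 : x ≠ 1) : x ∈ Ω0 ∨ x ∈ K2 Ω0 ∨ x ∈ K3 Ω0 :=
  h.forms (h.sqA hx) (fun a ha => h.commA hx (Subgroup.subset_closure ha)) h1

theorem ne_one_of_prod {n : ℕ} {x : Y} (hn : 1 ≤ n) (hn3 : n ≤ 3) (hp : IsProd (Dc t) n x) : x ≠ 1 := by
  rintro rfl
  interval_cases n
  · exact ne_one h.set (isProd_one.1 hp) rfl
  · obtain ⟨a, ha, b, hb, e⟩ := isProd_two.1 hp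
    exact hb.2.1 ((mul_eq_one_iff_eq' h.set hb.1).1 e.symm).symm
  · obtain ⟨l, hnd, hlen, hm, hcm, e⟩ := hp
    exact h.rel3 l hnd hlen hm hcm e

/-- The kinds have 23, 253 and 1771 members. -/
theorem card_K : (K2 Ω0).ncard = 253 ∧ (K3 Ω0).ncard = 1771 := by
  classical
  let F : Finset Y := Ω0.toFinite.toFinset
  have hF : F.card = 23 := by rw [← h.card, ← Set.ncard_coe_finset]; simp [F]
  have bound : ∀ k, (((F.powersetCard k).image fun S => S.toList.prod : Finset Y) : Set Y).ncard ≤ (23).choose k := by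
    intro k
    rw [Set.ncard_coe_finset]
    exact Finset.card_image_le.trans (by rw [Finset.card_powersetCard, hF])
  have perm : ∀ (S : Finset Y) (l : List Y), l.Nodup → l.toFinset = S → (∀ a ∈ l, a ∈ Ω0) →
      S.toList.prod = l.prod := by
    intro S l hl e hm
    subst e
    have hp : l.toFinset.toList.Perm l := List.toFinset_toList hl
    refine hp.prod_eq' ?_
    refine List.Pairwise.imp_of_mem (fun {_ _} ha hb _ => ?_) (List.nodup_iff_pairwise_ne.1 (Finset.nodup_toList _))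
    exact h.comm _ (hm _ (hp.mem_iff.1 ha)) _ (hm _ (hp.mem_iff.1 hb))
  have b2 : (K2 Ω0).ncard ≤ 253 := by
    refine (Set.ncard_le_ncard ?_ (Set.toFinite _)).trans ((bound 2).trans (by norm_num [Nat.choose]))
    rintro _ ⟨a, ha, b, hb, nab, rfl⟩
    refine Finset.mem_coe.2 (Finset.mem_image.2 ⟨{a, b}, Finset.mem_powersetCard.2 ⟨?_, Finset.card_pair nab⟩, ?_⟩)
    · simp [F, Set.insert_subset_iff, ha, hb]
    · rw [perm _ [a, b] (by simp [nab]) (by simp) (by simp [ha, hb])]; simp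
  have b3 : (K3 Ω0).ncard ≤ 1771 := by
    refine (Set.ncard_le_ncard ?_ (Set.toFinite _)).trans ((bound 3).trans (by norm_num [Nat.choose]))
    rintro _ ⟨a, ha, b, hb, c, hc, nab, nac, nbc, rfl⟩
    refine Finset.mem_coe.2 (Finset.mem_image.2 ⟨{a, b, c}, Finset.mem_powersetCard.2
      ⟨?_, Finset.card_eq_three.2 ⟨a, b, c, nab, nac, nbc, rfl⟩⟩, ?_⟩)
    · simp [F, Set.insert_subset_iff, ha, hb, hc]
    · rw [perm _ [a, b, c] (by simp [nab, nac, nbc]) (by simp) (by simp [ha, hb, hc])]; simp [mul_assoc]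
  have hcover : (↑(Subgroup.closure Ω0) : Set Y) ⊆ insert 1 (Ω0 ∪ (K2 Ω0 ∪ K3 Ω0)) := fun x hx => by
    by_cases e : x = 1
    · exact Or.inl e
    · exact Or.inr (h.cases hx e)
  have := Set.ncard_le_ncard hcover (Set.toFinite _)
  rw [← Nat.card_coe_set_eq, SetLike.coe_sort_coe, h.card_closure] at this
  have h1 := Set.ncard_insert_le (1 : Y) (Ω0 ∪ (K2 Ω0 ∪ K3 Ω0))
  have h2 := Set.ncard_union_le Ω0 (K2 Ω0 ∪ K3 Ω0)
  have h3 := Set.ncard_union_le (K2 Ω0) (K3 Ω0)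
  have := h.card
  constructor <;> omega

theorem mem_closure_K {x : Y} (hx : x ∈ Ω0 ∨ x ∈ K2 Ω0 ∨ x ∈ K3 Ω0) : x ∈ Subgroup.closure Ω0 := by
  rcases hx with k | ⟨a, ha, b, hb, -, rfl⟩ | ⟨a, ha, b, hb, c, hc, -, -, -, rfl⟩
  · exact Subgroup.subset_closure k
  · exact mul_mem (Subgroup.subset_closure ha) (Subgroup.subset_closure hb)
  · exact mul_mem (mul_mem (Subgroup.subset_closure ha) (Subgroup.subset_closure hb)) (Subgroup.subset_closure hc)

omit [Finite Y] in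
theorem deg {a : Y} (ha : a ∈ Dc t) : (nbr (Dc t) a).ncard = 3510 := h.loc.deg a ha

theorem exists_third {a b : Y} (ha : a ∈ Dc t) (hb : b ∈ nbr (Dc t) a) :
    ∃ c, Triple (Dc t) a b c := by
  obtain ⟨c, hca, hcb⟩ : (nbr (Dc t) a ∩ nbr (Dc t) b).Nonempty :=
    Set.nonempty_of_ncard_ne_zero (by
      rw [show (nbr (Dc t) a ∩ nbr (Dc t) b).ncard = 693 from h.loc.lam a ha b hb]; norm_num)
  exact ⟨c, ha, hb.1, hca.1, hb.2.1.symm, hca.2.1.symm, hcb.2.1.symm, hb.2.2, hca.2.2, hcb.2.2⟩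

theorem exists_second {a : Y} (ha : a ∈ Dc t) : ∃ b, b ∈ nbr (Dc t) a :=
  Set.nonempty_of_ncard_ne_zero (by rw [h.deg ha]; norm_num)

theorem exists_base_triple : ∃ a b c, a ∈ Ω0 ∧ b ∈ Ω0 ∧ c ∈ Ω0 ∧ a ≠ b ∧ a ≠ c ∧ b ≠ c ∧ a = t := by
  obtain ⟨b, hb, hb'⟩ : (Ω0 \ {t}).Nonempty := Set.nonempty_of_ncard_ne_zero (by
    rw [Set.ncard_sdiff_singleton_of_mem h.self, h.card]; norm_num)
  obtain ⟨c, hc, hc'⟩ : (Ω0 \ {t, b}).Nonempty := Set.nonempty_of_ncard_ne_zero (by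
    rw [Set.ncard_sdiff (by rintro x (rfl | rfl); exacts [h.self, hb]), h.card, Set.ncard_pair (Ne.symm hb')]
    norm_num)
  simp only [Set.mem_singleton_iff, Set.mem_insert_iff, not_or] at hb' hc'
  exact ⟨t, b, c, h.self, hb, hc, Ne.symm hb', Ne.symm hc'.1, Ne.symm hc'.2, rfl⟩

/-- Every involution is conjugate into the subgroup over the base. -/
theorem conj_into {x : Y} (hx : x * x = 1) : ∃ y, cj y x ∈ Subgroup.closure Ω0 := by
  by_cases h1 : x = 1
  · exact ⟨1, by rw [cj_one, h1]; exact one_mem _⟩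
  obtain ⟨p, q, r, hp, hq, hr, npq, npr, nqr, -⟩ := h.exists_base_triple
  have T' := h.tri hp hq hr npq npr nqr
  obtain ⟨n, hn, hn3, hpx⟩ := h.classify x hx h1
  interval_cases n
  · obtain ⟨b, hb⟩ := h.exists_second (isProd_one.1 hpx)
    obtain ⟨c, T⟩ := h.exists_third (isProd_one.1 hpx) hb
    obtain ⟨y, e, -, -⟩ := h.triples _ _ _ _ _ _ T T'
    exact ⟨y, e ▸ Subgroup.subset_closure hp⟩
  · obtain ⟨a, ha, b, hb, rfl⟩ := isProd_two.1 hpx
    obtain ⟨c, T⟩ := h.exists_third ha hb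
    obtain ⟨y, e, e', -⟩ := h.triples _ _ _ _ _ _ T T'
    exact ⟨y, by rw [cj_mul', e, e']; exact mul_mem (Subgroup.subset_closure hp) (Subgroup.subset_closure hq)⟩
  · obtain ⟨a, ha, b, hb, c, hc, rfl⟩ := isProd_three.1 hpx
    have T : Triple (Dc t) a b c :=
      ⟨ha, hb.1, hc.1.1, hb.2.1.symm, hc.1.2.1.symm, hc.2.2.1.symm, hb.2.2, hc.1.2.2, hc.2.2.2⟩
    obtain ⟨y, e, e', e''⟩ := h.triples _ _ _ _ _ _ T T'
    exact ⟨y, by
      rw [cj_mul', cj_mul', e, e', e'']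
      exact mul_mem (mul_mem (Subgroup.subset_closure hp) (Subgroup.subset_closure hq)) (Subgroup.subset_closure hr)⟩

end M23

end CfsgLib.ThreeTrans.FiCent24
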