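import Mathlib
import Cfsg.Agent.Lib.ThreeTrans.FiCent23.Srg
import Cfsg.Agent.Lib.ThreeTrans.Classif.SrgTables
import Cfsg.Agent.Lib.ThreeTrans.Classif.FromRefl.Main
import Cfsg.Agent.Lib.ThreeTrans.FiCent24.Base

/-! A closed subset of a class of type M(23) whose neighbourhoods are images of sets of common neighbours of two
non-commuting members: it has 3240 members, or it is connected, has 1080, and then at most 52 of them commute
with a product of four commuting ones. -/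

set_option autoImplicit false
set_option linter.unusedSectionVars false

namespace CfsgLib.ThreeTrans.FiCent24

open CfsgLib.ThreeTrans CfsgLib.ThreeTrans.FiCent23 CfsgLib.ThreeTrans.Classif
open CfsgLib.ThreeTrans.LocalSymThree (nbr nbr_symm)
open QuadraticMap

universe u

/-- A good class looking at a member like a set with 351 members of degree 126 has 1080 members. -/
theorem card_of_chart {G : Type u} [Group G] [Finite G] {D : Set G} {x : G} {Z : Type u} [Group Z] {E : Set Z}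
    {f : G → Z} (hG : Classif.Good D) (C : Classif.Chart D x f E) (hE : E.ncard = 351)
    (hdeg : ∀ e ∈ E, (nbr E e).ncard = 126) : D.ncard = 1080 := by
  obtain ⟨v, k, l, m, P, hm, hmk⟩ := exists_params hG
  obtain ⟨hk, hl⟩ := P.of_chart hG C hdeg
  rw [hE] at hk
  subst hk hl
  have hm' : m = 108 := List.mem_singleton.1 (mem_of_srgTest hG P hm hmk (ms := [108]) 14 (by norm_num)
    (by norm_num) (by norm_num) (by decide +kernel))
  obtain ⟨-, -, heq⟩ := Params.card_eq hG P hmk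
  rw [P.card]
  subst hm'
  omega

/-- Among the points of reflections of an eight-dimensional space few commute with a product of four
pairwise commuting ones. -/
theorem refl_four_bound {Z : Type u} [Group Z] [Finite Z] {E : Set Z} {Q : QuadraticForm (ZMod 3) (Fin 8 → ZMod 3)}
    {c : ZMod 3} {ψ : Z → Fin 8 → ZMod 3} (hs : Cfsg.IsThreeTranspositionSet E) (hE : ReflPts E Q c ψ)
    (hclosed : ∀ a ∈ E, ∀ b ∈ E, a * b * a ∈ E) {a : Fin 4 → Z} (ha : ∀ i, a i ∈ E) (hinj : Function.Injective a)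
    (hcomm : ∀ i j, Commute (a i) (a j)) :
    {x | x ∈ E ∧ Commute x (a 0 * a 1 * a 2 * a 3)}.ncard ≤ 52 := by
  classical
  let v : Fin 4 → Fin 8 → ZMod 3 := fun i => ψ (a i)
  have hc := hE.ne
  have horth : ∀ i j, i ≠ j → polar Q (v i) (v j) = 0 := fun i j hij =>
    ((hE.comm _ (ha i) _ (ha j)).1 (hcomm i j)).resolve_left (hinj.ne hij)
  have hnorm : ∀ i, polar Q (v i) (v i) = 2 * c := fun i => by rw [FromRefl.bself, hE.norm _ (ha i)]
  have hdiv : ∀ p : ZMod 3, ∀ e : ZMod 3, e ≠ 0 → p / e = e * p := fun p e he => by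
    have key : ∀ p e : ZMod 3, e ≠ 0 → p = e * p * e := by decide
    exact (div_eq_iff he).2 (key p e he)
  have step : ∀ i, ∀ y ∈ E, ∀ z, (ψ y = z ∨ ψ y = -z) →
      (ψ (a i * y * a i) = FromRefl.rf Q c (v i) z ∨ ψ (a i * y * a i) = -FromRefl.rf Q c (v i) z) := by
    intro i y hy z hz
    have h := hE.conj _ (ha i) _ hy
    simp only [hdiv _ _ hc] at h
    change ψ (a i * y * a i) = FromRefl.rf Q c (v i) (ψ y) ∨ ψ (a i * y * a i) = -FromRefl.rf Q c (v i) (ψ y) at h
    rcases hz with e | e <;> rw [e] at h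
    · exact h
    · rw [FromRefl.rf_neg_arg, neg_neg] at h
      exact h.symm
  let comb : (Fin 4 → ZMod 3) → Fin 8 → ZMod 3 := fun r => ∑ i, r i • v i
  have hpc : ∀ r i, polar Q (v i) (comb r) = r i * (2 * c) := fun r i => by
    show polar Q (v i) (∑ j, r j • v j) = _
    simp only [Fin.sum_univ_four, polar_add_right, FromRefl.bsmul_right]
    fin_cases i <;> simp [horth, hnorm]
  let p : (Fin 8 → ZMod 3) →+ (Fin 4 → ZMod 3) :=
    AddMonoidHom.mk' (fun z i => polar Q (v i) z) fun z w => funext fun i => polar_add_right ..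
  have hsurj : Function.Surjective p := fun r => by
    refine ⟨comb fun i => r i * (2 * c), funext fun i => ?_⟩
    show polar Q (v i) _ = _
    rw [hpc]
    have : ∀ q e : ZMod 3, e ≠ 0 → q * (2 * e) * (2 * e) = q := by decide
    exact this _ _ hc
  have hker : {z : Fin 8 → ZMod 3 | p z = 0}.ncard = 81 := by
    rw [show {z : Fin 8 → ZMod 3 | p z = 0} = ↑p.ker from rfl, ← Nat.card_coe_set_eq]
    have h1 := p.ker.card_mul_index
    rw [AddSubgroup.index_ker, p.range_eq_top_of_surjective hsurj, AddSubgroup.card_top] at h1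
    have e1 : Nat.card (Fin 4 → ZMod 3) = 81 := by simp
    have e2 : Nat.card (Fin 8 → ZMod 3) = 6561 := by simp
    rw [e1, e2] at h1
    rw [SetLike.coe_sort_coe]
    omega
  let K : Set (Fin 8 → ZMod 3) := {z | p z = 0} \ {0} ∪ comb '' {r | ∑ i, r i * r i = 1}
  have hK : K.ncard ≤ 104 := by
    refine (Set.ncard_union_le _ _).trans ?_
    have h1 : ({z | p z = 0} \ {(0 : Fin 8 → ZMod 3)}).ncard = 80 := by
      rw [Set.ncard_sdiff_singleton_of_mem (show (0 : Fin 8 → ZMod 3) ∈ {z | p z = 0} from map_zero p), hker]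
    have h2 : (comb '' {r | ∑ i, r i * r i = 1}).ncard ≤ 24 := by
      refine (Set.ncard_image_le (Set.toFinite _)).trans ?_
      rw [show {r : Fin 4 → ZMod 3 | ∑ i, r i * r i = 1} = ↑(Finset.univ.filter fun r : Fin 4 → ZMod 3 =>
        ∑ i, r i * r i = 1) by ext; simp, Set.ncard_coe_finset]
      decide +kernel
    omega
  set S := {x | x ∈ E ∧ Commute x (a 0 * a 1 * a 2 * a 3)} with hS
  have hmem : ∀ x ∈ S, ψ x ∈ K ∧ -ψ x ∈ K := by
    rintro x ⟨hx, hxw⟩
    have hx3 := hclosed _ (ha 3) _ hx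
    have hx2 := hclosed _ (ha 2) _ hx3
    have hx1 := hclosed _ (ha 1) _ hx2
    have hfix : a 0 * (a 1 * (a 2 * (a 3 * x * a 3) * a 2) * a 1) * a 0 = x := by
      have inv : ∀ i, (a i)⁻¹ = a i := fun i => inv_eq hs (ha i)
      have e1 : (a 0 * a 1 * a 2 * a 3) * x * (a 0 * a 1 * a 2 * a 3)⁻¹ = x := by rw [← hxw.eq, mul_inv_cancel_right]
      simpa [inv, mul_inv_rev, mul_assoc] using e1
    have h0 := step 0 _ hx1 _ (step 1 _ hx2 _ (step 2 _ hx3 _ (step 3 x hx (ψ x) (Or.inl rfl))))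
    rw [hfix] at h0
    set z := ψ x with hz
    have hexp : FromRefl.rf Q c (v 0) (FromRefl.rf Q c (v 1) (FromRefl.rf Q c (v 2) (FromRefl.rf Q c (v 3) z))) =
        z - comb fun i => c * polar Q (v i) z := by
      simp only [FromRefl.rf, polar_sub_right, FromRefl.bsmul_right, horth 0 1 (by decide), horth 0 2 (by decide),
        horth 0 3 (by decide), horth 1 2 (by decide), horth 1 3 (by decide), horth 2 3 (by decide), mul_zero,
        sub_zero, comb, Fin.sum_univ_four]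
      module
    rw [hexp] at h0
    have hz0 : z ≠ 0 := fun e => hc (by rw [← hE.norm x hx, ← hz, e, QuadraticMap.map_zero])
    rcases h0 with e | e
    · -- fixed: orthogonal to all four
      have h1 : ∀ i, polar Q (v i) z = 0 := fun i => by
        have := congrArg (polar Q (v i)) e
        rw [polar_sub_right, hpc] at this
        have key : ∀ q e : ZMod 3, e ≠ 0 → q = q - e * q * (2 * e) → q = 0 := by decide
        exact key _ _ hc this
      refine ⟨Or.inl ⟨funext h1, hz0⟩, Or.inl ⟨funext fun i => ?_, neg_ne_zero.2 hz0⟩⟩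
      show polar Q (v i) (-z) = 0
      rw [polar_neg_right, h1, neg_zero]
    · -- negated: in the span
      have e2 : z = comb fun i => -(c * polar Q (v i) z) := by
        have e3 : z + z = comb fun i => c * polar Q (v i) z := by
          rw [neg_sub] at e
          nth_rewrite 1 [e]
          module
        have e4 : z = -(z + z) := by
          funext j
          have : ∀ t : ZMod 3, t = -(t + t) := by decide
          exact this _
        conv_lhs => rw [e4, e3]
        simp [comb]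
      have hQ : ∀ r : Fin 4 → ZMod 3, Q (comb r) = c * ∑ i, r i * r i := fun r => by
        simp only [comb, Fin.sum_univ_four, FromRefl.qadd, FromRefl.qsmul, FromRefl.bsmul_right, polar_add_left,
          FromRefl.bsmul_left, hE.norm _ (ha _), horth 0 1 (by decide), horth 0 2 (by decide), horth 0 3 (by decide),
          horth 1 2 (by decide), horth 1 3 (by decide), horth 2 3 (by decide), v]
        ring
      set r : Fin 4 → ZMod 3 := fun i => -(c * polar Q (v i) z)
      have hsum : ∑ i, r i * r i = 1 := by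
        have := hQ r
        rw [← e2, hz, hE.norm x hx] at this
        have key : ∀ e s : ZMod 3, e ≠ 0 → e = e * s → s = 1 := by decide
        exact key _ _ hc this
      refine ⟨Or.inr ⟨r, hsum, e2.symm⟩, Or.inr ⟨-r, by simpa using hsum, ?_⟩⟩
      rw [e2]; simp [comb]
  have hfin : (ψ '' S ∪ (fun z => -z) '' (ψ '' S)).ncard = 2 * S.ncard := by
    have hi : Set.InjOn ψ S := fun x hx y hy e => hE.inj x hx.1 y hy.1 (Or.inl e)
    rw [Set.ncard_union_eq ?_ (Set.toFinite _) (Set.toFinite _), Set.ncard_image_of_injective _ neg_injective,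
      hi.ncard_image, two_mul]
    refine Set.disjoint_left.2 ?_
    rintro _ ⟨x, hx, rfl⟩ ⟨_, ⟨y, hy, rfl⟩, e⟩
    have hxy := hE.inj x hx.1 y hy.1 (Or.inr e.symm)
    subst hxy
    have key : ∀ t : ZMod 3, -t = t → t = 0 := by decide
    exact hc (by rw [← hE.norm x hx.1, show ψ x = 0 from funext fun j => key _ (congrFun e j), QuadraticMap.map_zero])
  have := Set.ncard_le_ncard (show ψ '' S ∪ (fun z => -z) '' (ψ '' S) ⊆ K from ?_) (Set.toFinite _)
  · rw [hfin] at this
    omega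
  rintro _ (⟨x, hx, rfl⟩ | ⟨_, ⟨x, hx, rfl⟩, rfl⟩)
  exacts [(hmem x hx).1, (hmem x hx).2]

variable {Y : Type u} [Group Y] [Finite Y] {t : Y} {Ω0 : Set Y}

namespace M23

variable (h : M23 t Ω0)
include h

/-- At each member the set looks like reflections of a seven-dimensional space. -/
theorem muSet_local {S : Set Y} {s : ℕ} (hS : MuData (Dc t) S s) :
    (∀ a ∈ S, (S ∩ nbr (Dc t) a).ncard = 351 ∧
      ∀ b ∈ S ∩ nbr (Dc t) a, ((S ∩ nbr (Dc t) a) ∩ nbr (Dc t) b).ncard = 126) ∧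
      LocalRefl (Dc t) S id 7 := by
  classical
  obtain ⟨-, -, hmu⟩ := h.level
  have main : ∀ a ∈ S, ((S ∩ nbr (Dc t) a).ncard = 351 ∧
      ∀ b ∈ S ∩ nbr (Dc t) a, ((S ∩ nbr (Dc t) a) ∩ nbr (Dc t) b).ncard = 126) ∧
      ∃ (Q : QuadraticForm (ZMod 3) (Fin 7 → ZMod 3)) (e : ZMod 3) (ψ : Y → Fin 7 → ZMod 3),
        ReflPts (S ∩ nbr (Dc t) a) Q e ψ := by
    intro a ha
    obtain ⟨p, hp, hap, θ, hθ, hθc, hθm, hθS⟩ := hS.swap a ha
    obtain ⟨h1, h2, Q, e, ψ, hψ, -⟩ := hmu a (hS.sub ha) p hp hap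
    set M := nbr (Dc t) a ∩ nbr (Dc t) p
    have hbij : Set.BijOn θ M (θ '' M) := (hθ.injOn.mono Set.inter_subset_left).bijOn_image
    obtain ⟨θ', hθ'⟩ : ∃ θ' : Y → Y, θ' = Function.invFunOn θ M := ⟨_, rfl⟩
    have hleft : ∀ y ∈ M, θ' (θ y) = y := fun y hy => hθ' ▸ hbij.injOn.leftInvOn_invFunOn hy
    have hbij' : Set.BijOn θ' (θ '' M) M := by
      refine ⟨?_, ?_, fun y hy => ⟨θ y, ⟨y, hy, rfl⟩, hleft y hy⟩⟩
      · rintro _ ⟨y, hy, rfl⟩; rwa [hleft y hy]
      · rintro _ ⟨y, hy, rfl⟩ _ ⟨y', hy', rfl⟩ k; rw [hleft y hy, hleft y' hy'] at k; rw [k]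
    refine ⟨⟨by rw [hθS, hbij.injOn.ncard_image, h1], ?_⟩, Q, e, ψ ∘ θ', ?_⟩
    · intro b hb
      rw [hθS] at hb
      obtain ⟨b', hb', rfl⟩ := hb
      rw [← h2 b' hb', hθS, ← (hbij.injOn.mono Set.inter_subset_left).ncard_image (f := θ)
        (s := M ∩ nbr (Dc t) b')]
      congr 1
      ext y
      constructor
      · rintro ⟨⟨x, hx, rfl⟩, -, hne, hc⟩
        exact ⟨x, ⟨hx, hx.1.1, fun k => hne (by rw [k]), (hθc b' hb'.1 x hx.1).1 hc⟩, rfl⟩
      · rintro ⟨x, ⟨hx, -, hne, hc⟩, rfl⟩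
        exact ⟨⟨x, hx, rfl⟩, (hθ.mapsTo hx.1).1, fun k => hne (hθ.injOn hx.1 hb'.1 k),
          (hθc b' hb'.1 x hx.1).2 hc⟩
    · rw [hθS]
      refine hψ.transport θ' hbij' ?_ ?_
      · rintro _ ⟨u, hu, rfl⟩ _ ⟨w, hw, rfl⟩
        rw [hleft u hu, hleft w hw, hθc u hu.1 w hw.1]
      · rintro _ ⟨u, hu, rfl⟩ _ ⟨w, hw, rfl⟩
        have hmem : θ u * θ w * θ u ∈ θ '' M := by
          rw [← hθS]
          exact ⟨hS.closed _ (hθS.ge ⟨u, hu, rfl⟩).1 _ (hθS.ge ⟨w, hw, rfl⟩).1,
            nbr_closed h.closed (hθS.ge ⟨u, hu, rfl⟩).2 (hθS.ge ⟨w, hw, rfl⟩).2⟩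
        obtain ⟨v, hv, ev⟩ := hmem
        rw [hleft u hu, hleft w hw, ← ev, hleft v hv]
        exact hθ.injOn hv.1 (nbr_closed h.closed hu.1 hw.1) (by rw [ev, hθm u hu.1 w hw.1])
  refine ⟨fun a ha => (main a ha).1, hS.sub, hS.ne, hS.closed, fun a _ b _ k => k, fun a _ b _ => Iff.rfl,
    fun a _ b _ => rfl, fun a ha => ?_⟩
  obtain ⟨Q, e, ψ, hψ⟩ := (main a ha).2
  exact ⟨Q, e, ψ, by rwa [Set.image_id]⟩

/-- Bounds for a subset of inner degree 351. -/
theorem bound {S : Set Y} (hS : S ⊆ Dc t) (hne : S.Nonempty) (ht : ∀ a ∈ S, (S ∩ nbr (Dc t) a).ncard = 351) :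
    S.ncard ≤ 3240 ∧ (S.ncard = 3240 → ∀ w ∈ Dc t, w ∉ S → (S ∩ nbr (Dc t) w).ncard = 360) := by
  classical
  let EF := (Dc t).toFinite.toFinset
  let SF := S.toFinite.toFinset
  let R : Y → Y → Prop := fun a b => a ∈ Dc t ∧ b ∈ Dc t ∧ b ≠ a ∧ Commute a b
  have hsub : SF ⊆ EF := fun x hx => by
    simp only [SF, EF, Set.Finite.mem_toFinset] at hx ⊢; exact hS hx
  have hdeg : ∀ w ∈ Dc t, deg' R SF w = (S ∩ nbr (Dc t) w).ncard := fun w hw => by
    rw [deg']
    congr 1
    ext a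
    simp only [SF, R, Set.Finite.mem_toFinset, Set.mem_ofPred_eq, Set.mem_inter_iff]
    exact ⟨fun k => ⟨k.1, k.2.1, Ne.symm k.2.2.2.1, k.2.2.2.2.symm⟩,
      fun k => ⟨k.1, k.2.1, hw, Ne.symm k.2.2.1, k.2.2.2.symm⟩⟩
  have hnbr : ∀ a ∈ Dc t, {w | w ∈ EF ∧ R a w} = nbr (Dc t) a := fun a ha => by
    ext w
    simp only [EF, R, Set.Finite.mem_toFinset, Set.mem_ofPred_eq]
    exact ⟨fun k => ⟨k.1, k.2.2.2.1, k.2.2.2.2⟩, fun k => ⟨k.1, ha, k.1, k.2.1, k.2.2⟩⟩
  have hpair : ∀ a ∈ Dc t, ∀ b ∈ Dc t, {w | w ∈ EF ∧ R a w ∧ R b w} = nbr (Dc t) a ∩ nbr (Dc t) b :=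
    fun a ha b hb => by
    ext w
    rw [← hnbr a ha, ← hnbr b hb]
    simp only [Set.mem_ofPred_eq, Set.mem_inter_iff]
    exact ⟨fun k => ⟨⟨k.1, k.2.1⟩, k.1, k.2.2⟩, fun k => ⟨k.1.1, k.1.2, k.2.2⟩⟩
  have hmem : ∀ {a}, a ∈ EF → a ∈ Dc t := fun ha => by simpa [EF] using ha
  have hmemS : ∀ {a}, a ∈ SF ↔ a ∈ S := fun {a} => by simp [SF]
  obtain ⟨h1, h2⟩ := srg_sums (k := 3510) (l := 693) (m := 351) (t := 351) EF R SF hsub
    (fun a b k => ⟨k.2.1, k.1, Ne.symm k.2.2.1, k.2.2.2.symm⟩) (fun a k => k.2.2.1 rfl)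
    (fun a ha => by rw [hnbr a (hmem ha)]; exact h.deg (hmem ha))
    (fun a ha b hb k => by
      rw [hpair a (hmem ha) b (hmem hb)]; exact h.loc.lam a (hmem ha) b ⟨hmem hb, k.2.2.1, k.2.2.2⟩)
    (fun a ha b hb hne k => by
      rw [hpair a (hmem ha) b (hmem hb)]
      exact h.loc.mu a (hmem ha) b (hmem hb) fun c => k ⟨hmem ha, hmem hb, Ne.symm hne, c⟩)
    (fun a ha => (hdeg a (hS (hmemS.1 ha))).trans (ht a (hmemS.1 ha)))
  have hcard : SF.card = S.ncard := by rw [← Set.ncard_coe_finset]; simp [SF]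
  have hin : ∀ w ∈ SF, deg' R SF w = 351 := fun a ha => (hdeg a (hS (hmemS.1 ha))).trans (ht a (hmemS.1 ha))
  set s := S.ncard with hs
  have hE : (EF \ SF).card = 31671 - s ∧ s ≤ 31671 := by
    rw [Finset.card_sdiff_of_subset hsub, hcard, show EF.card = 31671 by
      rw [← Set.ncard_coe_finset]; simpa [EF] using h.loc.card]
    exact ⟨rfl, by
      have := Set.ncard_le_ncard hS (Set.toFinite _)
      rw [h.loc.card] at this; exact this⟩
  rw [← Finset.sum_sdiff hsub, Finset.sum_congr rfl (fun w hw => hin w hw), Finset.sum_const, smul_eq_mul,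
    hcard] at h1
  rw [← Finset.sum_sdiff hsub, Finset.sum_congr rfl (fun w hw => by rw [hin w hw] : ∀ w ∈ SF, deg' R SF w * deg' R SF w = 351 * 351),
    Finset.sum_const, smul_eq_mul, hcard] at h2
  set O := EF \ SF with hO
  have hs1 : (∑ w ∈ O, (deg' R SF w : ℤ)) = 3159 * s := by
    have := congrArg (fun z : ℕ => (z : ℤ)) h1
    push_cast at this
    linarith
  have hs2 : (∑ w ∈ O, (deg' R SF w : ℤ) ^ 2) = 351 * (s : ℤ) ^ 2 := by
    push_cast at h2
    simp only [pow_two]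
    linarith
  have hOc : (O.card : ℤ) = 31671 - s := by omega
  have hcs : (3159 * (s : ℤ)) ^ 2 ≤ (31671 - s) * (351 * (s : ℤ) ^ 2) := by
    rw [← hs1, ← hs2, ← hOc]
    exact sq_sum_le_card_mul_sum_sq
  have hpos : 0 < (s : ℤ) := by exact_mod_cast (Set.ncard_pos (Set.toFinite _)).2 hne
  refine ⟨?_, fun e w hw hwS => ?_⟩
  · by_contra hlt
    push Not at hlt
    have h1 : 0 < (s : ℤ) - 3240 := by omega
    nlinarith [mul_pos (mul_pos hpos hpos) h1]
  · have hz : ∑ x ∈ O, ((deg' R SF x : ℤ) - 360) ^ 2 = 0 := by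
      simp only [sub_sq, Finset.sum_add_distrib, Finset.sum_sub_distrib, ← Finset.sum_mul, ← Finset.mul_sum,
        Finset.sum_const, nsmul_eq_mul, hs1, hs2, hOc, e]
      norm_num
    have hwO : w ∈ O := by
      simp only [hO, Finset.mem_sdiff, hmemS]
      exact ⟨by simpa [EF] using hw, hwS⟩
    have := (Finset.sum_eq_zero_iff_of_nonneg fun x _ => sq_nonneg _).1 hz w hwO
    rw [← hdeg w hw]
    have := pow_eq_zero_iff (n := 2) (by norm_num) |>.1 this
    omega

/-- Such a set has 3240 members, or few of them commute with a product of four commuting ones. -/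
theorem muSet_cases {S : Set Y} {s : ℕ} (hS : MuData (Dc t) S s) (h702 : S.ncard ≠ 702) :
    S.ncard = 3240 ∨ ∀ a : Fin 4 → Y, (∀ i, a i ∈ S) → Function.Injective a → (∀ i j, Commute (a i) (a j)) →
      {x | x ∈ S ∧ Commute x (a 0 * a 1 * a 2 * a 3)}.ncard ≤ 52 := by
  classical
  obtain ⟨hloc, hL⟩ := h.muSet_local hS
  obtain ⟨hle, -⟩ := h.bound hS.sub hS.ne fun a ha => (hloc a ha).1
  obtain ⟨hsemi, hcard, -, hcharts⟩ := hL.semi h.closed (by norm_num) (k := 351) (by norm_num)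
    (fun a ha => (hloc a ha).1) (by omega)
  set T := subImage S with hT
  -- what a chart sees
  have hlook : ∀ a ∈ S, (id '' (S ∩ nbr (Dc t) a)).ncard = 351 ∧
      ∀ e ∈ id '' (S ∩ nbr (Dc t) a), (nbr (id '' (S ∩ nbr (Dc t) a)) e).ncard = 126 := by
    intro a ha
    rw [Set.image_id]
    refine ⟨(hloc a ha).1, fun e he => ?_⟩
    rw [← (hloc a ha).2 e he]
    congr 1
    ext z
    exact ⟨fun k => ⟨k.1, hS.sub k.1.1, k.2⟩, fun k => ⟨k.1, k.2.2⟩⟩
  by_cases hconn : (Cfsg.commutingGraph T).Connected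
  · right
    intro a ha hinj hcomm
    have hgood := hsemi.good hconn
    let q : ↥(Subgroup.closure S) → ↥(Subgroup.closure S) ⧸ Subgroup.center ↥(Subgroup.closure S) := fun y => (y : ↥(Subgroup.closure S) ⧸ Subgroup.center ↥(Subgroup.closure S))
    let A : Fin 4 → ↥(Subgroup.closure S) := fun i => ⟨a i, Subgroup.subset_closure (ha i)⟩
    have hqi : Set.InjOn q {y : ↥(Subgroup.closure S) | (y : Y) ∈ S} := (Set.ncard_image_iff (Set.toFinite _)).1 (by
      rw [show q '' {y : ↥(Subgroup.closure S) | (y : Y) ∈ S} = T from rfl, hcard]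
      exact Set.ncard_congr (fun y hy => ⟨y, Subgroup.subset_closure hy⟩) (fun y hy => hy)
        (fun y z _ _ e => congrArg Subtype.val e) fun y hy => ⟨y, hy, rfl⟩)
    obtain ⟨x₀, hx₀⟩ := hS.ne
    obtain ⟨b, hb, f₂, C⟩ := hcharts (q ⟨x₀, Subgroup.subset_closure hx₀⟩) ⟨_, hx₀, rfl⟩
    obtain ⟨Q, c, ψ, hψ⟩ := hL.pts b hb
    obtain ⟨Q', ψ', -, -, -, hψ'⟩ := FromRefl.from_refl hgood C hψ (by norm_num)
    have hb52 := refl_four_bound hgood.set.hD.closed.set hψ'
      (fun y hy z hz => conj_mem_left hgood.set.hD.closed hy hz) (a := fun i => q (A i))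
      (fun i => ⟨A i, ha i, rfl⟩)
      (fun i j e => hinj (congrArg Subtype.val (hqi (ha i) (ha j) e)))
      (fun i j => ((show Commute (A i) (A j) from Subtype.ext (hcomm i j).eq).map (QuotientGroup.mk' _)))
    refine le_trans ?_ hb52
    refine Set.ncard_le_ncard_of_injOn (fun x => if hx : x ∈ S then q ⟨x, Subgroup.subset_closure hx⟩ else q 1)
      ?_ ?_ (Set.toFinite _)
    · rintro x ⟨hx, hxc⟩
      simp only [dif_pos hx]
      refine ⟨⟨_, hx, rfl⟩, ?_⟩
      exact (show Commute (⟨x, Subgroup.subset_closure hx⟩ : ↥(Subgroup.closure S)) (A 0 * A 1 * A 2 * A 3) from Subtype.ext hxc.eq).map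
        (QuotientGroup.mk' _)
    · rintro x ⟨hx, -⟩ y ⟨hy, -⟩ e
      simp only [dif_pos hx, dif_pos hy] at e
      exact congrArg Subtype.val (hqi hx hy e)
  · left
    let QS := ↥(Subgroup.closure S) ⧸ Subgroup.center ↥(Subgroup.closure S)
    obtain ⟨L, hsplit⟩ := hsemi.split hconn
    have := hsplit.normal
    have hclass : ∀ x ∈ T, (cosetClass T L x).ncard = 1080 := by
      intro x hx
      obtain ⟨b, hb, f₂, hC⟩ := hcharts x hx
      set E' := id '' (S ∩ nbr (Dc t) b)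
      have hxC : x ∈ coverGroup L x := Subgroup.mem_sup_right (Subgroup.mem_zpowers x)
      have hnb : ∀ y ∈ nbr T x, y ∈ coverGroup L x ∧ x⁻¹ * y ∈ L := fun y hy => by
        have k : x⁻¹ * y ∈ L := by_contra fun k => hsplit.far x hx y hy.1 k hy.2.2
        refine ⟨?_, k⟩
        rw [show y = x * (x⁻¹ * y) by group]
        exact (coverGroup L x).mul_mem hxC (Subgroup.mem_sup_left k)
      set O := {y : coverGroup L x | (y : QS) ∈ cosetClass T L x}
      have hdown : ∀ y : coverGroup L x, y ∈ nbr O ⟨x, hxC⟩ → (y : QS) ∈ nbr T x := fun y hy =>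
        ⟨hy.1.1, fun k => hy.2.1 (Subtype.ext k), congrArg Subtype.val hy.2.2⟩
      have hC' : Chart O ⟨x, hxC⟩ (fun y : coverGroup L x => f₂ (y : QS)) E' := by
        refine ⟨⟨hx, by simp [L.one_mem]⟩, ⟨fun y hy => hC.bij.mapsTo (hdown y hy),
          fun y hy z hz k => Subtype.ext (hC.bij.injOn (hdown y hy) (hdown z hz) k), fun z hz => ?_⟩,
          fun y hy z hz => ?_, fun y hy z hz => hC.conj _ (hdown y hy) _ (hdown z hz)⟩
        · obtain ⟨y, hy, rfl⟩ := hC.bij.surjOn hz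
          exact ⟨⟨y, (hnb y hy).1⟩, ⟨⟨hy.1, (hnb y hy).2⟩, fun k => hy.2.1 (congrArg Subtype.val k),
            Subtype.ext hy.2.2⟩, rfl⟩
        · rw [hC.comm _ (hdown y hy) _ (hdown z hz)]
          exact ⟨fun k => Subtype.ext k, fun k => congrArg Subtype.val k⟩
      rw [← card_of_chart (hsplit.good x hx) hC' (hlook b hb).1 (hlook b hb).2]
      refine (Set.ncard_congr (fun (y : coverGroup L x) _ => (y : QS)) (fun y hy => hy) (fun y z _ _ e => Subtype.ext e)
        fun y hy => ⟨⟨y, ?_⟩, hy, rfl⟩).symm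
      rw [show y = x * (x⁻¹ * y) by group]
      exact (coverGroup L x).mul_mem hxC (Subgroup.mem_sup_left hy.2)
    obtain ⟨a, ha, -⟩ := hsemi.hE.two
    obtain ⟨b, hb, hab⟩ := hsplit.other a ha
    have hc := hsemi.hE.closed
    have hs := hc.set
    have hnc := hsplit.far a ha b hb hab
    set c := a * b * a with hc'
    have hcD : c ∈ T := conj_mem_left hc ha hb
    have hac : a⁻¹ * c ∉ L := by
      intro k
      have h1 := hsplit.normal.conj_mem _ k a
      apply hab
      have h2 : a * (a⁻¹ * c) * a⁻¹ = a⁻¹ * b := by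
        rw [hc', inv_eq hs ha]; simp [mul_assoc, mul_self hs ha, mul_self_mul hs ha]
      exact h2 ▸ h1
    have hbc : b⁻¹ * c ∉ L := by
      intro k
      apply hab
      have h2 : b⁻¹ * c = (a⁻¹ * b)⁻¹ ^ 2 := by
        rw [hc', inv_eq hs ha, inv_eq hs hb, mul_inv_rev, inv_eq hs ha, inv_eq hs hb, pow_two]
        simp [mul_assoc]
      have h3 : (a⁻¹ * b) ^ 3 = 1 := by rw [inv_eq hs ha]; exact pow_three_of_not_commute hs ha hb hnc
      have h4 : a⁻¹ * b = (a⁻¹ * b)⁻¹ ^ 2 := by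
        rw [inv_pow, eq_inv_iff_mul_eq_one, ← pow_succ', h3]
      rw [h4, ← h2]
      exact k
    have hdis : ∀ {x y}, x⁻¹ * y ∉ L → Disjoint (cosetClass T L x) (cosetClass T L y) := fun {x y} k =>
      Set.disjoint_left.2 fun z hzx hzy => k (by simpa [mul_assoc] using L.mul_mem hzx.2 (L.inv_mem hzy.2))
    have h3 : (cosetClass T L a ∪ cosetClass T L b ∪ cosetClass T L c).ncard = 3240 := by
      rw [Set.ncard_union_eq (Set.disjoint_union_left.2 ⟨hdis hac, hdis hbc⟩), Set.ncard_union_eq (hdis hab),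
        hclass a ha, hclass b hb, hclass c hcD]
    have := Set.ncard_le_ncard (show cosetClass T L a ∪ cosetClass T L b ∪ cosetClass T L c ⊆ T from
      Set.union_subset (Set.union_subset (fun y hy => hy.1) fun y hy => hy.1) fun y hy => hy.1) (Set.toFinite _)
    omega

end M23

end CfsgLib.ThreeTrans.FiCent24
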