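import Mathlib
import Cfsg.Agent.Lib.ThreeTrans.FiCent24.Base

/-! An involution outside a subgroup of index two whose centraliser there is of type M(23): the members
of its class in its centraliser are itself and the twists of the transpositions. -/

set_option autoImplicit false
set_option linter.unusedSectionVars false

namespace CfsgLib.ThreeTrans.FiCent24

open CfsgLib.ThreeTrans CfsgLib.ThreeTrans.FiCent23
open CfsgLib.ThreeTrans.Tower (mul_sq_one)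
open CfsgLib.ThreeTrans.LocalSymThree (nbr nbr_symm)

universe u v

variable {X : Type u} [Group X] {Y : Type v} [Group Y]

/-- The twist of an element. -/
def up (d : X) (ι : Y →* X) (y : Y) : X := d * ι y

/-- The base of 24 members. -/
def Om24 (d : X) (ι : Y →* X) (Ω0 : Set Y) : Set X := insert d (up d ι '' Ω0)

/-- The subgroup over the base inside the subgroup of index two. -/
def A0X (ι : Y →* X) (Ω0 : Set Y) : Subgroup X := (Subgroup.closure Ω0).map ι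

/-- Its normaliser there. -/
def NG (G₀ : Subgroup X) (ι : Y →* X) (Ω0 : Set Y) : Subgroup X :=
  G₀ ⊓ Subgroup.normalizer (A0X ι Ω0 : Set X)

/-- The hypotheses. -/
structure Hyp (G₀ : Subgroup X) (d : X) (ι : Y →* X) (t : Y) (Ω0 : Set Y) : Prop where
  idx : G₀.index = 2
  ord : orderOf d = 2
  out : d ∉ G₀
  inj : Function.Injective ι
  range : ι.range = G₀ ⊓ Cd d
  y23 : M23 t Ω0
  selfc : ∀ g ∈ G₀, (∀ a ∈ Ω0, Commute g (ι a)) → g ∈ A0X ι Ω0
  normLow : 2 ^ 19 ∣ Nat.card (NG G₀ ι Ω0)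
  normDvd : Nat.card (NG G₀ ι Ω0) ∣ 2 ^ 21 * 3 ^ 3 * 5 * 7 * 11 * 23
  syl : ¬ 2 ∣ (NG G₀ ι Ω0).relIndex G₀
  quad : ∀ a b c : Y, Triple (Dc t) a b c →
    Nat.card ↥(G₀ ⊓ Cd (ι (a * b * c))) = 160526499840

variable [Finite X] [Finite Y] {G₀ : Subgroup X} {d : X} {ι : Y →* X} {t : Y} {Ω0 : Set Y}

namespace Hyp

variable (h : Hyp G₀ d ι t Ω0)
include h

theorem normal : G₀.Normal := Subgroup.normal_of_index_eq_two h.idx

theorem dd : d * d = 1 := by rw [← pow_two]; exact h.ord ▸ pow_orderOf_eq_one d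

theorem dinv : d⁻¹ = d := inv_eq_of_mul_eq_one_right h.dd

theorem d_ne_one : d ≠ 1 := fun e => h.out (e ▸ one_mem _)

theorem mul_mem_iff {a b : X} : a * b ∈ G₀ ↔ (a ∈ G₀ ↔ b ∈ G₀) :=
  Subgroup.mul_mem_iff_of_index_two h.idx

theorem i_mem (y : Y) : ι y ∈ G₀ := (h.range.le ⟨y, rfl⟩).1

theorem comm_i (y : Y) : Commute (ι y) d := Subgroup.mem_centralizer_singleton_iff.1 (h.range.le ⟨y, rfl⟩).2

theorem up_not_mem (y : Y) : up d ι y ∉ G₀ := fun k => h.out ((h.mul_mem_iff.1 k).2 (h.i_mem y))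

theorem up_inj : Function.Injective (up d ι) := fun _ _ k => h.inj (mul_left_cancel k)

theorem up_comm_d (y : Y) : Commute (up d ι y) d := (Commute.refl d).mul_left (h.comm_i y)

theorem up_sq {y : Y} (hy : y * y = 1) : up d ι y * up d ι y = 1 :=
  mul_sq_one h.dd (by rw [← map_mul, hy, map_one]) (h.comm_i y).symm

theorem up_one : up d ι 1 = d := by rw [up, map_one, mul_one]

theorem up_mul (y z : Y) : up d ι y * up d ι z = ι (y * z) := by
  rw [up, up, map_mul, show d * ι y * (d * ι z) = d * (ι y * d) * ι z by simp [mul_assoc], (h.comm_i y).eq]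
  simp [← mul_assoc, h.dd]

theorem d_mul_up (y : Y) : d * up d ι y = ι y := by rw [up, ← mul_assoc, h.dd, one_mul]

theorem up_comm {y z : Y} : Commute (up d ι y) (up d ι z) ↔ Commute y z := by
  show up d ι y * up d ι z = up d ι z * up d ι y ↔ _
  rw [h.up_mul, h.up_mul, h.inj.eq_iff]
  rfl

theorem i_up (y z : Y) : cj (ι y) (up d ι z) = up d ι (cj y z) := by
  rw [up, cj_mul', cj_of_commute (h.comm_i y), up]
  congr 1
  simp [cj]

theorem cen_cases {x : X} (hc : Commute x d) :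
    (x ∈ G₀ ∧ ∃ y, x = ι y) ∨ (x ∉ G₀ ∧ ∃ y, x = up d ι y) := by
  by_cases hx : x ∈ G₀
  · obtain ⟨y, hy⟩ := h.range.ge ⟨hx, Subgroup.mem_centralizer_singleton_iff.2 hc.eq⟩
    exact Or.inl ⟨hx, y, hy.symm⟩
  · have hm : d * x ∈ G₀ := h.mul_mem_iff.2 ⟨fun k => absurd k h.out, fun k => absurd k hx⟩
    obtain ⟨y, hy⟩ := h.range.ge
      ⟨hm, Subgroup.mem_centralizer_singleton_iff.2 ((Commute.refl d).mul_left hc).eq⟩
    exact Or.inr ⟨hx, y, by rw [up, hy, ← mul_assoc, h.dd, one_mul]⟩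

theorem d_mem : d ∈ Dc d := IsConj.refl d

theorem dc_out {x : X} (hx : x ∈ Dc d) : x ∉ G₀ := by
  obtain ⟨g, rfl⟩ := isConj_iff.1 hx
  exact fun k => h.out (by simpa [mul_assoc] using h.normal.conj_mem _ k g⁻¹)

theorem sq {x : X} (hx : x ∈ Dc d) : x * x = 1 := by
  obtain ⟨g, rfl⟩ := isConj_iff.1 hx
  rw [show g * d * g⁻¹ * (g * d * g⁻¹) = g * (d * d) * g⁻¹ by group, h.dd, mul_one, mul_inv_cancel]

theorem inv {x : X} (hx : x ∈ Dc d) : x⁻¹ = x := inv_eq_of_mul_eq_one_right (h.sq hx)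

/-- The elements over the base. -/
theorem mem_AX {x : X} : x ∈ Subgroup.closure (Om24 d ι Ω0) ↔
    ∃ a ∈ Subgroup.closure Ω0, x = ι a ∨ x = up d ι a := by
  constructor
  · intro hx
    induction hx using Subgroup.closure_induction with
    | mem z hz =>
      rcases hz with rfl | ⟨a, ha, rfl⟩
      · exact ⟨1, one_mem _, Or.inr h.up_one.symm⟩
      · exact ⟨a, Subgroup.subset_closure ha, Or.inr rfl⟩
    | one => exact ⟨1, one_mem _, Or.inl (map_one ι).symm⟩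
    | mul p q _ _ hp hq =>
      obtain ⟨a, ha, hpa⟩ := hp
      obtain ⟨b, hb, hqb⟩ := hq
      refine ⟨a * b, mul_mem ha hb, ?_⟩
      rcases hpa with rfl | rfl <;> rcases hqb with rfl | rfl
      · exact Or.inl (map_mul ι a b).symm
      · refine Or.inr ?_
        rw [up, up, map_mul, ← mul_assoc, (h.comm_i a).eq, mul_assoc]
      · exact Or.inr (by rw [up, up, map_mul, mul_assoc])
      · exact Or.inl (h.up_mul a b)
    | inv p _ hp =>
      obtain ⟨a, ha, hpa⟩ := hp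
      refine ⟨a, ha, ?_⟩
      have haa := h.y23.sqA ha
      rcases hpa with rfl | rfl
      · left; rw [← map_inv, inv_eq_of_mul_eq_one_right haa]
      · right; exact inv_eq_of_mul_eq_one_right (h.up_sq haa)
  · have hd : d ∈ Subgroup.closure (Om24 d ι Ω0) := Subgroup.subset_closure (Or.inl rfl)
    have hi : Subgroup.closure Ω0 ≤ (Subgroup.closure (Om24 d ι Ω0)).comap ι := (Subgroup.closure_le _).2 fun a ha => by
      show ι a ∈ Subgroup.closure (Om24 d ι Ω0)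
      rw [← h.d_mul_up a]
      exact mul_mem hd (Subgroup.subset_closure (Or.inr ⟨a, ha, rfl⟩))
    rintro ⟨a, ha, rfl | rfl⟩
    exacts [hi ha, mul_mem hd (hi ha)]

theorem comm_AX {x y : X} (hx : x ∈ Subgroup.closure (Om24 d ι Ω0)) (hy : y ∈ Subgroup.closure (Om24 d ι Ω0)) :
    Commute x y := by
  obtain ⟨a, ha, hxa⟩ := h.mem_AX.1 hx
  obtain ⟨b, hb, hyb⟩ := h.mem_AX.1 hy
  have hab : Commute (ι a) (ι b) := (h.y23.commA ha hb).map ι
  rcases hxa with rfl | rfl <;> rcases hyb with rfl | rfl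
  · exact hab
  · exact (h.comm_i a).mul_right hab
  · exact (h.comm_i b).symm.mul_left hab
  · exact h.up_comm.2 (h.y23.commA ha hb)

theorem AX_elementary : Cfsg.IsElementaryAbelian 2 (Subgroup.closure (Om24 d ι Ω0)) := by
  refine ⟨⟨⟨fun a b => Subtype.ext (h.comm_AX a.2 b.2).eq⟩⟩, fun x hx => ?_⟩
  obtain ⟨a, ha, rfl | rfl⟩ := h.mem_AX.1 hx
  · rw [pow_two, ← map_mul, h.y23.sqA ha, map_one]
  · rw [pow_two]; exact h.up_sq (h.y23.sqA ha)

theorem card_A0X : Nat.card (A0X ι Ω0) = 2 ^ 11 := by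
  rw [A0X, Subgroup.card_map_of_injective h.inj, h.y23.card_closure]

theorem card_AX : Nat.card (Subgroup.closure (Om24 d ι Ω0)) = 2 ^ 12 := by
  rw [← SetLike.coe_sort_coe, Nat.card_coe_set_eq,
    show (Subgroup.closure (Om24 d ι Ω0) : Set X) =
      ι '' ↑(Subgroup.closure Ω0) ∪ up d ι '' ↑(Subgroup.closure Ω0) from ?_,
    Set.ncard_union_eq ?_ (Set.toFinite _) (Set.toFinite _), Set.ncard_image_of_injective _ h.inj,
    Set.ncard_image_of_injective _ h.up_inj, ← Nat.card_coe_set_eq, SetLike.coe_sort_coe, h.y23.card_closure]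
  · norm_num
  · refine Set.disjoint_left.2 ?_
    rintro _ ⟨a, -, rfl⟩ ⟨b, -, e⟩
    exact h.up_not_mem b (e ▸ h.i_mem a)
  · ext x
    simp only [SetLike.mem_coe, h.mem_AX, Set.mem_union, Set.mem_image]
    exact ⟨fun ⟨a, ha, k⟩ => k.imp (fun e => ⟨a, ha, e.symm⟩) fun e => ⟨a, ha, e.symm⟩,
      fun k => k.elim (fun ⟨a, ha, e⟩ => ⟨a, ha, Or.inl e.symm⟩) fun ⟨a, ha, e⟩ => ⟨a, ha, Or.inr e.symm⟩⟩

/-- What centralises the subgroup lies over the base. -/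
theorem cen_base {g : X} (hg : ∀ a ∈ Ω0, Commute g (ι a)) : g ∈ Subgroup.closure (Om24 d ι Ω0) := by
  by_cases k : g ∈ G₀
  · obtain ⟨a, ha, e⟩ := h.selfc g k hg
    exact h.mem_AX.2 ⟨a, ha, Or.inl e.symm⟩
  · obtain ⟨a, ha, e⟩ := h.selfc (d * g) (h.mul_mem_iff.2 ⟨fun q => absurd q h.out, fun q => absurd q k⟩)
      fun a ha => (h.comm_i a).symm.mul_left (hg a ha)
    exact h.mem_AX.2 ⟨a, ha, Or.inr (by rw [up, e, ← mul_assoc, h.dd, one_mul])⟩

/-- An elementary abelian subgroup of order 2^12 of the centraliser is a conjugate of the one over the base. -/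
theorem elem_X {W : Subgroup X} (hW : W ≤ Cd d) (hel : Cfsg.IsElementaryAbelian 2 W)
    (hcard : Nat.card W = 2 ^ 12) :
    ∃ y : Y, ∀ x ∈ Subgroup.closure (Om24 d ι Ω0), cj (ι y) x ∈ W := by
  have : Fact (Nat.Prime 2) := ⟨Nat.prime_two⟩
  have := h.normal
  have hcomm : ∀ {p q : X}, p ∈ W → q ∈ W → Commute p q := fun hp hq => by
    have := hel.1
    exact setLike_mul_comm hp hq
  have hi : G₀.relIndex W ∣ 2 := h.idx ▸ Subgroup.relIndex_dvd_index_of_normal G₀ W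
  have hm := Subgroup.card_mul_index (G₀.subgroupOf W)
  have hdvd : 2 ^ 11 ∣ Nat.card (G₀.subgroupOf W) := by
    rw [hcard] at hm
    change _ * G₀.relIndex W = _ at hm
    rcases (Nat.dvd_prime Nat.prime_two).1 hi with e | e <;> rw [e] at hm
    · exact ⟨2, by omega⟩
    · exact ⟨1, by omega⟩
  obtain ⟨U, hU⟩ := Sylow.exists_subgroup_card_pow_prime 2 hdvd
  let U' : Subgroup Y := ((U.map (G₀.subgroupOf W).subtype).map W.subtype).comap ι
  have hUX : (U.map (G₀.subgroupOf W).subtype).map W.subtype ≤ ι.range := by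
    rintro _ ⟨_, ⟨x, -, rfl⟩, rfl⟩
    rw [h.range]
    exact ⟨x.2, hW x.1.2⟩
  have hUW : ∀ y ∈ U', ι y ∈ W := fun y hy => by
    obtain ⟨z, -, e⟩ := hy
    exact e ▸ z.2
  have hU'c : Nat.card U' = 2 ^ 11 := by
    rw [← Subgroup.card_map_of_injective h.inj (K := U'), Subgroup.map_comap_eq_self hUX,
      Subgroup.card_map_of_injective W.subtype_injective,
      Subgroup.card_map_of_injective (G₀.subgroupOf W).subtype_injective, hU]
  have hU'el : Cfsg.IsElementaryAbelian 2 U' :=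
    ⟨⟨⟨fun a b => Subtype.ext (h.inj (by simp only [Subgroup.coe_mul, map_mul]; exact (hcomm (hUW _ a.2) (hUW _ b.2)).eq))⟩⟩,
      fun a ha => h.inj (by rw [map_pow, map_one]; exact hel.2 _ (hUW a ha))⟩
  obtain ⟨y, hy⟩ := h.y23.elem U' hU'el hU'c
  let W' := W.map (MulAut.conj (ι y)⁻¹).toMonoidHom
  have hsub : W' ≤ Subgroup.closure (Om24 d ι Ω0) := by
    rintro _ ⟨w, hw, rfl⟩
    refine h.cen_base fun a ha => ?_
    have k := hUW _ (hy a (Subgroup.subset_closure ha))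
    have := (commute_conj_iff (ι y)⁻¹ w (ι (cj y a))).2 (hcomm hw k)
    simpa [cj, mul_assoc] using this
  have heq : W' = Subgroup.closure (Om24 d ι Ω0) := Subgroup.eq_of_le_of_card_ge hsub
    (by rw [h.card_AX, Subgroup.card_map_of_injective (MulEquiv.injective _), hcard])
  refine ⟨y, fun x hx => ?_⟩
  obtain ⟨w, hw, rfl⟩ := heq.ge hx
  simpa [cj, mul_assoc] using hw

theorem mem_NG_of {y : Y} (hy : cj y '' Ω0 = Ω0) : ι y ∈ NG G₀ ι Ω0 := by
  refine ⟨h.i_mem y, mem_normalizer_of ?_⟩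
  rintro _ ⟨a, ha, rfl⟩
  refine ⟨cj y a, ?_, by simp [cj]⟩
  have hle : Subgroup.closure Ω0 ≤ (Subgroup.closure Ω0).comap (MulAut.conj y).toMonoidHom :=
    (Subgroup.closure_le _).2 fun b hb => Subgroup.subset_closure (hy ▸ Set.mem_image_of_mem (cj y) hb)
  exact hle ha

theorem NG_out : ∃ n ∈ NG G₀ ι Ω0, ¬ Commute n d := by
  by_contra hall
  push Not at hall
  have hle : NG G₀ ι Ω0 ≤ ι.range := fun n hn =>
    h.range.ge ⟨hn.1, Subgroup.mem_centralizer_singleton_iff.2 (hall n hn).eq⟩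
  have h1 := h.normLow.trans (Subgroup.card_dvd_of_le hle)
  rw [Nat.card_congr (MonoidHom.ofInjective h.inj).toEquiv.symm, h.y23.order] at h1
  norm_num at h1

/-- The orbit of the involution under the normaliser is the base of 24. -/
theorem orbit : {z | ∃ n ∈ NG G₀ ι Ω0, cj n d = z} = Om24 d ι Ω0 := by
  classical
  set O := {z | ∃ n ∈ NG G₀ ι Ω0, cj n d = z} with hO
  have hinv : ∀ {y : Y} {a : Y}, cj y '' Ω0 = Ω0 → up d ι a ∈ O → up d ι (cj y a) ∈ O := by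
    rintro y a hy ⟨n, hn, e⟩
    exact ⟨ι y * n, mul_mem (h.mem_NG_of hy) hn, by rw [← cj_cj, e, h.i_up]⟩
  have hform : ∀ z ∈ O, ∃ a ∈ Subgroup.closure Ω0, z = up d ι a := by
    rintro z ⟨n, hn, rfl⟩
    have hm : cj n d ∈ Subgroup.closure (Om24 d ι Ω0) := by
      refine h.cen_base fun a ha => ?_
      have k : cj n⁻¹ (ι a) ∈ A0X ι Ω0 :=
        (Subgroup.mem_normalizer_iff.1 (inv_mem hn.2) _).1 ⟨a, Subgroup.subset_closure ha, rfl⟩
      obtain ⟨b, -, e⟩ := k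
      have := (commute_conj_iff n d (cj n⁻¹ (ι a))).2 (e ▸ (h.comm_i b).symm)
      simpa [cj, mul_assoc] using this
    obtain ⟨a, ha, e | e⟩ := h.mem_AX.1 hm
    · exact absurd (e ▸ h.i_mem a : cj n d ∈ G₀) (h.dc_out (isConj_iff.2 ⟨n, rfl⟩))
    · exact ⟨a, ha, e⟩
  set S := {a : Y | a ∈ Subgroup.closure Ω0 ∧ up d ι a ∈ O} with hS
  have hOS : O = up d ι '' S := by
    ext z
    refine ⟨fun hz => ?_, ?_⟩
    · obtain ⟨a, ha, rfl⟩ := hform z hz
      exact ⟨a, ⟨ha, hz⟩, rfl⟩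
    · rintro ⟨a, ha, rfl⟩; exact ha.2
  have h1S : (1 : Y) ∈ S := ⟨one_mem _, 1, one_mem _, by rw [cj_one, h.up_one]⟩
  have hnot : ∀ {k : Set Y}, (∀ x ∈ k, ∀ x' ∈ k, ∃ y, cj y '' Ω0 = Ω0 ∧ cj y x = x') →
      (k ⊆ Subgroup.closure Ω0) → k ⊆ S ∨ Disjoint k S := by
    intro k hk hsub
    by_cases e : Disjoint k S
    · exact Or.inr e
    obtain ⟨x, hx, hxS⟩ := Set.not_disjoint_iff.1 e
    refine Or.inl fun x' hx' => ⟨hsub hx', ?_⟩
    obtain ⟨y, hy, rfl⟩ := hk x hx x' hx'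
    exact hinv hy hxS.2
  have third : ∀ a ∈ Ω0, ∀ b ∈ Ω0, ∃ c ∈ Ω0, a ≠ c ∧ b ≠ c := fun a ha b hb => by
    obtain ⟨c, hc, hc'⟩ := Set.exists_mem_notMem_of_ncard_lt_ncard (s := ({a, b} : Set Y)) (t := Ω0)
      (lt_of_le_of_lt (Set.ncard_insert_le _ _) (by rw [Set.ncard_singleton, h.y23.card]; norm_num))
      (Set.toFinite _)
    simp only [Set.mem_insert_iff, Set.mem_singleton_iff, not_or] at hc'
    exact ⟨c, hc, Ne.symm hc'.1, Ne.symm hc'.2⟩
  have t3 : ∀ x ∈ K3 Ω0, ∀ x' ∈ K3 Ω0, ∃ y, cj y '' Ω0 = Ω0 ∧ cj y x = x' := by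
    rintro _ ⟨a, ha, b, hb, c, hc, n1, n2, n3, rfl⟩ _ ⟨a', ha', b', hb', c', hc', m1, m2, m3, rfl⟩
    obtain ⟨y, hy, e1, e2, e3⟩ := h.y23.perm a b c a' b' c' ha hb hc n1 n2 n3 ha' hb' hc' m1 m2 m3
    exact ⟨y, hy, by rw [cj_mul', cj_mul', e1, e2, e3]⟩
  have t2 : ∀ x ∈ K2 Ω0, ∀ x' ∈ K2 Ω0, ∃ y, cj y '' Ω0 = Ω0 ∧ cj y x = x' := by
    rintro _ ⟨a, ha, b, hb, n1, rfl⟩ _ ⟨a', ha', b', hb', m1, rfl⟩
    obtain ⟨c, hc, n2, n3⟩ := third a ha b hb
    obtain ⟨c', hc', m2, m3⟩ := third a' ha' b' hb'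
    obtain ⟨y, hy, e1, e2, -⟩ := h.y23.perm a b c a' b' c' ha hb hc n1 n2 n3 ha' hb' hc' m1 m2 m3
    exact ⟨y, hy, by rw [cj_mul', e1, e2]⟩
  have t1 : ∀ x ∈ Ω0, ∀ x' ∈ Ω0, ∃ y, cj y '' Ω0 = Ω0 ∧ cj y x = x' := by
    intro a ha a' ha'
    obtain ⟨b, hb, n1, -⟩ := third a ha a ha
    obtain ⟨c, hc, n2, n3⟩ := third a ha b hb
    obtain ⟨b', hb', m1, -⟩ := third a' ha' a' ha'
    obtain ⟨c', hc', m2, m3⟩ := third a' ha' b' hb'
    obtain ⟨y, hy, e1, -, -⟩ := h.y23.perm a b c a' b' c' ha hb hc n1 n2 n3 ha' hb' hc' m1 m2 m3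
    exact ⟨y, hy, e1⟩
  have q1 := hnot t1 Subgroup.subset_closure
  have q2 := hnot t2 fun x hx => h.y23.mem_closure_K (Or.inr (Or.inl hx))
  have q3 := hnot t3 fun x hx => h.y23.mem_closure_K (Or.inr (Or.inr hx))
  have hcard : S.ncard = 1 + (S ∩ Ω0).ncard + (S ∩ K2 Ω0).ncard + (S ∩ K3 Ω0).ncard := by
    have hne : ∀ {x : Y}, (x ∈ Ω0 ∨ x ∈ K2 Ω0 ∨ x ∈ K3 Ω0) → x ≠ 1 := by
      rintro x (k | k | k)
      · exact ne_one h.y23.set (h.y23.sub k)
      · exact h.y23.ne_one_of_prod (by norm_num) (by norm_num) (h.y23.two_of_K2 k)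
      · exact h.y23.ne_one_of_prod (by norm_num) (by norm_num) (h.y23.three_of_K3 k)
    have e : S = insert 1 ((S ∩ Ω0) ∪ ((S ∩ K2 Ω0) ∪ (S ∩ K3 Ω0))) := by
      ext x
      refine ⟨fun hx => ?_, ?_⟩
      · by_cases k : x = 1
        · exact Or.inl k
        · exact Or.inr ((h.y23.cases hx.1 k).imp (fun q => ⟨hx, q⟩) fun q => q.imp (fun q => ⟨hx, q⟩) fun q => ⟨hx, q⟩)
      · rintro (rfl | k | k | k)
        exacts [h1S, k.1, k.1, k.1]
    conv_lhs => rw [e]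
    rw [Set.ncard_insert_of_notMem ?_ (Set.toFinite _),
      Set.ncard_union_eq ?_ (Set.toFinite _) (Set.toFinite _),
      Set.ncard_union_eq ?_ (Set.toFinite _) (Set.toFinite _)]
    · ring
    · exact h.y23.disj23.mono Set.inter_subset_right Set.inter_subset_right
    · exact Set.disjoint_union_right.2 ⟨h.y23.disj12.mono Set.inter_subset_right Set.inter_subset_right,
        h.y23.disj13.mono Set.inter_subset_right Set.inter_subset_right⟩
    · rintro (k | k | k)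
      exacts [hne (Or.inl k.2) rfl, hne (Or.inr (Or.inl k.2)) rfl, hne (Or.inr (Or.inr k.2)) rfl]
  have hdvd : S.ncard * 2 ^ 11 ∣ 2 ^ 21 * 3 ^ 3 * 5 * 7 * 11 * 23 := by
    refine Dvd.dvd.trans ?_ h.normDvd
    have ho := Classif.orbit_card (NG G₀ ι Ω0).subtype d
    have e : {z | ∃ n : NG G₀ ι Ω0, (NG G₀ ι Ω0).subtype n * d * ((NG G₀ ι Ω0).subtype n)⁻¹ = z} = O :=
      Set.ext fun z => ⟨fun ⟨n, k⟩ => ⟨n, n.2, k⟩, fun ⟨n, hn, k⟩ => ⟨⟨n, hn⟩, k⟩⟩
    rw [e, hOS, Set.ncard_image_of_injective _ h.up_inj] at ho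
    rw [← ho]
    refine mul_dvd_mul_left _ ?_
    have hA : A0X ι Ω0 ≤ NG G₀ ι Ω0 :=
      le_inf (fun x ⟨a, _, e⟩ => e ▸ h.i_mem a) Subgroup.le_normalizer
    rw [← h.card_A0X, ← Nat.card_congr (Subgroup.subgroupOfEquivOfLe hA).toEquiv]
    refine Subgroup.card_dvd_of_le fun x hx => ?_
    obtain ⟨a, -, e⟩ := (hx : (x : X) ∈ A0X ι Ω0)
    refine Subgroup.mem_centralizer_singleton_iff.2 ?_
    show (x : X) * d = d * x
    rw [show (x : X) = ι a from e.symm]; exact (h.comm_i a).eq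
  have hne : S.ncard ≠ 1 := by
    intro e
    obtain ⟨n, hn, hnd⟩ := h.NG_out
    obtain ⟨a, ha, k⟩ := hform _ ⟨n, hn, rfl⟩
    have : a = 1 := (Set.ncard_le_one (Set.toFinite _)).1 e.le a ⟨ha, n, hn, k⟩ 1 h1S
    rw [this, h.up_one] at k
    exact hnd (commute_of_cj k)
  have val : ∀ {k : Set Y}, k ⊆ S ∨ Disjoint k S → (S ∩ k).ncard = k.ncard ∨ (S ∩ k).ncard = 0 := fun q =>
    q.imp (fun q => by rw [Set.inter_eq_right.2 q]) fun q => by
      rw [Set.inter_comm, Set.disjoint_iff_inter_eq_empty.1 q, Set.ncard_empty]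
  obtain ⟨c2, c3⟩ := h.y23.card_K
  have key : (S ∩ Ω0).ncard = 23 ∧ (S ∩ K2 Ω0).ncard = 0 ∧ (S ∩ K3 Ω0).ncard = 0 := by
    rw [hcard] at hdvd hne
    rcases val q1 with a | a <;> rcases val q2 with b | b <;> rcases val q3 with c | c <;>
      rw [a, b, c] at hdvd hne ⊢ <;> (revert hdvd hne; norm_num [h.y23.card, c2, c3])
  have hSeq : S = insert 1 Ω0 := by
    refine Set.Subset.antisymm (fun x hx => ?_) (Set.insert_subset h1S ?_)
    · by_cases k : x = 1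
      · exact Or.inl k
      rcases h.y23.cases hx.1 k with q | q | q
      · exact Or.inr q
      · exact absurd key.2.1 (Set.ncard_ne_zero_of_mem (⟨hx, q⟩ : x ∈ S ∩ K2 Ω0) (Set.toFinite _))
      · exact absurd key.2.2 (Set.ncard_ne_zero_of_mem (⟨hx, q⟩ : x ∈ S ∩ K3 Ω0) (Set.toFinite _))
    · exact Set.inter_eq_right.1 (Set.eq_of_subset_of_ncard_le Set.inter_subset_right
        (by rw [key.1, h.y23.card]) (Set.toFinite _))
  rw [hOS, hSeq, Set.image_insert_eq, h.up_one]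
  rfl

theorem base_mem {x : X} (hx : x ∈ Om24 d ι Ω0) : ∃ n ∈ NG G₀ ι Ω0, cj n d = x := h.orbit.ge hx

theorem base_dc {x : X} (hx : x ∈ Om24 d ι Ω0) : x ∈ Dc d := by
  obtain ⟨n, -, rfl⟩ := h.base_mem hx
  exact Dc_cj n h.d_mem

theorem norm_base {n : X} (hn : n ∈ NG G₀ ι Ω0) : cj n '' Om24 d ι Ω0 = Om24 d ι Ω0 := by
  refine Set.eq_of_subset_of_ncard_le ?_ (by rw [Set.ncard_image_of_injective _ (cj_inj n)]) (Set.toFinite _)
  rintro _ ⟨x, hx, rfl⟩
  obtain ⟨m, hm, rfl⟩ := h.base_mem hx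
  exact h.orbit.le ⟨n * m, mul_mem hn hm, (cj_cj _ _ _).symm⟩

/-- The conjugates over the base are its 24 members. -/
theorem dc_AX {x : X} (hx : x ∈ Dc d) (hA : x ∈ Subgroup.closure (Om24 d ι Ω0)) : x ∈ Om24 d ι Ω0 := by
  have := h.normal
  obtain ⟨g, rfl⟩ := isConj_iff.1 hx
  set W := (Subgroup.closure (Om24 d ι Ω0)).map (MulAut.conj g⁻¹).toMonoidHom with hW
  have hWC : W ≤ Cd d := by
    rintro _ ⟨w, hw, rfl⟩
    refine Subgroup.mem_centralizer_singleton_iff.2 ?_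
    have := (commute_conj_iff g⁻¹ w _).2 (h.comm_AX hw hA)
    rw [show g⁻¹ * (g * d * g⁻¹) * g⁻¹⁻¹ = d by group] at this
    exact this.eq
  have hWel : Cfsg.IsElementaryAbelian 2 W := by
    have := h.AX_elementary.1
    refine ⟨inferInstance, ?_⟩
    rintro _ ⟨w, hw, rfl⟩
    rw [← map_pow, h.AX_elementary.2 w hw, map_one]
  obtain ⟨y, hy⟩ := h.elem_X hWC hWel (by rw [Subgroup.card_map_of_injective (MulEquiv.injective _), h.card_AX])
  have hnA : g * ι y ∈ Subgroup.normalizer ((Subgroup.closure (Om24 d ι Ω0) : Subgroup X) : Set X) := by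
    refine mem_normalizer_of fun w hw => ?_
    obtain ⟨v, hv, e⟩ := hy w hw
    rw [← cj_cj, ← e]
    show cj g (g⁻¹ * v * g⁻¹⁻¹) ∈ _
    simpa [cj, mul_assoc] using hv
  have hn0 : g * ι y ∈ Subgroup.normalizer (A0X ι Ω0 : Set X) := by
    refine mem_normalizer_of ?_
    rintro _ ⟨a, ha, rfl⟩
    obtain ⟨b, hb, e | e⟩ := h.mem_AX.1 ((Subgroup.mem_normalizer_iff.1 hnA _).1 (h.mem_AX.2 ⟨a, ha, Or.inl rfl⟩))
    · exact ⟨b, hb, e.symm⟩
    · exact absurd (e ▸ h.normal.conj_mem _ (h.i_mem a) _) (h.up_not_mem b)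
  have hfix : cj (ι y) d = d := cj_of_commute (h.comm_i y)
  by_cases k : g * ι y ∈ G₀
  · exact h.orbit.le ⟨g * ι y, ⟨k, hn0⟩, by rw [← cj_cj, hfix]; rfl⟩
  · refine h.orbit.le ⟨g * ι y * d, ⟨h.mul_mem_iff.2 ⟨fun q => absurd q k, fun q => absurd q h.out⟩,
      mul_mem hn0 (mem_normalizer_of ?_)⟩, ?_⟩
    · rintro _ ⟨a, ha, rfl⟩
      exact ⟨a, ha, (cj_of_commute (h.comm_i a).symm).symm⟩
    · rw [← cj_cj, cj_of_commute (Commute.refl d), ← cj_cj, hfix]; rfl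

theorem up_mem {e : Y} (he : e ∈ Dc t) : up d ι e ∈ Dc d := by
  obtain ⟨y, hy⟩ := isConj_iff.1 he
  have := Dc_cj (ι y) (h.base_dc (Or.inr ⟨t, h.y23.self, rfl⟩ : up d ι t ∈ Om24 d ι Ω0))
  rw [h.i_up] at this
  exact (show cj y t = e from hy) ▸ this

theorem up_dc_iff {y : Y} : up d ι y ∈ Dc d ↔ y = 1 ∨ y ∈ Dc t := by
  refine ⟨fun hx => ?_, ?_⟩
  · have hyy : y * y = 1 := h.inj (by rw [map_one, ← h.up_mul, h.sq hx])
    obtain ⟨k, hk⟩ := h.y23.conj_into hyy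
    have hm : up d ι (cj k y) ∈ Om24 d ι Ω0 :=
      h.dc_AX (h.i_up k y ▸ Dc_cj (ι k) hx) (h.mem_AX.2 ⟨_, hk, Or.inr rfl⟩)
    rcases hm with e | ⟨a, ha, e⟩
    · left
      have := h.up_inj (e.trans h.up_one.symm)
      exact cj_inj k (this.trans (by simp [cj]))
    · right
      have e' : cj k y = a := (h.up_inj e).symm
      have := Dc_cj k⁻¹ (e' ▸ h.y23.sub ha : cj k y ∈ Dc t)
      rwa [cj_cj, inv_mul_cancel, cj_one] at this
  · rintro (rfl | he)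
    · rw [h.up_one]; exact h.d_mem
    · exact h.up_mem he

theorem mem_nbr_d {x : X} : x ∈ nbr (Dc d) d ↔ ∃ e ∈ Dc t, x = up d ι e := by
  constructor
  · rintro ⟨hx, hne, hc⟩
    rcases h.cen_cases hc.symm with ⟨k, -⟩ | ⟨-, y, rfl⟩
    · exact absurd k (h.dc_out hx)
    · rcases h.up_dc_iff.1 hx with rfl | k
      · exact absurd h.up_one hne
      · exact ⟨y, k, rfl⟩
  · rintro ⟨e, he, rfl⟩
    refine ⟨h.up_mem he, fun k => ?_, (h.up_comm_d e).symm⟩
    exact ne_one h.y23.set he (h.up_inj (k.trans h.up_one.symm))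

end Hyp

end CfsgLib.ThreeTrans.FiCent24
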