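import Mathlib
import Cfsg.Agent.Lib.ThreeTrans.FiCent24.Setup

/-! The class seen from each of its members, and the fact that no member exchanges two commuting
members: it would fix one of an odd number of bases through them and there move all 24 members. -/

set_option autoImplicit false
set_option linter.unusedSectionVars false

namespace CfsgLib.ThreeTrans.FiCent24

open CfsgLib.ThreeTrans CfsgLib.ThreeTrans.FiCent23 CfsgLib.ThreeTrans.Classif
open CfsgLib.ThreeTrans.Tower (mul_sq_one)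
open CfsgLib.ThreeTrans.LocalSymThree (nbr nbr_symm)

universe u v

variable {X : Type u} [Group X] {Y : Type v} [Group Y]

open Classical in
/-- The element whose twist is given. -/
noncomputable def dn (d : X) (ι : Y →* X) (x : X) : Y := Function.invFun ι (d * x)

variable [Finite X] [Finite Y] {G₀ : Subgroup X} {d : X} {ι : Y →* X} {t : Y} {Ω0 : Set Y}

/-- The bases through the involution and the twist of the marked member. -/
def PairBases (d : X) (ι : Y →* X) (t : Y) (Ω0 : Set Y) : Set (Set X) :=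
  {S | (∃ g, cj g '' Om24 d ι Ω0 = S) ∧ d ∈ S ∧ up d ι t ∈ S}

namespace Hyp

variable (h : Hyp G₀ d ι t Ω0)
include h

theorem dn_up (y : Y) : dn d ι (up d ι y) = y := by
  rw [dn, h.d_mul_up]; exact Function.leftInverse_invFun h.inj y

theorem chart_d : Chart (Dc d) d (dn d ι) (Dc t) := by
  refine ⟨h.d_mem, ⟨fun y hy => ?_, fun y hy z hz k => ?_, fun e he => ?_⟩, fun y hy z hz => ?_, fun y hy z hz => ?_⟩
  · obtain ⟨e, he, rfl⟩ := h.mem_nbr_d.1 hy
    rwa [h.dn_up]
  · obtain ⟨a, -, rfl⟩ := h.mem_nbr_d.1 hy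
    obtain ⟨b, -, rfl⟩ := h.mem_nbr_d.1 hz
    rw [h.dn_up, h.dn_up] at k
    rw [k]
  · exact ⟨_, h.mem_nbr_d.2 ⟨e, he, rfl⟩, h.dn_up e⟩
  · obtain ⟨a, -, rfl⟩ := h.mem_nbr_d.1 hy
    obtain ⟨b, -, rfl⟩ := h.mem_nbr_d.1 hz
    rw [h.dn_up, h.dn_up, h.up_comm]
  · obtain ⟨a, -, rfl⟩ := h.mem_nbr_d.1 hy
    obtain ⟨b, -, rfl⟩ := h.mem_nbr_d.1 hz
    rw [h.dn_up, h.dn_up, show up d ι a * up d ι b * up d ι a = up d ι (a * b * a) from ?_, h.dn_up]
    rw [h.up_mul, up, ← mul_assoc, (h.comm_i (a * b)).eq, mul_assoc, ← map_mul, up]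

theorem exists_chart {x : X} (hx : x ∈ Dc d) :
    ∃ f, Chart (Dc d) x f (Dc t) ∧
      (∀ y : Y, ∃ g, Commute g x ∧ ∀ u ∈ nbr (Dc d) x, f (cj g u) = cj y (f u)) ∧
      ∃ g, cj g x = d ∧ ∀ u ∈ nbr (Dc d) x, cj g u = up d ι (f u) := by
  obtain ⟨g₀, rfl⟩ := isConj_iff.1 hx
  change ∃ f, Chart (Dc d) (cj g₀ d) f (Dc t) ∧ _
  have C := h.chart_d
  have hback : ∀ u ∈ nbr (Dc d) (cj g₀ d), cj g₀⁻¹ u ∈ nbr (Dc d) d := fun u hu => by
    rw [nbr_cj] at hu
    obtain ⟨z, hz, rfl⟩ := hu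
    rwa [cj_cj, inv_mul_cancel, cj_one]
  have hb : ∀ u v, cj g₀⁻¹ (u * v) = cj g₀⁻¹ u * cj g₀⁻¹ v := fun u v => cj_mul' _ u v
  refine ⟨fun u => dn d ι (cj g₀⁻¹ u), ⟨hx, ⟨fun u hu => C.bij.mapsTo (hback u hu),
    fun u hu v hv k => cj_inj g₀⁻¹ (C.bij.injOn (hback u hu) (hback v hv) k), fun e he => ?_⟩,
    fun u hu v hv => (C.comm _ (hback u hu) _ (hback v hv)).trans (commute_conj_iff g₀⁻¹ u v),
    fun u hu v hv => ?_⟩, fun y => ?_, g₀⁻¹, by show cj g₀⁻¹ (cj g₀ d) = d; rw [cj_cj, inv_mul_cancel, cj_one], fun u hu => ?_⟩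
  · obtain ⟨z, hz, rfl⟩ := C.bij.surjOn he
    exact ⟨cj g₀ z, nbr_cj g₀ d ▸ ⟨z, hz, rfl⟩, by show dn d ι _ = _; rw [cj_cj, inv_mul_cancel, cj_one]⟩
  · show dn d ι (cj g₀⁻¹ (u * v * u)) = _
    rw [hb, hb]
    exact C.conj _ (hback u hu) _ (hback v hv)
  · refine ⟨cj g₀ (ι y), (commute_conj_iff g₀ (ι y) d).2 (h.comm_i y), fun u hu => ?_⟩
    show dn d ι (cj g₀⁻¹ (cj (cj g₀ (ι y)) u)) = _
    rw [cj_cj, show g₀⁻¹ * cj g₀ (ι y) = ι y * g₀⁻¹ by simp [cj, mul_assoc], ← cj_cj]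
    obtain ⟨e, -, he'⟩ := h.mem_nbr_d.1 (hback u hu)
    show dn d ι (cj (ι y) (cj g₀⁻¹ u)) = cj y (dn d ι (cj g₀⁻¹ u))
    rw [he', h.i_up, h.dn_up, h.dn_up]
  · obtain ⟨e, -, he'⟩ := h.mem_nbr_d.1 (hback u hu)
    show cj g₀⁻¹ u = up d ι (dn d ι (cj g₀⁻¹ u))
    rw [he', h.dn_up]

theorem nbr_conj_mem {z a b : X} (ha : a ∈ nbr (Dc d) z) (hb : b ∈ nbr (Dc d) z) :
    a * b * a ∈ nbr (Dc d) z := by
  have e : a * b * a = cj a b := by rw [cj, h.inv ha.1]
  rw [e]
  exact nbr_cj_mem hb (cj_of_commute ha.2.2.symm)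

/-- Two non-commuting members with a common neighbour braid. -/
theorem braid_nbr {z a b : X} (hz : z ∈ Dc d) (ha : a ∈ nbr (Dc d) z) (hb : b ∈ nbr (Dc d) z)
    (hab : ¬ Commute a b) : a * b * a = b * a * b := by
  obtain ⟨f, C, -⟩ := h.exists_chart hz
  refine C.bij.injOn (h.nbr_conj_mem ha hb) (h.nbr_conj_mem hb ha) ?_
  rw [C.conj a ha b hb, C.conj b hb a ha]
  exact braid h.y23.set (C.bij.mapsTo ha) (C.bij.mapsTo hb) fun k => hab ((C.comm a ha b hb).1 k)

/-- The centraliser of the involution is transitive on the members commuting with it. -/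
theorem trans_nbr {p q : X} (hp : p ∈ nbr (Dc d) d) (hq : q ∈ nbr (Dc d) d) :
    ∃ g, Commute g d ∧ cj g p = q := by
  obtain ⟨e, he, rfl⟩ := h.mem_nbr_d.1 hp
  obtain ⟨e', he', rfl⟩ := h.mem_nbr_d.1 hq
  obtain ⟨k, hk⟩ := h.y23.good.set.prim.1 e he e' he'
  exact ⟨ι k, h.comm_i k, by rw [h.i_up]; exact congrArg (up d ι) hk⟩

theorem up_t_mem : up d ι t ∈ nbr (Dc d) d := h.mem_nbr_d.2 ⟨t, IsConj.refl t, rfl⟩

/-- A commuting pair is carried to the standard one. -/
theorem pair_to {a b : X} (ha : a ∈ Dc d) (hb : b ∈ nbr (Dc d) a) :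
    ∃ g, cj g a = d ∧ cj g b = up d ι t := by
  obtain ⟨k, hk⟩ := isConj_iff.1 ha
  have e : cj k⁻¹ a = d := by rw [← hk]; simp [cj, mul_assoc]
  obtain ⟨g, hg, hgb⟩ := h.trans_nbr (nbr_cj_mem hb e) h.up_t_mem
  exact ⟨g * k⁻¹, by rw [← cj_cj, e, cj_of_commute hg], by rw [← cj_cj, hgb]⟩

/-- Commuting members are exchanged. -/
theorem exchange {a : X} (ha : a ∈ nbr (Dc d) d) : ∃ g, cj g a = d ∧ cj g d = a := by
  obtain ⟨g₁, e1, e2⟩ := h.pair_to ha.1 (nbr_symm h.d_mem ha)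
  obtain ⟨g₂, hg₂, hg⟩ := h.trans_nbr h.up_t_mem ha
  exact ⟨g₂ * g₁, by rw [← cj_cj, e1, cj_of_commute hg₂], by rw [← cj_cj, e2, hg]⟩

/-- Two commuting pairs among four pairwise commuting members with one product coincide. -/
theorem pair_eq {a b a' b' : X} (ha : a ∈ Dc d) (hb : b ∈ nbr (Dc d) a)
    (ha' : a' ∈ Dc d) (hb' : b' ∈ Dc d) (h1 : Commute a a') (h2 : Commute a b') (h3 : Commute b a')
    (h4 : Commute b b') (h5 : Commute a' b') (e : a * b = a' * b') : a' = a ∨ a' = b := by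
  by_contra hn
  simp only [not_or] at hn
  obtain ⟨n1, n2⟩ := hn
  have n3 : b' ≠ a := fun k => n2 (by
    rw [k, ← h1.eq] at e
    exact (mul_left_cancel e).symm)
  have n4 : b' ≠ b := fun k => n1 (by
    rw [k] at e
    exact (mul_right_cancel e).symm)
  have n5 : a' ≠ b' := fun k => hb.2.1 (by
    rw [← k, h.sq ha'] at e
    exact ((eq_inv_of_mul_eq_one_left e).trans (h.inv hb.1)).symm)
  obtain ⟨f, C, -, g, hga, hgu⟩ := h.exists_chart ha
  have hA : a' ∈ nbr (Dc d) a := ⟨ha', n1, h1⟩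
  have hB : b' ∈ nbr (Dc d) a := ⟨hb', n3, h2⟩
  have hrel : f b = f a' * f b' * 1 → False := fun k => by
    rw [mul_one] at k
    have t : Triple (Dc t) (f b) (f a') (f b') := ⟨C.bij.mapsTo hb, C.bij.mapsTo hA, C.bij.mapsTo hB,
      fun q => n2 (C.bij.injOn hb hA q).symm, fun q => n4 (C.bij.injOn hb hB q).symm,
      fun q => n5 (C.bij.injOn hA hB q), (C.comm _ hb _ hA).2 h3, (C.comm _ hb _ hB).2 h4,
      (C.comm _ hA _ hB).2 h5⟩
    obtain ⟨l, hnd, hlen, hm, hcm, hp⟩ := h.y23.prod_three t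
    refine h.y23.rel3 l hnd hlen hm hcm (hp.trans ?_)
    rw [mul_assoc, ← k, h.y23.sq t.1]
  apply hrel
  rw [mul_one]
  apply h.inj
  have := congrArg (cj g) e
  rw [cj_mul', cj_mul', hga, hgu b hb, hgu a' hA, hgu b' hB, h.d_mul_up, h.up_mul] at this
  exact this

/-- The bases through the standard pair are the images of those of type M(23) through the marked member. -/
theorem pair_bases :
    PairBases d ι t Ω0 = (fun T => insert d (up d ι '' T)) '' {T : Set Y | (∃ y, cj y '' Ω0 = T) ∧ t ∈ T} := by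
  have move : ∀ y : Y, cj (ι y) '' Om24 d ι Ω0 = insert d (up d ι '' (cj y '' Ω0)) := fun y => by
    rw [Om24, Set.image_insert_eq, cj_of_commute (h.comm_i y), Set.image_image, Set.image_image]
    simp only [h.i_up]
  ext S
  constructor
  · rintro ⟨⟨g, rfl⟩, ⟨b, hb, hbd⟩, hup⟩
    obtain ⟨n, hn, rfl⟩ := h.base_mem hb
    have hfix : cj (g * n) d = d := by rw [← cj_cj, hbd]
    have himg : cj g '' Om24 d ι Ω0 = cj (g * n) '' Om24 d ι Ω0 := by rw [← cj_image_comp, h.norm_base hn]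
    obtain ⟨y, himg'⟩ : ∃ y, cj g '' Om24 d ι Ω0 = insert d (up d ι '' (cj y '' Ω0)) := by
      rcases h.cen_cases (commute_of_cj hfix) with ⟨-, y, e⟩ | ⟨-, y, e⟩
      · exact ⟨y, by rw [himg, e, move]⟩
      · refine ⟨y, ?_⟩
        rw [himg, e, up, ← cj_image_comp, move]
        rw [Set.image_insert_eq, cj_of_commute (Commute.refl d), Set.image_image]
        congr 1
        exact Set.image_congr fun z _ => cj_of_commute (h.up_comm_d z).symm
    refine ⟨cj y '' Ω0, ⟨⟨y, rfl⟩, ?_⟩, himg'.symm⟩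
    rw [himg'] at hup
    rcases hup with k | ⟨a, ha, k⟩
    · exact absurd k h.up_t_mem.2.1
    · exact h.up_inj k ▸ ha
  · rintro ⟨T, ⟨⟨y, rfl⟩, ht⟩, rfl⟩
    exact ⟨⟨ι y, move y⟩, Or.inl rfl, Or.inr ⟨t, ht, rfl⟩⟩

theorem odd_pair_bases : Odd (PairBases d ι t Ω0).ncard := by
  rw [h.pair_bases, Set.InjOn.ncard_image]
  · exact h.y23.odd_bases
  rintro T ⟨⟨y, rfl⟩, -⟩ T' ⟨⟨y', rfl⟩, -⟩ e
  have key : ∀ {p q : Y}, insert d (up d ι '' (cj p '' Ω0)) = insert d (up d ι '' (cj q '' Ω0)) →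
      cj p '' Ω0 ⊆ cj q '' Ω0 := by
    intro p q e z hz
    have hm : up d ι z ∈ insert d (up d ι '' (cj q '' Ω0)) := e.le (Or.inr ⟨z, hz, rfl⟩)
    rcases hm with k | ⟨w, hw, k⟩
    · obtain ⟨a, ha, rfl⟩ := hz
      exact absurd (h.up_inj (k.trans h.up_one.symm)) (ne_one h.y23.set (Dc_cj p (h.y23.sub ha)))
    · exact h.up_inj k ▸ hw
  exact Set.Subset.antisymm (key e) (key e.symm)

/-- An element permuting the base maps its subgroup to itself. -/
theorem cj_AX {x : X} (hx : cj x '' Om24 d ι Ω0 = Om24 d ι Ω0) {a : X}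
    (ha : a ∈ Subgroup.closure (Om24 d ι Ω0)) : cj x a ∈ Subgroup.closure (Om24 d ι Ω0) := by
  have hle : Subgroup.closure (Om24 d ι Ω0) ≤
      (Subgroup.closure (Om24 d ι Ω0)).comap (MulAut.conj x).toMonoidHom :=
    (Subgroup.closure_le _).2 fun b hb => Subgroup.subset_closure (hx ▸ Set.mem_image_of_mem (cj x) hb)
  exact hle ha

theorem card_Om24 : (Om24 d ι Ω0).ncard = 24 := by
  rw [Om24, Set.ncard_insert_of_notMem ?_ (Set.toFinite _), Set.ncard_image_of_injective _ h.up_inj, h.y23.card]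
  rintro ⟨a, ha, k⟩
  exact ne_one h.y23.set (h.y23.sub ha) (h.up_inj (k.trans h.up_one.symm))

/-- The image of an involution permuting the base in the subgroup over it has order at most 2^6. -/
theorem card_comm {x : X} (hxx : x * x = 1) (hx : cj x '' Om24 d ι Ω0 = Om24 d ι Ω0) :
    {z | ∃ a ∈ Subgroup.closure (Om24 d ι Ω0), a * cj x a = z}.ncard ≤ 64 := by
  set A := Subgroup.closure (Om24 d ι Ω0) with hA
  let f : A →* A := MonoidHom.mk' (fun a => ⟨a * cj x a, mul_mem a.2 (h.cj_AX hx a.2)⟩) fun a b => Subtype.ext (by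
    show (a : X) * b * cj x (a * b) = a * cj x a * (b * cj x b)
    rw [cj_mul', show (a : X) * b * (cj x a * cj x b) = a * (b * cj x a) * cj x b by simp [mul_assoc],
      (h.comm_AX b.2 (h.cj_AX hx a.2)).eq]
    simp [mul_assoc])
  have hle : f.range ≤ f.ker := by
    rintro _ ⟨a, rfl⟩
    rw [MonoidHom.mem_ker]
    refine Subtype.ext ?_
    show (a : X) * cj x a * cj x (a * cj x a) = 1
    rw [cj_mul', cj_cj, hxx, cj_one, (h.comm_AX (h.cj_AX hx a.2) a.2).eq]
    have := h.AX_elementary.2 _ (mul_mem a.2 (h.cj_AX hx a.2))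
    rwa [pow_two] at this
  have h1 : Nat.card f.range * Nat.card f.range ≤ 4096 := by
    calc Nat.card f.range * Nat.card f.range ≤ Nat.card f.ker * Nat.card f.range :=
          Nat.mul_le_mul (Subgroup.card_le_of_le hle) le_rfl
      _ = Nat.card A := by rw [← Subgroup.index_ker, Subgroup.card_mul_index]
      _ = 4096 := by rw [h.card_AX]; norm_num
  have h2 : Nat.card f.range ≤ 64 := by
    by_contra hlt
    have := Nat.mul_le_mul (le_of_not_ge hlt) (le_of_not_ge hlt)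
    nlinarith
  refine le_trans ?_ h2
  rw [← SetLike.coe_sort_coe, Nat.card_coe_set_eq,
    ← Set.ncard_image_of_injective (f.range : Set A) Subtype.val_injective]
  refine Set.ncard_le_ncard ?_ (Set.toFinite _)
  rintro _ ⟨a, ha, rfl⟩
  exact ⟨f ⟨a, ha⟩, ⟨_, rfl⟩, rfl⟩

/-- A member permuting the base commutes with one of its members. -/
theorem fix_base {x : X} (hxD : x ∈ Dc d) (hx : cj x '' Om24 d ι Ω0 = Om24 d ι Ω0) :
    ∃ c ∈ Om24 d ι Ω0, Commute x c := by
  classical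
  by_contra hno
  simp only [not_exists, not_and] at hno
  set Ω := Om24 d ι Ω0 with hΩ
  have hxx := h.sq hxD
  have hc' : ∀ {c}, c ∈ Ω → cj x c ∈ Ω := fun hc => hx ▸ Set.mem_image_of_mem _ hc
  have hcomm : ∀ {a b}, a ∈ Ω → b ∈ Ω → Commute a b := fun ha hb =>
    h.comm_AX (Subgroup.subset_closure ha) (Subgroup.subset_closure hb)
  let p : X → X := fun c => c * cj x c
  have hpeq : ∀ c ∈ Ω, x * p c = cj c x := fun c hc => by
    show x * (c * cj x c) = c * x * c⁻¹
    rw [(hcomm hc (hc' hc)).eq, cj, h.inv hxD, show x * (x * c * x * c) = (x * x) * c * x * c by simp [mul_assoc],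
      hxx, one_mul, h.inv (h.base_dc hc)]
  have hu : ∀ c ∈ Ω, cj c x ∈ nbr (Dc d) x := fun c hc => by
    refine ⟨Dc_cj c hxD, fun e => hno c hc (commute_of_cj e).symm, ?_⟩
    rw [← hpeq c hc]
    refine (Commute.refl x).mul_right ?_
    show x * (c * cj x c) = c * cj x c * x
    have e1 : cj x (c * cj x c) = c * cj x c := by
      rw [cj_mul', cj_cj, hxx, cj_one, (hcomm (hc' hc) hc).eq]
    exact (commute_of_cj e1).eq
  obtain ⟨χ, C, -, g, hgx, hgu⟩ := h.exists_chart hxD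
  let e : X → Y := fun c => χ (cj c x)
  have hpinj : ∀ c ∈ Ω, ∀ c' ∈ Ω, e c = e c' → c' = c ∨ c' = cj x c := fun c hc c' hc'' k => by
    have k' : cj c x = cj c' x := C.bij.injOn (hu c hc) (hu c' hc'') k
    have k'' : p c = p c' := mul_left_cancel (a := x) (by rw [hpeq c hc, hpeq c' hc'', k'])
    exact h.pair_eq (h.base_dc hc) ⟨h.base_dc (hc' hc), fun q => hno c hc (commute_of_cj q), hcomm hc (hc' hc)⟩
      (h.base_dc hc'') (h.base_dc (hc' hc'')) (hcomm hc hc'') (hcomm hc (hc' hc'')) (hcomm (hc' hc) hc'')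
      (hcomm (hc' hc) (hc' hc'')) (hcomm hc'' (hc' hc'')) k''
  let F : Finset X := Ω.toFinite.toFinset
  have hF : F.card = 24 := by rw [← h.card_Om24, ← Set.ncard_coe_finset]; simp [F, hΩ]
  have hmemF : ∀ {c}, c ∈ F ↔ c ∈ Ω := fun {c} => by simp [F]
  let P := F.image e
  have h12 : 12 ≤ P.card := by
    have := Finset.card_le_mul_card_image (f := e) F 2 fun y hy => ?_
    · rw [hF] at this
      show 12 ≤ (F.image e).card
      omega
    obtain ⟨c, hc, rfl⟩ := Finset.mem_image.1 hy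
    refine le_trans (Finset.card_le_card (t := ({c, cj x c} : Finset X)) fun c' hc'' => ?_) Finset.card_le_two
    rw [Finset.mem_filter] at hc''
    rcases hpinj c (hmemF.1 hc) c' (hmemF.1 hc''.1) hc''.2.symm with rfl | rfl <;> simp
  have hPE : ∀ {z}, z ∈ P → z ∈ Dc t := fun hz => by
    obtain ⟨c, hc, rfl⟩ := Finset.mem_image.1 hz
    exact C.bij.mapsTo (hu c (hmemF.1 hc))
  have hPc : ∀ {z w}, z ∈ P → w ∈ P → Commute z w := fun hz hw => by
    obtain ⟨c, hc, rfl⟩ := Finset.mem_image.1 hz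
    obtain ⟨c', hc'', rfl⟩ := Finset.mem_image.1 hw
    have a := hmemF.1 hc
    have b := hmemF.1 hc''
    refine (C.comm _ (hu c a) _ (hu c' b)).2 ?_
    have hpp : Commute (p c) (p c') :=
      ((hcomm a b).mul_right (hcomm a (hc' b))).mul_left ((hcomm (hc' a) b).mul_right (hcomm (hc' a) (hc' b)))
    have hxp : ∀ {c}, c ∈ Ω → Commute x (p c) := fun {c} hc => by
      have := (hu c hc).2.2
      rw [← hpeq c hc] at this
      have := (Commute.refl x).inv_right.mul_right this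
      rwa [inv_mul_cancel_left] at this
    rw [← hpeq c a, ← hpeq c' b]
    exact ((Commute.refl x).mul_right (hxp b)).mul_left (((hxp a).symm).mul_right hpp)
  have hle := Finset.card_powersetCard 2 P
  let T : Set Y := {z | ι z ∈ cj g '' {z | ∃ a ∈ Subgroup.closure Ω, a * cj x a = z}}
  have hT : T.ncard ≤ 64 := by
    refine le_trans ?_ (h.card_comm hxx hx)
    rw [← Set.ncard_image_of_injective {z | ∃ a ∈ Subgroup.closure Ω, a * cj x a = z} (cj_inj g),
      ← Set.ncard_image_of_injective T h.inj]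
    refine Set.ncard_le_ncard ?_ (Set.toFinite _)
    rintro _ ⟨z, hz, rfl⟩; exact hz
  have key : ∀ S ∈ P.powersetCard 2, ∃ z w, z ∈ P ∧ w ∈ P ∧ z ≠ w ∧ S = {z, w} := fun S hS => by
    obtain ⟨hS1, hS2⟩ := Finset.mem_powersetCard.1 hS
    obtain ⟨z, w, nzw, rfl⟩ := Finset.card_eq_two.1 hS2
    exact ⟨z, w, hS1 (by simp), hS1 (by simp), nzw, rfl⟩
  have hprod : ∀ {z w}, z ∈ P → w ∈ P → z ≠ w → ({z, w} : Finset Y).toList.prod = z * w := fun {z w} hz hw hne => by
    have hp : ({z, w} : Finset Y).toList.Perm [z, w] := by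
      simpa using List.toFinset_toList (s := [z, w]) (by simp [hne])
    have hmem : ∀ q ∈ ({z, w} : Finset Y).toList, q ∈ P := fun q hq => by
      simp only [Finset.mem_toList, Finset.mem_insert, Finset.mem_singleton] at hq
      rcases hq with rfl | rfl <;> assumption
    rw [hp.prod_eq' (List.Pairwise.imp_of_mem (fun {a b} ha hb _ => ?_)
      (List.nodup_iff_pairwise_ne.1 (Finset.nodup_toList _)))]
    · simp
    · exact hPc (hmem _ ha) (hmem _ hb)
  have hsub : ((P.powersetCard 2).image fun S => S.toList.prod : Finset Y).card ≤ 64 := by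
    refine le_trans ?_ hT
    rw [← Set.ncard_coe_finset]
    refine Set.ncard_le_ncard ?_ (Set.toFinite _)
    intro q hq
    obtain ⟨S, hS, rfl⟩ := Finset.mem_image.1 (Finset.mem_coe.1 hq)
    obtain ⟨z, w, hz, hw, hne, rfl⟩ := key S hS
    rw [hprod hz hw hne]
    obtain ⟨c, hc, rfl⟩ := Finset.mem_image.1 hz
    obtain ⟨c', hc'', rfl⟩ := Finset.mem_image.1 hw
    have a := hmemF.1 hc
    have b := hmemF.1 hc''
    refine ⟨cj c x * cj c' x, ⟨c * c', mul_mem (Subgroup.subset_closure a) (Subgroup.subset_closure b), ?_⟩, ?_⟩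
    · have hxp : Commute x (p c) := by
        have := (Commute.refl x).inv_right.mul_right (hpeq c a ▸ (hu c a).2.2)
        rwa [inv_mul_cancel_left] at this
      rw [cj_mul', ← hpeq c a, ← hpeq c' b,
        show x * p c * (x * p c') = x * (p c * x) * p c' by simp [mul_assoc], ← hxp.eq, ← mul_assoc x x, hxx, one_mul]
      show c * c' * (cj x c * cj x c') = c * cj x c * (c' * cj x c')
      rw [show c * c' * (cj x c * cj x c') = c * (c' * cj x c) * cj x c' by simp [mul_assoc],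
        (hcomm b (hc' a)).eq]
      simp [mul_assoc]
    · rw [cj_mul', hgu _ (hu c a), hgu _ (hu c' b), h.up_mul]
  have hinj : Set.InjOn (fun S : Finset Y => S.toList.prod) ↑(P.powersetCard 2) := by
    intro S hS S' hS' k
    obtain ⟨z, w, hz, hw, hne, rfl⟩ := key S hS
    obtain ⟨z', w', hz', hw', hne', rfl⟩ := key S' hS'
    simp only [hprod hz hw hne, hprod hz' hw' hne'] at k
    rcases Tower.pair_unique h.y23.set h.y23.rel4 (hPE hz) (hPE hw) hne (hPc hz hw) (hPE hz') (hPE hw')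
      (hPc hz' hw') k.symm with ⟨rfl, rfl⟩ | ⟨rfl, rfl⟩
    · rfl
    · exact Finset.pair_comm _ _
  rw [Finset.card_image_of_injOn hinj, hle, Nat.choose_two_right] at hsub
  have := Nat.mul_le_mul h12 (Nat.sub_le_sub_right h12 1)
  omega

/-- No member exchanges two commuting members. -/
theorem no_swap {x a b : X} (hx : x ∈ Dc d) (ha : a ∈ Dc d) (hb : b ∈ nbr (Dc d) a) : cj x a ≠ b := by
  intro hab
  obtain ⟨g, hga, hgb⟩ := h.pair_to ha hb
  set y := cj g x with hy
  have hyD : y ∈ Dc d := Dc_cj g hx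
  have hyy := h.sq hyD
  have e1 : cj y d = up d ι t := by
    rw [← hgb, ← hab, show cj y d = cj y (cj g a) from by rw [hga], hy]
    simp [cj, mul_assoc]
  have e2 : cj y (up d ι t) = d := by rw [← e1, cj_cj, hyy, cj_one]
  have hmap : ∀ S ∈ PairBases d ι t Ω0, cj y '' S ∈ PairBases d ι t Ω0 := by
    rintro S ⟨⟨k, rfl⟩, h1, h2⟩
    exact ⟨⟨y * k, (cj_image_comp y k _).symm⟩, ⟨_, h2, e2⟩, ⟨_, h1, e1⟩⟩
  let σ : Equiv.Perm (PairBases d ι t Ω0) :=
    Function.Involutive.toPerm (fun S => ⟨cj y '' S.1, hmap S.1 S.2⟩) fun S => Subtype.ext (by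
      show cj y '' (cj y '' S.1) = S.1
      rw [cj_image_comp, hyy]
      ext z; simp [cj])
  have : Fintype (PairBases d ι t Ω0) := Fintype.ofFinite _
  have : Fact (Nat.Prime 2) := ⟨Nat.prime_two⟩
  obtain ⟨⟨S, ⟨k, rfl⟩, hd, hup⟩, hfix⟩ := Equiv.Perm.exists_fixed_point_of_prime (p := 2) (n := 1) (σ := σ)
    (by
      rw [← Nat.card_eq_fintype_card, Nat.card_coe_set_eq, ← even_iff_two_dvd, Nat.not_even_iff_odd]
      exact h.odd_pair_bases)
    (Equiv.ext fun S => Subtype.ext (by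
      show cj y '' (cj y '' S.1) = S.1
      rw [cj_image_comp, hyy]
      ext z; simp [cj]))
  have hfix' : cj y '' (cj k '' Om24 d ι Ω0) = cj k '' Om24 d ι Ω0 := congrArg Subtype.val hfix
  set z := cj k⁻¹ y with hz
  have hzΩ : cj z '' Om24 d ι Ω0 = Om24 d ι Ω0 := by
    have := congrArg (fun S => cj k⁻¹ '' S) hfix'
    rw [cj_image_comp, cj_image_comp, cj_image_comp, inv_mul_cancel] at this
    rw [show z = k⁻¹ * y * k by simp [hz, cj], this]
    ext w; simp [cj]
  obtain ⟨c, hc, hzc⟩ := h.fix_base (Dc_cj _ hyD) hzΩ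
  set w := cj k c with hw
  have hyw : Commute y w := by
    have := (commute_conj_iff k z c).2 hzc
    simpa [hz, hw, cj, mul_assoc] using this
  have hdw : Commute d w := by
    obtain ⟨c', hc', e⟩ := hd
    rw [← e, hw]
    exact (commute_conj_iff k c' c).2 (h.comm_AX (Subgroup.subset_closure hc') (Subgroup.subset_closure hc))
  have hne : d ≠ up d ι t := h.up_t_mem.2.1.symm
  have hnd : w ≠ d := fun e => hne (by rw [← e1, cj_of_commute (e ▸ hyw)])
  have hny : w ≠ y := fun e => hne (by rw [← e1, cj_of_commute (e ▸ hdw).symm])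
  have hwD : w ∈ Dc d := Dc_cj k (h.base_dc hc)
  have hnc : ¬ Commute y d := fun q => hne (by rw [← e1, cj_of_commute q])
  have br := h.braid_nbr hwD ⟨hyD, hny.symm, hyw.symm⟩ ⟨h.d_mem, hnd.symm, hdw.symm⟩ hnc
  have e3 : d * y * d = up d ι t := by rw [← br, ← e1, cj, h.inv hyD]
  refine hnc ?_
  have : y = up d ι t := by
    have := congrArg (fun z => d * z * d) e3
    simp only [show d * (d * y * d) * d = y by simp [← mul_assoc, h.dd]; simp [mul_assoc, h.dd]] at this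
    rw [this, ← (h.up_comm_d t).eq, mul_assoc, h.dd, mul_one]
  rw [this]
  exact h.up_comm_d t

end Hyp

end CfsgLib.ThreeTrans.FiCent24
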