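import Mathlib
import Cfsg.Agent.Lib.Involutions.BrauerSuzuki
import Cfsg.Agent.Lib.PCore.Basic
import Cfsg.Agent.Lib.ThreeTrans.FiCent23.Pair
import Cfsg.Agent.Lib.ThreeTrans.FiCent24.Local

/-! The centraliser of the product of two commuting members keeps the pair: the members are isolated in
the quotient, and a group of odd order inverted by the 24 members of a base is centralised by the
subgroup of index two over it. -/

set_option autoImplicit false
set_option linter.unusedSectionVars false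

namespace CfsgLib.ThreeTrans.FiCent24

open CfsgLib.ThreeTrans CfsgLib.ThreeTrans.FiCent23 CfsgLib.ThreeTrans.Classif
open CfsgLib.ThreeTrans.Tower (mul_sq_one)
open CfsgLib.ThreeTrans.LocalSymThree (nbr nbr_symm)

universe u v

variable {X : Type u} [Group X] [Finite X] {Y : Type v} [Group Y] [Finite Y]
variable {G₀ : Subgroup X} {d : X} {ι : Y →* X} {t : Y} {Ω0 : Set Y}

namespace Hyp

variable (h : Hyp G₀ d ι t Ω0)
include h

theorem t_sq : t * t = 1 := h.y23.sq (IsConj.refl t)

theorem i_t_mul : d * up d ι t = ι t := h.d_mul_up t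

theorem cj_up (y z : Y) : cj (up d ι y) (up d ι z) = up d ι (cj y z) := by
  rw [up, ← cj_cj, h.i_up, cj_of_commute (h.up_comm_d _).symm]

/-- An element centralising the standard product and another member of the base keeps the pair. -/
theorem pair_in {k ω : X} (hω : ω ∈ Om24 d ι Ω0) (hks : Commute k (ι t)) (hkω : Commute k ω) :
    cj k d = d ∨ cj k d = up d ι t := by
  by_cases e1 : ω = d
  · exact Or.inl (cj_of_commute (e1 ▸ hkω))
  by_cases e2 : ω = up d ι t
  · refine Or.inl (cj_of_commute ?_)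
    have := hks.mul_right (e2 ▸ hkω)
    rwa [← h.i_t_mul, mul_assoc, h.up_sq h.t_sq, mul_one] at this
  obtain ⟨n, hn, rfl⟩ := h.base_mem hω
  have hback : ∀ {x}, x ∈ Om24 d ι Ω0 → cj n⁻¹ x ∈ Om24 d ι Ω0 := fun hx =>
    h.norm_base (inv_mem hn) ▸ Set.mem_image_of_mem _ hx
  have other : ∀ {x}, x ∈ Om24 d ι Ω0 → cj n d ≠ x → ∃ p ∈ Ω0, cj n⁻¹ x = up d ι p := fun {x} hx hne => by
    rcases hback hx with k | ⟨p, hp, k⟩
    · exact absurd (by rw [← k, cj_cj, mul_inv_cancel, cj_one]) hne
    · exact ⟨p, hp, k.symm⟩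
  obtain ⟨p, hp, ep⟩ := other (Or.inl rfl) e1
  obtain ⟨q, hq, eq⟩ := other (Or.inr ⟨t, h.y23.self, rfl⟩) e2
  have hpq : p ≠ q := fun k => h.up_t_mem.2.1 (cj_inj n⁻¹ (by rw [ep, eq, k]))
  have hd : Commute (cj n⁻¹ k) d := by
    have := (commute_conj_iff n⁻¹ k (cj n d)).2 hkω
    simpa [cj, mul_assoc] using this
  have hs : Commute (cj n⁻¹ k) (ι (p * q)) := by
    rw [← h.up_mul, ← ep, ← eq, ← cj_mul', h.i_t_mul]
    exact (commute_conj_iff n⁻¹ k (ι t)).2 hks
  have cpq := h.y23.comm p hp q hq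
  obtain ⟨y, hy, hact⟩ : ∃ y : Y, Commute y (p * q) ∧
      ∀ z, cj (cj n⁻¹ k) (up d ι z) = up d ι (cj y z) := by
    rcases h.cen_cases hd with ⟨-, y, e⟩ | ⟨-, y, e⟩
    · rw [e] at hs
      exact ⟨y, h.inj (by rw [map_mul, map_mul ι (p * q) y]; exact hs.eq), fun z => by rw [e, h.i_up]⟩
    · rw [e] at hs
      refine ⟨y, h.inj ?_, fun z => by rw [e, h.cj_up]⟩
      have hq' : Commute d (ι (p * q)) := (h.comm_i _).symm
      have := hq'.mul_left hs
      rw [h.d_mul_up] at this
      rw [map_mul, map_mul ι (p * q) y]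
      exact this.eq
  have hsum : cj y p * cj y q = p * q := by rw [← cj_mul', cj_of_commute hy]
  have hkd : cj k d = cj n (up d ι (cj y p)) := by
    rw [← hact, ← ep]; simp [cj, mul_assoc]
  have back : ∀ {x : X} {z : Y}, cj n⁻¹ x = up d ι z → cj n (up d ι z) = x := fun {x z} e => by
    rw [← e, cj_cj, mul_inv_cancel, cj_one]
  rcases Tower.pair_unique h.y23.set h.y23.rel4 (h.y23.sub hp) (h.y23.sub hq) hpq cpq
    (Dc_cj y (h.y23.sub hp)) (Dc_cj y (h.y23.sub hq)) ((commute_conj_iff y p q).2 cpq) hsum with ⟨e, -⟩ | ⟨e, -⟩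
  · exact Or.inl (by rw [hkd, e, back ep])
  · exact Or.inr (by rw [hkd, e, back eq])

/-- The centraliser of the standard product keeps the pair. -/
theorem cent_pair₀ {g : X} (hg : Commute g (ι t)) : cj g d = d ∨ cj g d = up d ι t := by
  classical
  set s := ι t with hs
  have hst : d * up d ι t = s := h.i_t_mul
  have hss : s * s = 1 := by rw [hs, ← map_mul, h.t_sq, map_one]
  have hs1 : s ≠ 1 := fun k => ne_one h.y23.set (IsConj.refl t) (h.inj (k.trans (map_one ι).symm))
  have has : Commute d s := (h.comm_i t).symm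
  let C := Subgroup.centralizer ({s} : Set X)
  have memC : ∀ {x : X}, x ∈ C ↔ Commute x s := fun {x} =>
    ⟨fun k => Subgroup.mem_centralizer_singleton_iff.1 k, fun k => Subgroup.mem_centralizer_singleton_iff.2 k.eq⟩
  let N : Subgroup C := (Subgroup.zpowers s).subgroupOf C
  have hN : ∀ x : C, x ∈ N ↔ (x : X) = 1 ∨ (x : X) = s := by
    intro x
    show (x : X) ∈ Subgroup.zpowers s ↔ _
    constructor
    · intro hx
      obtain ⟨n, hn⟩ := Subgroup.mem_zpowers_iff.1 hx
      rw [← hn]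
      rcases Int.even_or_odd' n with ⟨m, rfl | rfl⟩
      · left; rw [zpow_mul, zpow_two, hss, one_zpow]
      · right; rw [zpow_add, zpow_mul, zpow_two, hss, one_zpow, one_mul, zpow_one]
    · rintro (k | k) <;> rw [k]
      exacts [one_mem _, Subgroup.mem_zpowers s]
  have : N.Normal := ⟨fun n hn x => by
    have hn' := (hN n).1 hn
    refine (hN _).2 (hn'.imp (fun k => ?_) fun k => ?_) <;>
      simp only [Subgroup.coe_mul, Subgroup.coe_inv, k]
    · rw [mul_one, mul_inv_cancel]
    · rw [(memC.1 x.2).eq, mul_inv_cancel_right]⟩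
  have : Finite C := inferInstance
  let aC : C := ⟨d, memC.2 has⟩
  have hiso : Cfsg.IsIsolatedInvolution (aC : C ⧸ N) := by
    refine ⟨orderOf_eq_prime ?_ ?_, ?_⟩
    · rw [pow_two, ← QuotientGroup.mk_mul, show aC * aC = 1 from Subtype.ext h.dd, QuotientGroup.mk_one]
    · intro k
      rcases (hN aC).1 ((QuotientGroup.eq_one_iff _).1 k) with k' | k'
      · exact h.d_ne_one k'
      · exact h.out ((show d = s from k') ▸ h.i_mem t)
    intro x
    induction x using QuotientGroup.induction_on with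
    | _ x =>
      intro hcm
      have hxs : Commute (x : X) s := memC.1 x.2
      set a' := cj (x : X) d with ha'
      have ha'D : a' ∈ Dc d := Dc_cj _ h.d_mem
      rw [← QuotientGroup.mk_inv, ← QuotientGroup.mk_mul, ← QuotientGroup.mk_mul] at hcm ⊢
      have hcm' := QuotientGroup.eq.1 (hcm.eq : ((aC * (x * aC * x⁻¹) : C) : C ⧸ N) = ((x * aC * x⁻¹ * aC : C) : C ⧸ N))
      rw [hN] at hcm'
      change (d * a')⁻¹ * (a' * d) = 1 ∨ (d * a')⁻¹ * (a' * d) = s at hcm'
      rw [mul_inv_rev, h.inv ha'D, h.dinv] at hcm'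
      suffices a' = d ∨ a' = up d ι t by
        symm
        rw [QuotientGroup.eq, hN]
        show d⁻¹ * a' = 1 ∨ d⁻¹ * a' = s
        rcases this with k | k <;> rw [k]
        · exact Or.inl (inv_mul_cancel d)
        · exact Or.inr (by rw [h.dinv, hst])
      rcases hcm' with k | k
      · have hca : Commute d a' := by
          show d * a' = a' * d
          calc d * a' = d * a' * (a' * d * (a' * d)) := by
                rw [show a' * d * (a' * d) = 1 by simpa [mul_assoc] using k, mul_one]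
            _ = a' * d := by simp [mul_assoc, ← mul_assoc a' a', h.sq ha'D, ← mul_assoc d d, h.dd]
        by_cases e : a' = d
        · exact Or.inl e
        obtain ⟨e', he', k'⟩ := h.mem_nbr_d.1 ⟨ha'D, e, hca⟩
        have hb' : cj (x : X) (up d ι t) ∈ Dc d := Dc_cj _ h.up_t_mem.1
        have hb'e : cj (x : X) (up d ι t) = up d ι (e' * t) := by
          have q : cj (x : X) (d * up d ι t) = s := by rw [hst, cj_of_commute hxs]
          rw [cj_mul', ← ha', k'] at q
          have q' := congrArg (fun z => up d ι e' * z) q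
          simp only [← mul_assoc, h.up_sq (h.y23.sq he'), one_mul] at q'
          rw [q', hs, up, mul_assoc, ← map_mul, up]
        have ct : Commute e' t := by
          refine h.inj ?_
          have q : Commute (up d ι e') s := by
            rw [← k', ha', ← cj_of_commute hxs]; exact (commute_conj_iff (x : X) d s).2 has
          have := (h.comm_i t).symm.mul_left q
          rw [h.d_mul_up] at this
          rw [map_mul, map_mul ι t e']
          exact this.eq
        rcases h.up_dc_iff.1 (hb'e ▸ hb') with q | q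
        · exact Or.inr (by rw [k', show e' = t from (eq_inv_of_mul_eq_one_left q).trans (h.y23.inv (IsConj.refl t))])
        · by_cases et : e' = t
          · exact Or.inr (by rw [k', et])
          exfalso
          have := h.y23.len_unique le_rfl (by norm_num) (by norm_num) (by norm_num) (TypeTop.isProd_one.2 q)
            (h.y23.prod_two he' ⟨IsConj.refl t, Ne.symm et, ct⟩)
          omega
      · exfalso
        refine h.no_swap ha'D h.d_mem h.up_t_mem ?_
        rw [cj, h.inv ha'D]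
        calc a' * d * a' = a' * d * (a' * d) * d := by simp [mul_assoc, h.dd]
          _ = up d ι t := by
            rw [show a' * d * (a' * d) = s by simpa [mul_assoc] using k, ← hst, (h.up_comm_d t).symm.eq,
              mul_assoc, h.dd, mul_one]
  have hz := CfsgLib.Involutions.zstar (C ⧸ N) (aC : C ⧸ N) hiso
  have : Fact (Nat.Prime 2) := ⟨Nat.prime_two⟩
  set O := Cfsg.pPrimeCore 2 (C ⧸ N) with hO
  have hOodd : Odd (Nat.card O) := by
    rw [Nat.odd_iff, ← Nat.two_dvd_ne_zero]
    exact CfsgLib.PCore.not_dvd_card_pPrimeCore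
  have hKpow : ∀ k : C, (k : C ⧸ N) ∈ O → (k : C ⧸ N) ^ Nat.card O = 1 := fun k hk => by
    have := congrArg Subtype.val (pow_card_eq_one' (x := (⟨_, hk⟩ : O)))
    rwa [Subgroup.coe_pow, OneMemClass.coe_one] at this
  have hKm : ∀ k : C, (k : C ⧸ N) ∈ O →
      ((k : X) ^ Nat.card O = 1 ∨ (k : X) ^ Nat.card O = s) := fun k hk => by
    have := hKpow k hk
    rw [← QuotientGroup.mk_pow, QuotientGroup.eq_one_iff, hN, Subgroup.coe_pow] at this
    exact this
  have hhalf : ∀ k : C, (k : C ⧸ N) ∈ O → k * k ∈ N → (k : C ⧸ N) = 1 := fun k hk hk2 => by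
    have hk2' := (QuotientGroup.eq_one_iff _).2 hk2
    rw [QuotientGroup.mk_mul] at hk2'
    obtain ⟨j, hj⟩ := hOodd
    have hp := hKpow k hk
    rwa [hj, pow_succ, pow_mul, pow_two, hk2', one_pow, one_mul] at hp
  -- the part keeping the pair is trivial
  let K : Subgroup C := O.comap (QuotientGroup.mk' N)
  let L : Subgroup Y := (K.map C.subtype).comap ι ⊓ Cd t
  have memL : ∀ {y}, y ∈ L ↔ (∃ k : C, (k : C ⧸ N) ∈ O ∧ (k : X) = ι y) ∧ Commute y t := by
    intro y
    simp only [L, Subgroup.mem_inf, Subgroup.mem_comap, Subgroup.mem_map, Subgroup.mem_centralizer_singleton_iff]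
    exact Iff.rfl
  have hcore : ∀ y ∈ L, y = 1 ∨ y = t := by
    refine h.y23.cent_core L inf_le_right (fun g hg y hy => ?_) fun y hy => ?_
    · obtain ⟨⟨j, hj, e⟩, hyt⟩ := memL.1 hy
      have hgt : Commute g t := Subgroup.mem_centralizer_singleton_iff.1 hg
      have hgC : ι g ∈ C := memC.2 (hgt.map ι)
      refine memL.2 ⟨⟨⟨ι g, hgC⟩ * j * ⟨ι g, hgC⟩⁻¹, ?_, ?_⟩, (hgt.mul_left hyt).mul_left hgt.inv_left⟩
      · rw [QuotientGroup.mk_mul, QuotientGroup.mk_mul, QuotientGroup.mk_inv]
        exact (inferInstance : O.Normal).conj_mem _ hj _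
      · simp [e]
    · obtain ⟨⟨j, hj, e⟩, -⟩ := memL.1 hy
      refine ⟨_, hOodd, (hKm j hj).imp (fun q => h.inj ?_) fun q => h.inj ?_⟩ <;> rw [map_pow, ← e, q]
      exact (map_one ι).symm
  have hSt : ∀ k : C, (k : C ⧸ N) ∈ O → (cj (k : X) d = d ∨ cj (k : X) d = up d ι t) → (k : C ⧸ N) = 1 := by
    intro k hk hkp
    have hks : Commute (k : X) s := memC.1 k.2
    have hkd : Commute ((k : X) * k) d := by
      refine commute_of_cj ?_
      rw [← cj_cj]
      rcases hkp with e | e
      · rw [e, e]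
      · rw [e]
        have q : cj (k : X) (d * up d ι t) = s := by rw [hst, cj_of_commute hks]
        rw [cj_mul', e, ← hst, (h.up_comm_d t).symm.eq] at q
        exact mul_left_cancel q
    rcases h.cen_cases hkd with ⟨-, y, e⟩ | ⟨q, -⟩
    · refine hhalf k hk ((hN _).2 ?_)
      rw [Subgroup.coe_mul, e]
      have hyt : Commute y t := h.inj (by rw [map_mul, map_mul, ← e]; exact (hks.mul_left hks).eq)
      rcases hcore y (memL.2 ⟨⟨k * k, by rw [QuotientGroup.mk_mul]; exact mul_mem hk hk, by rw [Subgroup.coe_mul, e]⟩, hyt⟩) with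
        r | r <;> rw [r]
      · exact Or.inl (map_one ι)
      · exact Or.inr rfl
    · exact absurd (h.mul_mem_iff.2 Iff.rfl) q
  -- twisting by `s` is impossible in odd order
  have notwist : ∀ {w : X}, Commute w s → ∀ k : C, (k : C ⧸ N) ∈ O → cj w (k : X) ≠ (k : X) * s := by
    intro w hw k hk q'
    obtain ⟨j, hj⟩ := hOodd
    have hp : cj w ((k : X) ^ Nat.card O) = (k : X) ^ Nat.card O * s := by
      have e1 : cj w ((k : X) ^ Nat.card O) = (cj w (k : X)) ^ Nat.card O := conj_pow.symm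
      rw [e1, q', (memC.1 k.2).mul_pow]
      congr 1
      rw [hj, pow_succ, pow_mul, pow_two, hss, one_pow, one_mul]
    have hfix : cj w ((k : X) ^ Nat.card O) = (k : X) ^ Nat.card O := by
      rcases hKm k hk with e | e <;> rw [e]
      · simp [cj]
      · exact cj_of_commute hw
    rw [hfix] at hp
    exact hs1 (mul_eq_left.1 hp.symm)
  have hsA : s ∈ Subgroup.closure (Om24 d ι Ω0) :=
    h.mem_AX.2 ⟨t, Subgroup.subset_closure h.y23.self, Or.inl rfl⟩
  have hcomm : ∀ {ω}, ω ∈ Om24 d ι Ω0 → Commute ω s := fun hω => h.comm_AX (Subgroup.subset_closure hω) hsA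
  have hinvert : ∀ ω (hω : ω ∈ Om24 d ι Ω0), ∀ x ∈ O,
      ((⟨ω, memC.2 (hcomm hω)⟩ : C) : C ⧸ N) * x * ((⟨ω, memC.2 (hcomm hω)⟩ : C) : C ⧸ N)⁻¹ = x⁻¹ := by
    intro ω hω x hx
    set w : C ⧸ N := ((⟨ω, memC.2 (hcomm hω)⟩ : C) : C ⧸ N) with hw
    have hww : w * w = 1 := by
      rw [hw, ← QuotientGroup.mk_mul, show (⟨ω, memC.2 (hcomm hω)⟩ : C) * ⟨ω, memC.2 (hcomm hω)⟩ = 1 from
        Subtype.ext (h.sq (h.base_dc hω)), QuotientGroup.mk_one]
    let σ : O →* O := (MulAut.conjNormal w : MulAut O).toMonoidHom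
    have hσ : ∀ z : O, (σ z : C ⧸ N) = w * z * w⁻¹ := fun z => MulAut.conjNormal_apply w z
    have hfp : MonoidHom.FixedPointFree σ := by
      intro z hz
      have hz' : w * (z : C ⧸ N) * w⁻¹ = z := by rw [← hσ, hz]
      obtain ⟨k, hk⟩ := QuotientGroup.mk_surjective (z : C ⧸ N)
      have hkO : (k : C ⧸ N) ∈ O := hk ▸ z.2
      rw [← hk, hw, ← QuotientGroup.mk_inv, ← QuotientGroup.mk_mul, ← QuotientGroup.mk_mul] at hz'
      have hz'' := QuotientGroup.eq.1 hz'.symm
      rw [hN, Subgroup.coe_mul, Subgroup.coe_mul, Subgroup.coe_mul, Subgroup.coe_inv, Subgroup.coe_inv] at hz''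
      change ((k : X)⁻¹ * cj ω (k : X) = 1 ∨ (k : X)⁻¹ * cj ω (k : X) = s) at hz''
      refine Subtype.ext ?_
      show (z : C ⧸ N) = 1
      rw [← hk]
      refine hSt k hkO ?_
      rcases hz'' with q | q
      · exact h.pair_in hω (memC.1 k.2) (commute_of_cj (inv_mul_eq_one.1 q).symm).symm
      · exact absurd (inv_mul_eq_iff_eq_mul.1 q) (notwist (hcomm hω) k hkO)
    have h2 : Function.Involutive σ := fun z => Subtype.ext (by
      rw [hσ, hσ, show w * (w * (z : C ⧸ N) * w⁻¹) * w⁻¹ = (w * w) * z * (w * w)⁻¹ by group, hww]; simp)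
    have := congrArg Subtype.val (congrFun (hfp.coe_eq_inv_of_involutive h2) ⟨x, hx⟩)
    rw [hσ] at this
    simpa using this
  have hOtriv : ∀ x ∈ O, x = 1 := by
    intro x hx
    obtain ⟨k, rfl⟩ := QuotientGroup.mk_surjective x
    have hkA : (k : X) ∈ Subgroup.closure (Om24 d ι Ω0) := by
      refine h.cen_base fun a ha => ?_
      have hωa : up d ι a ∈ Om24 d ι Ω0 := Or.inr ⟨a, ha, rfl⟩
      have e1 := hinvert d (Or.inl rfl) _ hx
      have e2 := hinvert (up d ι a) hωa _ hx
      have h1 : Commute (ι a) s := ((h.y23.comm a ha t h.y23.self).map ι)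
      set u : C := ⟨d, memC.2 (hcomm (Or.inl rfl))⟩ with hu
      set v : C := ⟨up d ι a, memC.2 (hcomm hωa)⟩ with hv
      have e3 : ((u * v : C) : C ⧸ N) * (k : C ⧸ N) * ((u * v : C) : C ⧸ N)⁻¹ = (k : C ⧸ N) := by
        have := congrArg (fun z => z⁻¹) e1
        simp only [inv_inv, mul_inv_rev] at this
        rw [QuotientGroup.mk_mul, show (u : C ⧸ N) * (v : C ⧸ N) * (k : C ⧸ N) * ((u : C ⧸ N) * (v : C ⧸ N))⁻¹ =
          (u : C ⧸ N) * ((v : C ⧸ N) * (k : C ⧸ N) * (v : C ⧸ N)⁻¹) * (u : C ⧸ N)⁻¹ by group, e2]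
        simpa [mul_assoc] using this
      rw [← QuotientGroup.mk_inv, ← QuotientGroup.mk_mul, ← QuotientGroup.mk_mul] at e3
      have e4 := QuotientGroup.eq.1 e3.symm
      rw [hN, Subgroup.coe_mul, Subgroup.coe_mul, Subgroup.coe_mul, Subgroup.coe_inv, Subgroup.coe_inv,
        Subgroup.coe_mul] at e4
      change (k : X)⁻¹ * cj (d * up d ι a) (k : X) = 1 ∨ (k : X)⁻¹ * cj (d * up d ι a) (k : X) = s at e4
      rw [h.d_mul_up] at e4
      rcases e4 with q | q
      · exact (commute_of_cj (inv_mul_eq_one.1 q).symm).symm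
      · exact absurd (inv_mul_eq_iff_eq_mul.1 q) (notwist h1 k hx)
    refine hhalf k hx ((hN _).2 (Or.inl ?_))
    have := h.AX_elementary.2 _ hkA
    rwa [pow_two] at this
  have hg' : g ∈ C := memC.2 hg
  have hfin := hOtriv _ (hz ((⟨g, hg'⟩ : C) : C ⧸ N))
  rw [mul_inv_eq_one, ← QuotientGroup.mk_inv, ← QuotientGroup.mk_mul, ← QuotientGroup.mk_mul] at hfin
  have hfin' := QuotientGroup.eq.1 hfin.symm
  rw [hN, Subgroup.coe_mul, Subgroup.coe_inv] at hfin'
  change d⁻¹ * cj g d = 1 ∨ d⁻¹ * cj g d = s at hfin'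
  rcases hfin' with q | q
  · exact Or.inl (inv_mul_eq_one.1 q).symm
  · exact Or.inr (inv_mul_eq_iff_eq_mul.1 q)

/-- The centraliser of the product of two commuting members keeps the pair. -/
theorem cent_pair {a b g : X} (ha : a ∈ Dc d) (hb : b ∈ nbr (Dc d) a) (hg : Commute g (a * b)) :
    cj g a = a ∨ cj g a = b := by
  obtain ⟨k, ka, kb⟩ := h.pair_to ha hb
  have hg' : Commute (cj k g) (ι t) := by
    rw [← h.i_t_mul, ← kb, show d * cj k b = cj k (a * b) by rw [cj_mul', ka]]
    exact (commute_conj_iff k g (a * b)).2 hg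
  have e : cj (cj k g) d = cj k (cj g a) := by rw [← ka]; simp [cj, mul_assoc]
  rcases h.cent_pair₀ hg' with q | q
  · exact Or.inl (cj_inj k (by rw [← e, q, ka]))
  · exact Or.inr (cj_inj k (by rw [← e, q, kb]))

/-- The members centralising the product of two commuting members. -/
theorem delta_pair {a b x : X} (ha : a ∈ Dc d) (hb : b ∈ nbr (Dc d) a) (hx : x ∈ Dc d)
    (hc : Commute x (a * b)) : Commute x a ∧ Commute x b := by
  rcases h.cent_pair ha hb hc with e | e
  · have k := commute_of_cj e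
    refine ⟨k, ?_⟩
    have := k.inv_right.mul_right hc
    rwa [inv_mul_cancel_left] at this
  · exact absurd e (h.no_swap hx ha hb)

/-- There are 3512 of them. -/
theorem card_delta_pair {a b : X} (ha : a ∈ Dc d) (hb : b ∈ nbr (Dc d) a) :
    {x | x ∈ Dc d ∧ Commute x (a * b)}.ncard = 3512 := by
  have hset : {x | x ∈ Dc d ∧ Commute x (a * b)} = insert a (insert b (nbr (Dc d) a ∩ nbr (Dc d) b)) := by
    ext x
    refine ⟨fun ⟨hx, hc⟩ => ?_, ?_⟩
    · obtain ⟨k1, k2⟩ := h.delta_pair ha hb hx hc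
      by_cases e1 : x = a
      · exact Or.inl e1
      by_cases e2 : x = b
      · exact Or.inr (Or.inl e2)
      exact Or.inr (Or.inr ⟨⟨hx, e1, k1.symm⟩, hx, e2, k2.symm⟩)
    · rintro (rfl | rfl | ⟨k1, k2⟩)
      · exact ⟨ha, (Commute.refl _).mul_right hb.2.2⟩
      · exact ⟨hb.1, hb.2.2.symm.mul_right (Commute.refl _)⟩
      · exact ⟨k1.1, k1.2.2.symm.mul_right k2.2.2.symm⟩
  obtain ⟨f, C, -⟩ := h.exists_chart ha
  rw [hset, Set.ncard_insert_of_notMem ?_ (Set.toFinite _), Set.ncard_insert_of_notMem ?_ (Set.toFinite _),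
    ← (C.bij.injOn.mono Set.inter_subset_left).ncard_image, C.image_nbr hb, h.y23.deg (C.bij.mapsTo hb)]
  · exact fun k => k.2.2.1 rfl
  · rintro (k | k)
    exacts [hb.2.1 k.symm, k.1.2.1 rfl]

end Hyp

end CfsgLib.ThreeTrans.FiCent24
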