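import Mathlib
import Cfsg.Agent.Lib.ThreeTrans.Tower.Orders
import Cfsg.Agent.Lib.ThreeTrans.FiCent24.Pair

/-! The involution that is the product of four pairwise commuting members: its centraliser is transitive
on the 504 members commuting with it, and one member far from a given one has at least 72 of them as
common neighbours. -/

set_option autoImplicit false
set_option linter.unusedSectionVars false

namespace CfsgLib.ThreeTrans.FiCent24

open CfsgLib.ThreeTrans CfsgLib.ThreeTrans.FiCent23 CfsgLib.ThreeTrans.Classif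
open CfsgLib.ThreeTrans.TypeTop (IsProd isProd_one isProd_two isProd_three)
open CfsgLib.ThreeTrans.Tower (mul_sq_one)
open CfsgLib.ThreeTrans.LocalSymThree (nbr nbr_symm)

universe u v

variable {X : Type u} [Group X] [Finite X] {Y : Type v} [Group Y] [Finite Y]
variable {G₀ : Subgroup X} {d : X} {ι : Y →* X} {t : Y} {Ω0 : Set Y}

namespace M23

variable (h : M23 t Ω0)
include h

omit [Finite X] in
/-- A member centralising the product of a triple is in it or commutes with all of it. -/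
theorem cen_triple {a b c x : Y} (T : Triple (Dc t) a b c) (hx : x ∈ Dc t) (hc' : Commute x (a * b * c)) :
    x = a ∨ x = b ∨ x = c ∨ x ∈ nbr (Dc t) a ∩ nbr (Dc t) b ∩ nbr (Dc t) c := by
  obtain ⟨ha, hb, hc, nab, nac, nbc, cab, cac, cbc⟩ := T
  by_cases e3 : x = c
  · exact Or.inr (Or.inr (Or.inl e3))
  by_cases e1 : x = a
  · exact Or.inl e1
  by_cases e2 : x = b
  · exact Or.inr (Or.inl e2)
  obtain ⟨k1, k2, k3⟩ := commute_of_commute_three h.set ha hb hc hx nab nac nbc cab cac cbc e3 hc'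
  exact Or.inr (Or.inr (Or.inr ⟨⟨⟨hx, e1, k1.symm⟩, hx, e2, k2.symm⟩, hx, e3, k3.symm⟩))

omit [Finite X] in
/-- Two triples with one product share their members. -/
theorem triple_unique {a b c p q r : Y} (T : Triple (Dc t) a b c) (U : Triple (Dc t) p q r)
    (e : a * b * c = p * q * r) : a = p ∨ a = q ∨ a = r := by
  by_contra hn
  simp only [not_or] at hn
  obtain ⟨n1, n2, n3⟩ := hn
  obtain ⟨ha, hb, hc, nab, nac, nbc, cab, cac, cbc⟩ := id T
  obtain ⟨hp, hq, hr, npq, npr, nqr, cpq, cpr, cqr⟩ := id U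
  have comm : ∀ {x}, x = a ∨ x = b ∨ x = c → Commute x p ∧ Commute x q ∧ Commute x r := by
    intro x hx
    have hxD : x ∈ Dc t := by rcases hx with rfl | rfl | rfl <;> assumption
    have hxc : Commute x (p * q * r) := by
      rw [← e]
      rcases hx with rfl | rfl | rfl
      exacts [((Commute.refl _).mul_right cab).mul_right cac, (cab.symm.mul_right (Commute.refl _)).mul_right cbc,
        (cac.symm.mul_right cbc.symm).mul_right (Commute.refl _)]
    rcases h.cen_triple U hxD hxc with rfl | rfl | rfl | ⟨⟨k1, k2⟩, k3⟩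
    exacts [⟨Commute.refl _, cpq, cpr⟩, ⟨cpq.symm, Commute.refl _, cqr⟩, ⟨cpr.symm, cqr.symm, Commute.refl _⟩,
      ⟨k1.2.2.symm, k2.2.2.symm, k3.2.2.symm⟩]
  obtain ⟨ap, aq, ar⟩ := comm (x := a) (Or.inl rfl)
  obtain ⟨bp, bq, br⟩ := comm (x := b) (Or.inr (Or.inl rfl))
  obtain ⟨cp, cq, cr⟩ := comm (x := c) (Or.inr (Or.inr rfl))
  -- a second member of the first triple cannot be in the second one
  have aux : ∀ {x y}, (x = b ∧ y = c) ∨ (x = c ∧ y = b) → x ≠ p ∧ x ≠ q ∧ x ≠ r := by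
    intro x y hxy
    have hy : y ∈ Dc t ∧ a ≠ y ∧ Commute a y := by
      rcases hxy with ⟨-, rfl⟩ | ⟨-, rfl⟩
      exacts [⟨hc, nac, cac⟩, ⟨hb, nab, cab⟩]
    have hxy' : a * y * x = p * q * r ∧ x * x = 1 := by
      rcases hxy with ⟨rfl, rfl⟩ | ⟨rfl, rfl⟩
      · exact ⟨by rw [← e, mul_assoc, mul_assoc, cbc.symm.eq], h.sq hb⟩
      · exact ⟨e, h.sq hc⟩
    have hay : a * y = p * q * r * x := by rw [← hxy'.1, mul_assoc (a * y), hxy'.2, mul_one]
    refine ⟨fun k => ?_, fun k => ?_, fun k => ?_⟩ <;> rw [k] at hay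
    · have : q * r = a * y := by rw [hay, mul_assoc p q r, (cpq.mul_right cpr).eq, mul_assoc, h.sq hp, mul_one]
      rcases Tower.pair_unique h.set h.rel4 ha hy.1 hy.2.1 hy.2.2 hq hr cqr this with ⟨k, -⟩ | ⟨-, k⟩
      exacts [n2 k.symm, n3 k.symm]
    · have : p * r = a * y := by rw [hay, mul_assoc p q r, cqr.eq, ← mul_assoc, mul_assoc (p * r), h.sq hq, mul_one]
      rcases Tower.pair_unique h.set h.rel4 ha hy.1 hy.2.1 hy.2.2 hp hr cpr this with ⟨k, -⟩ | ⟨-, k⟩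
      exacts [n1 k.symm, n3 k.symm]
    · have : p * q = a * y := by rw [hay, mul_assoc (p * q), h.sq hr, mul_one]
      rcases Tower.pair_unique h.set h.rel4 ha hy.1 hy.2.1 hy.2.2 hp hq cpq this with ⟨k, -⟩ | ⟨-, k⟩
      exacts [n1 k.symm, n2 k.symm]
  obtain ⟨b1, b2, b3⟩ := aux (x := b) (y := c) (Or.inl ⟨rfl, rfl⟩)
  obtain ⟨c1, c2, c3⟩ := aux (x := c) (y := b) (Or.inr ⟨rfl, rfl⟩)
  refine h.rel 6 le_rfl (by norm_num) [a, b, c, p, q, r]
    (by simp [nab, nac, n1, n2, n3, nbc, b1, b2, b3, c1, c2, c3, npq, npr, nqr]) rfl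
    (by simp [ha, hb, hc, hp, hq, hr]) ?_ ?_
  · intro x hx y hy
    simp only [List.mem_cons, List.not_mem_nil, or_false] at hx hy
    rcases hx with rfl | rfl | rfl | rfl | rfl | rfl <;> rcases hy with rfl | rfl | rfl | rfl | rfl | rfl <;>
      first
        | exact Commute.refl _
        | assumption
        | exact Commute.symm (by assumption)
  · simp only [List.prod_cons, List.prod_nil, mul_one]
    rw [show a * (b * (c * (p * (q * r)))) = a * b * c * (p * q * r) by simp only [mul_assoc], e]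
    exact mul_sq_one (mul_sq_one (h.sq hp) (h.sq hq) cpq) (h.sq hr) (cpr.mul_left cqr)

omit [Finite X] in
/-- The centraliser of the product of a triple. -/
theorem card_cen_triple {a b c : Y} (T : Triple (Dc t) a b c) :
    Nat.card (Cd (a * b * c)) = 318504960 := by
  classical
  set w := a * b * c with hw
  obtain ⟨ha, hb, hc, nab, nac, nbc, cab, cac, cbc⟩ := id T
  let δ : Y →* Y × Y × Y := (MonoidHom.id Y).prod ((MonoidHom.id Y).prod (MonoidHom.id Y))
  let P : Set (Y × Y × Y) := {z | Triple (Dc t) z.1 z.2.1 z.2.2}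
  have hδ : ∀ (y : Y) (z : Y × Y × Y), δ y * z * (δ y)⁻¹ = (cj y z.1, cj y z.2.1, cj y z.2.2) := fun y z => rfl
  have hcj : ∀ (y : Y) {p q r : Y}, Triple (Dc t) p q r → Triple (Dc t) (cj y p) (cj y q) (cj y r) :=
    fun y {p q r} ⟨hp, hq, hr, npq, npr, nqr, cpq, cpr, cqr⟩ => ⟨Dc_cj y hp, Dc_cj y hq, Dc_cj y hr,
      (cj_inj y).ne npq, (cj_inj y).ne npr, (cj_inj y).ne nqr, (commute_conj_iff y p q).2 cpq,
      (commute_conj_iff y p r).2 cpr, (commute_conj_iff y q r).2 cqr⟩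
  have hall : {z | ∃ y : Y, δ y * (a, b, c) * (δ y)⁻¹ = z} = P := by
    ext ⟨p, q, r⟩
    simp only [hδ, Set.mem_ofPred_eq, P, Prod.mk.injEq]
    exact ⟨fun ⟨y, e1, e2, e3⟩ => e1 ▸ e2 ▸ e3 ▸ hcj y T,
      fun U => (h.triples a b c p q r T U).imp fun y k => k⟩
  have hP : P.ncard = 31671 * (3510 * 693) := by
    let R : Y → Set (Y × Y) := fun x => {z | z.1 ∈ nbr (Dc t) x ∧ z.2 ∈ nbr (Dc t) x ∩ nbr (Dc t) z.1}
    have hR : ∀ x ∈ Dc t, (R x).ncard = 3510 * 693 := fun x hx => by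
      rw [Tower.ncard_fibred (nbr (Dc t) x) (fun y => nbr (Dc t) x ∩ nbr (Dc t) y) fun y hy => h.loc.lam x hx y hy,
        h.deg hx]
    rw [show P = {z | z.1 ∈ Dc t ∧ z.2 ∈ R z.1} from ?_, Tower.ncard_fibred (Dc t) R hR, h.loc.card]
    ext ⟨p, q, r⟩
    simp only [P, R, Set.mem_ofPred_eq, Set.mem_inter_iff]
    refine ⟨fun ⟨hp, hq, hr, npq, npr, nqr, cpq, cpr, cqr⟩ =>
      ⟨hp, ⟨hq, npq.symm, cpq⟩, ⟨hr, npr.symm, cpr⟩, hr, nqr.symm, cqr⟩, ?_⟩
    rintro ⟨hp, ⟨hq, npq, cpq⟩, ⟨hr, npr, cpr⟩, -, nqr, cqr⟩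
    exact ⟨hp, hq, hr, npq.symm, npr.symm, nqr.symm, cpq, cpr, cqr⟩
  let Q : Finset (Y × Y × Y) := {(a, b, c), (a, c, b), (b, a, c), (b, c, a), (c, a, b), (c, b, a)}
  have hQ : Q.card = 6 := by
    simp [Q, nab, nac, nbc, nab.symm, nac.symm, nbc.symm]
  have hsix : {z | ∃ y : Cd w, δ.comp (Cd w).subtype y * (a, b, c) * (δ.comp (Cd w).subtype y)⁻¹ = z} = ↑Q := by
    ext ⟨p, q, r⟩
    simp only [MonoidHom.comp_apply, hδ, Set.mem_ofPred_eq, Finset.mem_coe, Subgroup.coe_subtype, Prod.mk.injEq]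
    constructor
    · rintro ⟨⟨y, hy⟩, rfl, rfl, rfl⟩
      have hy' : cj y a * cj y b * cj y c = a * b * c := by
        rw [← cj_mul', ← cj_mul']; exact cj_of_commute (Subgroup.mem_centralizer_singleton_iff.1 hy)
      have U := hcj y T
      obtain ⟨ha', hb', hc', n1, n2, n3, c1, c2, c3⟩ := id U
      have q1 := h.triple_unique U T hy'
      have q2 := h.triple_unique (a := cj y b) (b := cj y a) (c := cj y c)
        ⟨hb', ha', hc', n1.symm, n3, n2, c1.symm, c3, c2⟩ T (by rw [← hy', c1.eq])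
      have q3 := h.triple_unique (a := cj y c) (b := cj y a) (c := cj y b)
        ⟨hc', ha', hb', n2.symm, n3.symm, n1, c2.symm, c3.symm, c1⟩ T
        (by rw [← hy', mul_assoc, (c2.symm.mul_right c3.symm).eq])
      simp only [Q, Finset.mem_insert, Finset.mem_singleton, Prod.mk.injEq]
      rcases q1 with e1 | e1 | e1 <;> rcases q2 with e2 | e2 | e2 <;> rcases q3 with e3 | e3 | e3 <;>
        first
          | exact absurd (e1.trans e2.symm) n1
          | exact absurd (e1.trans e3.symm) n2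
          | exact absurd (e2.trans e3.symm) n3
          | simp [e1, e2, e3]
    · intro hz
      simp only [Q, Finset.mem_insert, Finset.mem_singleton, Prod.mk.injEq] at hz
      have U : Triple (Dc t) p q r ∧ p * q * r = a * b * c := by
        rcases hz with ⟨rfl, rfl, rfl⟩ | ⟨rfl, rfl, rfl⟩ | ⟨rfl, rfl, rfl⟩ | ⟨rfl, rfl, rfl⟩ |
          ⟨rfl, rfl, rfl⟩ | ⟨rfl, rfl, rfl⟩
        · exact ⟨T, rfl⟩
        · exact ⟨⟨ha, hc, hb, nac, nab, nbc.symm, cac, cab, cbc.symm⟩, by rw [mul_assoc, cbc.symm.eq, ← mul_assoc]⟩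
        · exact ⟨⟨hb, ha, hc, nab.symm, nbc, nac, cab.symm, cbc, cac⟩, by rw [cab.eq]⟩
        · exact ⟨⟨hb, hc, ha, nbc, nab.symm, nac.symm, cbc, cab.symm, cac.symm⟩,
            by rw [((cab.mul_right cac).symm).eq, ← mul_assoc]⟩
        · exact ⟨⟨hc, ha, hb, nac.symm, nbc.symm, nab, cac.symm, cbc.symm, cab⟩,
            by rw [mul_assoc, ((cac.mul_left cbc).symm).eq]⟩
        · exact ⟨⟨hc, hb, ha, nbc.symm, nac.symm, nab.symm, cbc.symm, cac.symm, cab.symm⟩,
            by rw [cbc.symm.eq, ((cab.mul_right cac).symm).eq, ← mul_assoc]⟩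
      obtain ⟨y, e1, e2, e3⟩ := h.triples a b c p q r T U.1
      refine ⟨⟨y, Subgroup.mem_centralizer_singleton_iff.2 (commute_of_cj ?_).eq⟩, e1, e2, e3⟩
      rw [hw, cj_mul', cj_mul', e1, e2, e3, U.2]
  have h1 := orbit_card δ (a, b, c)
  have h2 := orbit_card (δ.comp (Cd w).subtype) (a, b, c)
  rw [hall, hP, h.order] at h1
  rw [hsix, Set.ncard_coe_finset, hQ] at h2
  have hsame : Nat.card ((Cd (a, b, c)).comap (δ.comp (Cd w).subtype)) = Nat.card ((Cd (a, b, c)).comap δ) := by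
    rw [← Subgroup.comap_comap]
    refine Nat.card_congr (Subgroup.subgroupOfEquivOfLe fun y hy => ?_).toEquiv
    have k : δ y * (a, b, c) = (a, b, c) * δ y := Subgroup.mem_centralizer_singleton_iff.1 hy
    simp only [δ, MonoidHom.prod_apply, MonoidHom.id_apply, Prod.mk_mul_mk, Prod.mk.injEq] at k
    exact Subgroup.mem_centralizer_singleton_iff.2 ((Commute.mul_right k.1 k.2.1).mul_right k.2.2).eq
  change _ * Nat.card ((Cd (a, b, c)).comap δ) = _ at h1
  change _ * Nat.card ((Cd (a, b, c)).comap (δ.comp (Cd w).subtype)) = _ at h2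
  rw [hsame] at h2
  omega

end M23

/-- The members commuting with an element. -/
def Delta (d q : X) : Set X := {x | x ∈ Dc d ∧ Commute x q}

/-- The common neighbours of three commuting members. -/
def Ring (t a b c : Y) : Set Y := nbr (Dc t) a ∩ nbr (Dc t) b ∩ nbr (Dc t) c

namespace Hyp

variable (h : Hyp G₀ d ι t Ω0)
include h

variable {e₁ e₂ e₃ : Y}

/-- The product of four members is not that of two. -/
theorem quad_ne_pair (T : Triple (Dc t) e₁ e₂ e₃) {a b : X} (ha : a ∈ Dc d) (hb : b ∈ nbr (Dc d) a) :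
    a * b ≠ ι (e₁ * e₂ * e₃) := by
  intro e
  obtain ⟨k1, k2⟩ := h.delta_pair ha hb h.d_mem (e ▸ (h.comm_i _).symm)
  have p3 := h.y23.prod_three T
  have single : ∀ {f : Y}, f ∈ Dc t → ι f ≠ ι (e₁ * e₂ * e₃) := fun {f} hf k => by
    have := h.y23.len_unique le_rfl (by norm_num) (by norm_num) le_rfl (isProd_one.2 hf)
      ((h.inj k).symm ▸ p3)
    omega
  by_cases a1 : a = d
  · obtain ⟨f, hf, rfl⟩ := h.mem_nbr_d.1 (a1 ▸ hb)
    exact single hf (by rw [← e, a1, h.d_mul_up])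
  obtain ⟨f, hf, rfl⟩ := h.mem_nbr_d.1 (⟨ha, a1, k1⟩ : a ∈ nbr (Dc d) d)
  by_cases b1 : b = d
  · exact single hf (by rw [← e, b1, (h.up_comm_d f).eq, h.d_mul_up])
  obtain ⟨f', hf', rfl⟩ := h.mem_nbr_d.1 (⟨hb.1, b1, k2⟩ : b ∈ nbr (Dc d) d)
  rw [h.up_mul] at e
  have := h.y23.len_unique (by norm_num) (by norm_num) (by norm_num) le_rfl
    ((h.inj e) ▸ h.y23.prod_two hf ⟨hf', fun k => hb.2.1 (congrArg (up d ι) k), h.up_comm.1 hb.2.2⟩) p3
  omega

theorem d_mem_delta (y : Y) : d ∈ Delta d (ι y) := ⟨h.d_mem, (h.comm_i y).symm⟩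

/-- The centraliser of a product of four members moves any member commuting with it to the marked one. -/
theorem quad_trans (T : Triple (Dc t) e₁ e₂ e₃) {x : X} (hx : x ∈ Delta d (ι (e₁ * e₂ * e₃))) :
    ∃ g, Commute g (ι (e₁ * e₂ * e₃)) ∧ cj g x = d := by
  obtain ⟨hxD, hxq⟩ := hx
  set q := ι (e₁ * e₂ * e₃) with hq
  obtain ⟨k, hk⟩ := isConj_iff.1 hxD
  have kx : cj k⁻¹ x = d := by rw [← hk]; simp [cj, mul_assoc]
  have hcd : Commute (cj k⁻¹ q) d := kx ▸ (commute_conj_iff k⁻¹ q x).2 hxq.symm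
  have hmem : cj k⁻¹ q ∈ G₀ := h.normal.conj_mem _ (h.i_mem _) _
  rcases h.cen_cases hcd with ⟨-, w, ew⟩ | ⟨e, -⟩
  swap
  · exact absurd hmem e
  have hww : w * w = 1 := h.inj (by
    rw [map_mul, map_one, ← ew, ← cj_mul', hq, ← map_mul]
    have hsq : e₁ * e₂ * e₃ * (e₁ * e₂ * e₃) = 1 :=
      mul_sq_one (mul_sq_one (h.y23.sq T.1) (h.y23.sq T.2.1) T.2.2.2.2.2.2.1) (h.y23.sq T.2.2.1)
        (T.2.2.2.2.2.2.2.1.mul_left T.2.2.2.2.2.2.2.2)
    rw [hsq, map_one]; simp [cj])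
  have hback : cj k (ι w) = q := by rw [← ew, cj_cj, mul_inv_cancel, cj_one]
  have hw1 : w ≠ 1 := fun e => h.y23.ne_one_of_prod (by norm_num) le_rfl (h.y23.prod_three T)
    (h.inj (by rw [← hq, ← hback, e, map_one]; simp [cj]))
  have conj_nbr : ∀ {u v : X}, v ∈ nbr (Dc d) u → cj k v ∈ nbr (Dc d) (cj k u) := fun {u v} hv =>
    nbr_cj k u ▸ Set.mem_image_of_mem _ hv
  obtain ⟨n, hn, hn3, hp⟩ := h.y23.classify w hww hw1
  interval_cases n
  · exfalso
    refine h.quad_ne_pair T (Dc_cj k h.d_mem) (conj_nbr (h.mem_nbr_d.2 ⟨w, isProd_one.1 hp, rfl⟩)) ?_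
    rw [← cj_mul', h.d_mul_up, hback]
  · exfalso
    obtain ⟨f, hf, f', hf', rfl⟩ := isProd_two.1 hp
    refine h.quad_ne_pair T (Dc_cj k (h.up_mem hf))
      (conj_nbr (⟨h.up_mem hf'.1, h.up_inj.ne hf'.2.1, h.up_comm.2 hf'.2.2⟩ : up d ι f' ∈ nbr (Dc d) (up d ι f))) ?_
    rw [← cj_mul', h.up_mul, hback]
  · obtain ⟨f, hf, f', hf', f'', hf'', rfl⟩ := isProd_three.1 hp
    have U : Triple (Dc t) f f' f'' :=
      ⟨hf, hf'.1, hf''.1.1, hf'.2.1.symm, hf''.1.2.1.symm, hf''.2.2.1.symm, hf'.2.2, hf''.1.2.2, hf''.2.2.2⟩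
    obtain ⟨y, y1, y2, y3⟩ := h.y23.triples _ _ _ _ _ _ U T
    refine ⟨ι y * k⁻¹, commute_of_cj ?_, by rw [← cj_cj, kx, cj_of_commute (h.comm_i y)]⟩
    rw [← cj_cj, ew, hq, ← y1, ← y2, ← y3, ← cj_mul', ← cj_mul']
    simp [cj]

/-- There are 504 members commuting with a product of four. -/
theorem card_delta (T : Triple (Dc t) e₁ e₂ e₃) : (Delta d (ι (e₁ * e₂ * e₃))).ncard = 504 := by
  set w := e₁ * e₂ * e₃ with hw
  have hdC : d ∈ Cd (ι w) := Subgroup.mem_centralizer_singleton_iff.2 (h.comm_i w).symm.eq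
  have := h.normal
  have ho : {z | ∃ g : Cd (ι w), (Cd (ι w)).subtype g * d * ((Cd (ι w)).subtype g)⁻¹ = z} = Delta d (ι w) := by
    ext x
    refine ⟨?_, fun hx => ?_⟩
    · rintro ⟨⟨g, hg⟩, rfl⟩
      refine ⟨Dc_cj g h.d_mem, ?_⟩
      have := (commute_conj_iff g d (ι w)).2 (h.comm_i w).symm
      rwa [show g * ι w * g⁻¹ = ι w from cj_of_commute (Subgroup.mem_centralizer_singleton_iff.1 hg)] at this
    · obtain ⟨g, hg, e⟩ := h.quad_trans T hx
      refine ⟨⟨g⁻¹, Subgroup.mem_centralizer_singleton_iff.2 hg.inv_left.eq⟩, ?_⟩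
      show cj g⁻¹ d = x
      rw [← e, cj_cj, inv_mul_cancel, cj_one]
  have h1 := orbit_card (Cd (ι w)).subtype d
  rw [ho] at h1
  -- both groups meet the subgroup of index two in half
  have half : ∀ H : Subgroup X, d ∈ H → Nat.card H = 2 * Nat.card ↥(G₀ ⊓ H) := fun H hH => by
    have hi : G₀.relIndex H = 2 := by
      rcases (Nat.dvd_prime Nat.prime_two).1 (h.idx ▸ Subgroup.relIndex_dvd_index_of_normal G₀ H) with e | e
      · exact absurd (Subgroup.relIndex_eq_one.1 e hH) h.out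
      · exact e
    have := Subgroup.card_mul_index (G₀.subgroupOf H)
    rw [show (G₀.subgroupOf H).index = 2 from hi] at this
    rw [← this, mul_comm, ← Subgroup.inf_subgroupOf_right G₀ H,
      Nat.card_congr (Subgroup.subgroupOfEquivOfLe (inf_le_right : G₀ ⊓ H ≤ H)).toEquiv]
  have hi : G₀ ⊓ (Cd (ι w) ⊓ Cd d) = (Cd w).map ι := by
    ext x
    simp only [Subgroup.mem_inf, Subgroup.mem_map, Subgroup.mem_centralizer_singleton_iff]
    constructor
    · rintro ⟨hxG, hxw, hxd⟩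
      obtain ⟨y, rfl⟩ := h.range.ge ⟨hxG, Subgroup.mem_centralizer_singleton_iff.2 hxd⟩
      exact ⟨y, h.inj (by rw [map_mul ι y w, map_mul ι w y, hxw]), rfl⟩
    · rintro ⟨y, hy, rfl⟩
      exact ⟨h.i_mem y, by rw [← map_mul, hy, map_mul], (h.comm_i y).eq⟩
  have h2 : Nat.card ((Cd d).comap (Cd (ι w)).subtype) = 2 * 318504960 := by
    rw [show (Cd d).comap (Cd (ι w)).subtype = (Cd d).subgroupOf (Cd (ι w)) from rfl,
      ← Subgroup.inf_subgroupOf_left,
      Nat.card_congr (Subgroup.subgroupOfEquivOfLe (inf_le_left : Cd (ι w) ⊓ Cd d ≤ Cd (ι w))).toEquiv,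
      half _ (Subgroup.mem_inf.2 ⟨hdC, Subgroup.mem_centralizer_singleton_iff.2 rfl⟩), hi, Subgroup.card_map_of_injective h.inj,
      hw, h.y23.card_cen_triple T]
  rw [half _ hdC, hw, h.quad _ _ _ T, ← hw] at h1
  change _ * Nat.card ((Cd d).comap (Cd (ι w)).subtype) = _ at h1
  rw [h2] at h1
  omega

/-- The members commuting with the marked one and with the product. -/
theorem delta_nbr (T : Triple (Dc t) e₁ e₂ e₃) :
    nbr (Dc d) d ∩ Delta d (ι (e₁ * e₂ * e₃)) = up d ι '' ({e₁, e₂, e₃} ∪ Ring t e₁ e₂ e₃) := by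
  ext x
  constructor
  · rintro ⟨hx, -, hc⟩
    obtain ⟨f, hf, rfl⟩ := h.mem_nbr_d.1 hx
    refine ⟨f, ?_, rfl⟩
    have hc' : Commute f (e₁ * e₂ * e₃) := by
      refine h.inj ?_
      have := (h.comm_i (e₁ * e₂ * e₃)).symm.mul_left hc
      rw [h.d_mul_up] at this
      rw [map_mul ι f, map_mul ι (e₁ * e₂ * e₃) f]
      exact this.eq
    rcases h.y23.cen_triple T hf hc' with k | k | k | k
    exacts [Or.inl (Or.inl k), Or.inl (Or.inr (Or.inl k)), Or.inl (Or.inr (Or.inr k)), Or.inr k]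
  · rintro ⟨f, hf, rfl⟩
    obtain ⟨h1, h2, h3, n12, n13, n23, c12, c13, c23⟩ := id T
    have hk : f ∈ Dc t ∧ Commute f (e₁ * e₂ * e₃) := by
      rcases hf with (rfl | rfl | rfl) | ⟨⟨k1, k2⟩, k3⟩
      exacts [⟨h1, ((Commute.refl _).mul_right c12).mul_right c13⟩,
        ⟨h2, (c12.symm.mul_right (Commute.refl _)).mul_right c23⟩,
        ⟨h3, (c13.symm.mul_right c23.symm).mul_right (Commute.refl _)⟩,
        ⟨k1.1, (k1.2.2.symm.mul_right k2.2.2.symm).mul_right k3.2.2.symm⟩]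
    exact ⟨h.mem_nbr_d.2 ⟨f, hk.1, rfl⟩, h.up_mem hk.1, (h.comm_i _).symm.mul_left (hk.2.map ι)⟩

theorem card_delta_nbr (T : Triple (Dc t) e₁ e₂ e₃) :
    (nbr (Dc d) d ∩ Delta d (ι (e₁ * e₂ * e₃))).ncard = 183 := by
  obtain ⟨h1, h2, h3, n12, n13, n23, -⟩ := id T
  rw [h.delta_nbr T, Set.ncard_image_of_injective _ h.up_inj, Set.ncard_union_eq ?_ (Set.toFinite _) (Set.toFinite _),
    Set.ncard_eq_three.2 ⟨e₁, e₂, e₃, n12, n13, n23, rfl⟩, Ring, h.y23.lam3 _ _ _ T]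
  refine Set.disjoint_left.2 ?_
  rintro x (rfl | rfl | rfl) ⟨⟨k1, k2⟩, k3⟩
  exacts [k1.2.1 rfl, k2.2.1 rfl, k3.2.1 rfl]

/-- Any member of the set sees 183 of the others. -/
theorem card_delta_nbr_any (T : Triple (Dc t) e₁ e₂ e₃) {x : X} (hx : x ∈ Delta d (ι (e₁ * e₂ * e₃))) :
    (nbr (Dc d) x ∩ Delta d (ι (e₁ * e₂ * e₃))).ncard = 183 := by
  obtain ⟨g, hg, e⟩ := h.quad_trans T hx
  set q := ι (e₁ * e₂ * e₃) with hq
  have hD : cj g '' Delta d q = Delta d q := by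
    refine Set.eq_of_subset_of_ncard_le ?_ (by rw [Set.ncard_image_of_injective _ (cj_inj g)]) (Set.toFinite _)
    rintro _ ⟨z, hz, rfl⟩
    refine ⟨Dc_cj g hz.1, ?_⟩
    have := (commute_conj_iff g z q).2 hz.2
    rwa [show g * q * g⁻¹ = q from cj_of_commute hg] at this
  rw [← Set.ncard_image_of_injective _ (cj_inj g), Set.image_inter (cj_inj g), ← nbr_cj, hD, e, hq,
    h.card_delta_nbr T]

/-- A member far from the marked one with many common neighbours commuting with the product. -/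
theorem exists_far (T : Triple (Dc t) e₁ e₂ e₃) : ∃ f ∈ Delta d (ι (e₁ * e₂ * e₃)), ¬ Commute d f ∧
    72 ≤ {r | r ∈ Ring t e₁ e₂ e₃ ∧ Commute (up d ι r) f}.ncard := by
  classical
  set q := ι (e₁ * e₂ * e₃) with hq
  let F : Finset X := (Delta d q \ insert d (nbr (Dc d) d)).toFinite.toFinset
  let R : Finset Y := (Ring t e₁ e₂ e₃).toFinite.toFinset
  have hR : R.card = 180 := by
    rw [← h.y23.lam3 _ _ _ T, ← Set.ncard_coe_finset]; simp [R, Ring]
  have hmemF : ∀ {f}, f ∈ F ↔ f ∈ Delta d q ∧ ¬ Commute d f := by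
    intro f
    simp only [F, Set.Finite.mem_toFinset, Set.mem_sdiff, Set.mem_insert_iff, not_or]
    refine ⟨fun ⟨k1, k2, k3⟩ => ⟨k1, fun c => k3 ⟨k1.1, k2, c⟩⟩,
      fun ⟨k1, k2⟩ => ⟨k1, fun e => k2 (e ▸ Commute.refl d), fun k => k2 k.2.2⟩⟩
  have hF : F.card = 320 := by
    rw [← Set.ncard_coe_finset, show (F : Set X) = Delta d q \ insert d (nbr (Dc d) d ∩ Delta d q) by
        ext z
        simp only [F, Set.Finite.coe_toFinset, Set.mem_sdiff, Set.mem_insert_iff, Set.mem_inter_iff]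
        tauto,
      Set.ncard_sdiff (Set.insert_subset (h.d_mem_delta _) Set.inter_subset_right), h.card_delta T,
      Set.ncard_insert_of_notMem (fun k => k.1.2.1 rfl) (Set.toFinite _), h.card_delta_nbr T]
  by_contra hno
  simp only [not_exists, not_and, not_le] at hno
  have hup : ∀ f ∈ F, (R.filter fun r => Commute (up d ι r) f).card ≤ 71 := fun f hf => by
    have := hno f (hmemF.1 hf).1 (hmemF.1 hf).2
    rw [show {r | r ∈ Ring t e₁ e₂ e₃ ∧ Commute (up d ι r) f} =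
      ((R.filter fun r => Commute (up d ι r) f : Finset Y) : Set Y) by ext r; simp [R], Set.ncard_coe_finset] at this
    omega
  have hlow : ∀ r ∈ R, 128 ≤ (F.filter fun f => Commute (up d ι r) f).card := fun r hr => by
    have hr' : r ∈ Ring t e₁ e₂ e₃ := by simpa [R] using hr
    have hrΔ : up d ι r ∈ nbr (Dc d) d ∩ Delta d q := by
      rw [hq, h.delta_nbr T]; exact ⟨r, Or.inr hr', rfl⟩
    have h183 := h.card_delta_nbr_any T hrΔ.2
    rw [← hq] at h183
    set N := nbr (Dc d) (up d ι r) ∩ Delta d q with hN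
    have hsplit : N ⊆ insert d (up d ι '' ({e₁, e₂, e₃} ∪ (Ring t e₁ e₂ e₃ ∩ nbr (Dc t) r))) ∪
        ((F.filter fun f => Commute (up d ι r) f : Finset X) : Set X) := fun x hx => by
      by_cases e : x = d
      · exact Or.inl (Or.inl e)
      by_cases c : Commute d x
      · have hxd : x ∈ nbr (Dc d) d ∩ Delta d q := ⟨⟨hx.2.1, e, c⟩, hx.2⟩
        rw [hq, h.delta_nbr T] at hxd
        obtain ⟨z, hz, rfl⟩ := hxd
        refine Or.inl (Or.inr ⟨z, hz.imp id fun k => ⟨k, k.1.1.1, ?_, h.up_comm.1 hx.1.2.2⟩, rfl⟩)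
        exact fun k => hx.1.2.1 (congrArg (up d ι) k)
      · exact Or.inr (by simp only [Finset.coe_filter, Set.mem_ofPred_eq]; exact ⟨hmemF.2 ⟨hx.2, c⟩, hx.1.2.2⟩)
    have k1 := (Set.ncard_le_ncard hsplit (Set.toFinite _)).trans (Set.ncard_union_le _ _)
    have k2 := Set.ncard_insert_le d (up d ι '' ({e₁, e₂, e₃} ∪ (Ring t e₁ e₂ e₃ ∩ nbr (Dc t) r)))
    rw [Set.ncard_image_of_injective _ h.up_inj] at k2
    have k3 := Set.ncard_union_le ({e₁, e₂, e₃} : Set Y) (Ring t e₁ e₂ e₃ ∩ nbr (Dc t) r)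
    have k4 : ({e₁, e₂, e₃} : Set Y).ncard ≤ 3 :=
      (Set.ncard_insert_le _ _).trans (Nat.succ_le_succ ((Set.ncard_insert_le _ _).trans (by simp)))
    have k5 : (Ring t e₁ e₂ e₃ ∩ nbr (Dc t) r).ncard = 51 := h.y23.lam4 _ _ _ _ T hr'
    rw [Set.ncard_coe_finset] at k1
    omega
  have e := Finset.sum_card_bipartiteAbove_eq_sum_card_bipartiteBelow
    (r := fun r f => Commute (up d ι r) f) (s := R) (t := F)
  have a1 := Finset.card_nsmul_le_sum R _ _ hlow
  have a2 := Finset.sum_le_card_nsmul F _ _ hup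
  simp only [Finset.bipartiteAbove, Finset.bipartiteBelow] at e
  rw [hR, smul_eq_mul] at a1
  rw [hF, smul_eq_mul] at a2
  omega

/-- The product of four members. -/
theorem quad_eq (a b c : Y) : d * up d ι a * up d ι b * up d ι c = ι (a * b * c) := by
  rw [h.d_mul_up, show ι a * up d ι b = up d ι (a * b) by rw [up, up, map_mul, ← mul_assoc, (h.comm_i a).eq, mul_assoc],
    h.up_mul]

end Hyp

end CfsgLib.ThreeTrans.FiCent24
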