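import Mathlib
import Cfsg.Agent.Lib.ThreeTrans.FiCent24.Quad
import Cfsg.Agent.Lib.ThreeTrans.FiCent24.Mu23

/-! Two members at distance two have 3240 common neighbours, and distance three does not occur. -/

set_option autoImplicit false
set_option linter.unusedSectionVars false

namespace CfsgLib.ThreeTrans.FiCent24

open CfsgLib.ThreeTrans CfsgLib.ThreeTrans.FiCent23 CfsgLib.ThreeTrans.Classif
open CfsgLib.ThreeTrans.LocalSymThree (nbr nbr_symm)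

universe u

variable {X : Type u} [Group X] [Finite X] {Y : Type u} [Group Y] [Finite Y]
variable {G₀ : Subgroup X} {d : X} {ι : Y →* X} {t : Y} {Ω0 : Set Y}

namespace Hyp

variable (h : Hyp G₀ d ι t Ω0)
include h

theorem mu_data {f : X} (hf : f ∈ far2 d) :
    MuData (Dc t) ((dn d ι) '' (nbr (Dc d) d ∩ nbr (Dc d) f)) (nbr (Dc d) d ∩ nbr (Dc d) f).ncard := by
  obtain ⟨hfD, hnc, hne⟩ := hf
  have C := h.chart_d
  refine ⟨?_, hne.image _, ?_, ?_, ?_⟩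
  · rintro _ ⟨y, hy, rfl⟩
    exact C.bij.mapsTo hy.1
  · exact (C.bij.injOn.mono Set.inter_subset_left).ncard_image
  · rintro _ ⟨a, ha, rfl⟩ _ ⟨b, hb, rfl⟩
    exact ⟨a * b * a, ⟨h.nbr_conj_mem ha.1 hb.1, h.nbr_conj_mem ha.2 hb.2⟩, C.conj a ha.1 b hb.1⟩
  rintro _ ⟨a, ha, rfl⟩
  obtain ⟨g, hga, hgd⟩ := h.exchange ha.1
  have hp : cj g f ∈ nbr (Dc d) d := nbr_cj_mem (nbr_symm hfD ha.2) hga
  have hN : nbr (Dc d) d ∩ nbr (Dc d) a = cj g⁻¹ '' (nbr (Dc d) d ∩ nbr (Dc d) a) := by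
    rw [Set.image_inter (cj_inj _), ← nbr_cj, ← nbr_cj]
    have k1 : cj g⁻¹ d = a := by rw [← hga, cj_cj, inv_mul_cancel, cj_one]
    have k2 : cj g⁻¹ a = d := by rw [← hgd, cj_cj, inv_mul_cancel, cj_one]
    rw [k1, k2, Set.inter_comm]
  have hNi : ∀ {y}, y ∈ nbr (Dc d) d ∩ nbr (Dc d) a → cj g⁻¹ y ∈ nbr (Dc d) d ∩ nbr (Dc d) a := fun {y} hy =>
    hN.symm ▸ Set.mem_image_of_mem _ hy
  refine ⟨(dn d ι) (cj g f), C.bij.mapsTo hp, fun k => ?_, ?_⟩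
  · have := (C.comm a ha.1 _ hp).1 k
    rw [← hgd] at this
    exact hnc ((commute_conj_iff g d f).1 this)
  let inv := Function.invFunOn ((dn d ι)) (nbr (Dc d) d)
  have hinv : ∀ y ∈ nbr (Dc d) d, inv ((dn d ι) y) = y := fun y hy => C.bij.injOn.leftInvOn_invFunOn hy
  let θ : Y → Y := fun e => (dn d ι) (cj g⁻¹ (inv e))
  have hθ : ∀ y ∈ nbr (Dc d) d, θ ((dn d ι) y) = (dn d ι) (cj g⁻¹ y) := fun y hy => by simp only [θ, hinv y hy]
  have himg := C.image_nbr ha.1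
  refine ⟨θ, ⟨?_, ?_, ?_⟩, ?_, ?_, ?_⟩
  · intro e he
    rw [← himg] at he ⊢
    obtain ⟨y, hy, rfl⟩ := he
    exact ⟨_, hNi hy, (hθ y hy.1).symm⟩
  · intro e he e' he' k
    rw [← himg] at he he'
    obtain ⟨y, hy, rfl⟩ := he
    obtain ⟨y', hy', rfl⟩ := he'
    rw [hθ y hy.1, hθ y' hy'.1] at k
    rw [cj_inj _ (C.bij.injOn (hNi hy).1 (hNi hy').1 k)]
  · intro e he
    rw [← himg] at he
    obtain ⟨y, hy, rfl⟩ := he
    obtain ⟨z, hz, hzy⟩ := hN.le hy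
    exact ⟨(dn d ι) z, himg ▸ Set.mem_image_of_mem _ hz, by rw [hθ z hz.1, hzy]⟩
  · intro u hu w hw
    rw [← himg] at hu hw
    obtain ⟨y, hy, rfl⟩ := hu
    obtain ⟨z, hz, rfl⟩ := hw
    rw [hθ y hy.1, hθ z hz.1, C.comm _ (hNi hy).1 _ (hNi hz).1, C.comm y hy.1 z hz.1]
    exact commute_conj_iff g⁻¹ y z
  · intro u hu w hw
    rw [← himg] at hu hw
    obtain ⟨y, hy, rfl⟩ := hu
    obtain ⟨z, hz, rfl⟩ := hw
    rw [← C.conj y hy.1 z hz.1, hθ _ (h.nbr_conj_mem hy.1 hz.1), hθ y hy.1, hθ z hz.1,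
      ← C.conj _ (hNi hy).1 _ (hNi hz).1, cj_mul', cj_mul']
  · rw [← himg, ← C.image_nbr hp,
      ← C.bij.injOn.image_inter Set.inter_subset_left Set.inter_subset_left,
      ← C.bij.injOn.image_inter Set.inter_subset_left Set.inter_subset_left]
    have hset : nbr (Dc d) d ∩ nbr (Dc d) f ∩ (nbr (Dc d) d ∩ nbr (Dc d) a) =
        cj g⁻¹ '' (nbr (Dc d) d ∩ nbr (Dc d) a ∩ (nbr (Dc d) d ∩ nbr (Dc d) (cj g f))) := by
      have k3 : cj g⁻¹ (cj g f) = f := by rw [cj_cj, inv_mul_cancel, cj_one]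
      rw [Set.image_inter (cj_inj _), ← hN, Set.image_inter (cj_inj _), ← nbr_cj g⁻¹ (cj g f), k3]
      ext y
      refine ⟨fun k => ⟨k.2, ?_, k.1.2⟩, fun k => ⟨⟨k.1.1, k.2.2⟩, k.1⟩⟩
      rw [← nbr_cj, show cj g⁻¹ d = a by rw [← hga, cj_cj, inv_mul_cancel, cj_one]]
      exact k.2.2
    rw [hset, Set.image_image, Set.image_image]
    refine Set.image_congr fun y hy => ?_
    exact (hθ y hy.1.1).symm

theorem far_trans {f f' : X} (hf : f ∈ far2 d) (hf' : f' ∈ far2 d) : ∃ g, Commute g d ∧ cj g f = f' := by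
  obtain ⟨a, ha⟩ := hf.2.2
  obtain ⟨a', ha'⟩ := hf'.2.2
  obtain ⟨g₁, hg₁, rfl⟩ := h.trans_nbr ha.1 ha'.1
  obtain ⟨χ, C, hlift, -⟩ := h.exists_chart ha'.1.1
  have hd : d ∈ nbr (Dc d) (cj g₁ a) := nbr_symm h.d_mem ha'.1
  have hf1 : cj g₁ f ∈ nbr (Dc d) (cj g₁ a) := nbr_cj g₁ a ▸ ⟨f, nbr_symm hf.1 ha.2, rfl⟩
  have hf1' : f' ∈ nbr (Dc d) (cj g₁ a) := nbr_symm hf'.1 ha'.2
  have hn1 : ¬ Commute (χ d) (χ (cj g₁ f)) := fun k => hf.2.1 ((commute_conj_iff g₁ d f).1 (by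
    rw [show g₁ * d * g₁⁻¹ = d from cj_of_commute hg₁]
    exact (C.comm d hd _ hf1).1 k))
  have hn2 : ¬ Commute (χ d) (χ f') := fun k => hf'.2.1 ((C.comm d hd _ hf1').1 k)
  obtain ⟨y, hy, hyf⟩ := h.y23.loc.farT _ (C.bij.mapsTo hd) _ (C.bij.mapsTo hf1) _ (C.bij.mapsTo hf1') hn1 hn2
  obtain ⟨g, hga, hgu⟩ := hlift y
  have hmem : ∀ {u}, u ∈ nbr (Dc d) (cj g₁ a) → cj g u ∈ nbr (Dc d) (cj g₁ a) := fun hu =>
    nbr_cj_mem hu (cj_of_commute hga)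
  have egd : cj g d = d := C.bij.injOn (hmem hd) hd (by rw [hgu d hd, cj_of_commute hy])
  have egf : cj g (cj g₁ f) = f' := C.bij.injOn (hmem hf1) hf1' (by rw [hgu _ hf1]; exact hyf)
  exact ⟨g * g₁, (commute_of_cj egd).mul_left hg₁, by rw [← cj_cj, egf]⟩

theorem card_nbr {x : X} (hx : x ∈ Dc d) : (nbr (Dc d) x).ncard = 31671 := by
  obtain ⟨f, C, -⟩ := h.exists_chart hx
  rw [C.ncard_eq, h.y23.loc.card]

theorem lam {x y : X} (hx : x ∈ Dc d) (hy : y ∈ nbr (Dc d) x) : (nbr (Dc d) x ∩ nbr (Dc d) y).ncard = 3510 := by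
  obtain ⟨f, C, -⟩ := h.exists_chart hx
  rw [C.ncard_inter hy]
  exact h.y23.deg (C.bij.mapsTo hy)

theorem same_mu {f f' : X} (hf : f ∈ far2 d) (hf' : f' ∈ far2 d) :
    (nbr (Dc d) d ∩ nbr (Dc d) f').ncard = (nbr (Dc d) d ∩ nbr (Dc d) f).ncard := by
  obtain ⟨g, hg, rfl⟩ := h.far_trans hf hf'
  rw [show nbr (Dc d) d ∩ nbr (Dc d) (cj g f) = cj g '' (nbr (Dc d) d ∩ nbr (Dc d) f) by
    rw [Set.image_inter (cj_inj g), ← nbr_cj, ← nbr_cj, cj_of_commute hg],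
    Set.ncard_image_of_injective _ (cj_inj g)]

theorem count_far2 {f : X} (hf : f ∈ far2 d) :
    31671 * 28160 = (far2 d).ncard * (nbr (Dc d) d ∩ nbr (Dc d) f).ncard := by
  have h1 : ∀ a ∈ nbr (Dc d) d, {b | b ∈ far2 d ∧ b ∈ nbr (Dc d) a}.ncard = 28160 := by
    intro a ha
    rw [show {b | b ∈ far2 d ∧ b ∈ nbr (Dc d) a} = nbr (Dc d) a \ insert d (nbr (Dc d) d ∩ nbr (Dc d) a) from ?_,
      Set.ncard_sdiff (Set.insert_subset (nbr_symm h.d_mem ha) Set.inter_subset_right) (Set.toFinite _),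
      Set.ncard_insert_of_notMem (fun k => k.1.2.1 rfl) (Set.toFinite _), h.lam h.d_mem ha, h.card_nbr ha.1]
    ext b
    constructor
    · rintro ⟨hb, hba⟩
      refine ⟨hba, ?_⟩
      rintro (rfl | k)
      exacts [hb.2.1 (Commute.refl _), hb.2.1 k.1.2.2]
    · rintro ⟨hba, hn⟩
      simp only [Set.mem_insert_iff, not_or] at hn
      exact ⟨⟨hba.1, fun k => hn.2 ⟨⟨hba.1, hn.1, k⟩, hba⟩, a, ha, nbr_symm ha.1 hba⟩, hba⟩
  have h2 : ∀ b ∈ far2 d, {a | a ∈ nbr (Dc d) d ∧ b ∈ nbr (Dc d) a}.ncard = (nbr (Dc d) d ∩ nbr (Dc d) f).ncard :=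
    fun b hb => by
    rw [← h.same_mu hf hb]
    congr 1
    ext a
    exact ⟨fun k => ⟨k.1, nbr_symm k.1.1 k.2⟩, fun k => ⟨k.1, nbr_symm hb.1 k.2⟩⟩
  have := CfsgLib.ThreeTrans.Tower.count_eq (nbr (Dc d) d) (far2 d) (fun a b => b ∈ nbr (Dc d) a) h1 h2
  rwa [h.card_nbr h.d_mem] at this

theorem mu_ne {f : X} (hf : f ∈ far2 d) : (nbr (Dc d) d ∩ nbr (Dc d) f).ncard ≠ 702 := fun e => by
  have := h.count_far2 hf
  rw [e] at this
  omega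

variable {e₁ e₂ e₃ : Y}

/-- A member of a decomposition of the product that commutes with another one is carried to the block. -/
theorem block_mem (T : Triple (Dc t) e₁ e₂ e₃) {g x c u w : X} (hg : Commute g (ι (e₁ * e₂ * e₃)))
    (hgx : cj g x = d) (hc : c ∈ nbr (Dc d) x) (hu : u ∈ nbr (Dc d) x) (hw : w ∈ nbr (Dc d) x)
    (ncu : c ≠ u) (ncw : c ≠ w) (nuw : u ≠ w) (ccu : Commute c u) (ccw : Commute c w) (cuw : Commute u w)
    (hprod : x * c * u * w = ι (e₁ * e₂ * e₃)) : cj g c ∈ up d ι '' {e₁, e₂, e₃} := by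
  obtain ⟨p, hp, kp⟩ := h.mem_nbr_d.1 (nbr_cj_mem hc hgx)
  obtain ⟨q, hq, kq⟩ := h.mem_nbr_d.1 (nbr_cj_mem hu hgx)
  obtain ⟨r, hr, kr⟩ := h.mem_nbr_d.1 (nbr_cj_mem hw hgx)
  have ne' : ∀ {a b : X} {i j : Y}, cj g a = up d ι i → cj g b = up d ι j → a ≠ b → i ≠ j :=
    fun {a b i j} ka kb hab k => hab (cj_inj g (by rw [ka, kb, k]))
  have cm : ∀ {a b : X} {i j : Y}, cj g a = up d ι i → cj g b = up d ι j → Commute a b → Commute i j :=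
    fun {a b i j} ka kb hab => h.up_comm.1 (ka ▸ kb ▸ (commute_conj_iff g a b).2 hab)
  have U : Triple (Dc t) p q r := ⟨hp, hq, hr, ne' kp kq ncu, ne' kp kr ncw, ne' kq kr nuw,
    cm kp kq ccu, cm kp kr ccw, cm kq kr cuw⟩
  have e : p * q * r = e₁ * e₂ * e₃ := by
    refine h.inj ?_
    have := congrArg (cj g) hprod
    rw [cj_mul', cj_mul', cj_mul', hgx, kp, kq, kr, h.quad_eq, cj_of_commute hg] at this
    exact this
  exact ⟨p, h.y23.triple_unique U T e, kp.symm⟩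

/-- Two members at distance two have 3240 common neighbours. -/
theorem card_mu {f : X} (hf : f ∈ far2 d) : (nbr (Dc d) d ∩ nbr (Dc d) f).ncard = 3240 := by
  classical
  obtain ⟨a₁, a₂, a₃, m1, m2, m3, n12, n13, n23, -⟩ := h.y23.exists_base_triple
  have T := h.y23.tri m1 m2 m3 n12 n13 n23
  obtain ⟨e12, e13, e23⟩ := T.2.2.2.2.2.2
  obtain ⟨f₀, ⟨hf₀D, hf₀q⟩, hdf, h72⟩ := h.exists_far T
  set q := ι (a₁ * a₂ * a₃) with hq
  set M := {r | r ∈ Ring t a₁ a₂ a₃ ∧ Commute (up d ι r) f₀} with hM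
  obtain ⟨kf, hkf, kfd⟩ := h.quad_trans T ⟨hf₀D, hf₀q⟩
  obtain ⟨r, hrM, hrB⟩ : ∃ r ∈ M, cj kf (up d ι r) ∉ up d ι '' {a₁, a₂, a₃} := by
    by_contra hall
    simp only [not_exists, not_and, not_not] at hall
    have k1 : M.ncard ≤ ({a₁, a₂, a₃} : Set Y).ncard := by
      rw [← Set.ncard_image_of_injective ({a₁, a₂, a₃} : Set Y) h.up_inj]
      exact Set.ncard_le_ncard_of_injOn (fun r => cj kf (up d ι r)) (fun r hr => hall r hr)
        (fun r _ r' _ k => h.up_inj (cj_inj kf k)) (Set.toFinite _)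
    rw [Set.ncard_eq_three.2 ⟨a₁, a₂, a₃, n12, n13, n23, rfl⟩] at k1
    omega
  obtain ⟨hrR, hrf⟩ := hrM
  have hrD : r ∈ Dc t := hrR.1.1.1
  have hcD : up d ι r ∈ nbr (Dc d) d := h.mem_nbr_d.2 ⟨r, hrD, rfl⟩
  set c := up d ι r with hc
  have hf₀ : f₀ ∈ far2 d :=
    ⟨hf₀D, hdf, c, hcD, hcD.1, fun k => hdf (k ▸ hcD.2.2), hrf.symm⟩
  have hcf : c ∈ nbr (Dc d) f₀ := ⟨hcD.1, fun k => hdf (k ▸ hcD.2.2), hrf.symm⟩
  have hcq : c ∈ Delta d q :=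
    ((h.delta_nbr T).ge ⟨r, Or.inr hrR, rfl⟩).2
  obtain ⟨k, hk, kcd⟩ := h.quad_trans T hcq
  let b : Y → X := fun e => cj k⁻¹ (up d ι e)
  have kb : ∀ e, cj k (b e) = up d ι e := fun e => by rw [cj_cj, mul_inv_cancel, cj_one]
  have kc : cj k⁻¹ d = c := by rw [← kcd, cj_cj, inv_mul_cancel, cj_one]
  have hb : ∀ {e}, e ∈ Dc t → b e ∈ nbr (Dc d) c := fun he => nbr_cj_mem (h.mem_nbr_d.2 ⟨_, he, rfl⟩) kc
  have hbc : ∀ {e e'}, Commute e e' → Commute (b e) (b e') := fun he =>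
    (commute_conj_iff k⁻¹ _ _).2 (h.up_comm.2 he)
  have hbn : ∀ {e e'}, e ≠ e' → b e ≠ b e' := fun he => (cj_inj k⁻¹).ne (h.up_inj.ne he)
  have hprod : c * b a₁ * b a₂ * b a₃ = q := by
    rw [← kc]
    simp only [b, ← cj_mul']
    rw [h.quad_eq, cj_of_commute hk.inv_left]
  have p1 := hb T.1
  have p2 := hb T.2.1
  have p3 := hb T.2.2.1
  -- neither end lies in the block
  have out : ∀ {g x : X}, Commute g q → cj g x = d → c ∈ nbr (Dc d) x → x ∈ Delta d q →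
      cj g c ∉ up d ι '' {a₁, a₂, a₃} →
      ∀ e ∈ ({a₁, a₂, a₃} : Set Y), b e ∈ nbr (Dc d) x := by
    intro g x hg hgx hcx hxq hcB
    obtain ⟨z, hz, kz⟩ : cj k x ∈ up d ι '' ({a₁, a₂, a₃} ∪ Ring t a₁ a₂ a₃) := by
      rw [← h.delta_nbr T]
      refine ⟨nbr_cj_mem (nbr_symm hxq.1 hcx) kcd, Dc_cj k hxq.1, ?_⟩
      rw [← cj_of_commute hk]
      exact (commute_conj_iff k x q).2 hxq.2
    rcases hz with hz | hz
    · exfalso
      have hxb : x = b z := cj_inj k (by rw [kb, kz])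
      have nb : ∀ {u}, u ∈ nbr (Dc d) c → b z ≠ u → Commute (b z) u → u ∈ nbr (Dc d) x := fun hu n c' =>
        ⟨hu.1, fun e => n (hxb ▸ e.symm), hxb ▸ c'⟩
      rcases hz with rfl | rfl | rfl
      · refine hcB (h.block_mem T hg hgx hcx (nb p2 (hbn n12) (hbc e12)) (nb p3 (hbn n13) (hbc e13))
          p2.2.1.symm p3.2.1.symm (hbn n23) p2.2.2 p3.2.2 (hbc e23) ?_)
        rw [← hq, hxb, ← p1.2.2.eq, hprod]
      · refine hcB (h.block_mem T hg hgx hcx (nb p1 (hbn n12.symm) (hbc e12.symm)) (nb p3 (hbn n23) (hbc e23))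
          p1.2.1.symm p3.2.1.symm (hbn n13) p1.2.2 p3.2.2 (hbc e13) ?_)
        rw [← hq, hxb, ← hprod, mul_assoc _ c, (p2.2.2.symm.mul_right (hbc e12.symm)).eq]
      · refine hcB (h.block_mem T hg hgx hcx (nb p1 (hbn n13.symm) (hbc e13.symm)) (nb p2 (hbn n23.symm) (hbc e23.symm))
          p1.2.1.symm p2.2.1.symm (hbn n12) p1.2.2 p2.2.2 (hbc e12) ?_)
        rw [← hq, hxb, ← hprod, mul_assoc _ c, mul_assoc,
          ((p3.2.2.symm.mul_right (hbc e13.symm)).mul_right (hbc e23.symm)).eq]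
    · intro e he
      have hze : z ∈ nbr (Dc t) e := by
        rcases he with rfl | rfl | rfl
        exacts [hz.1.1, hz.1.2, hz.2]
      have heD : e ∈ Dc t := by
        rcases he with rfl | rfl | rfl
        exacts [T.1, T.2.1, T.2.2.1]
      refine ⟨(hb heD).1, fun e' => hze.2.1 (h.up_inj (by rw [kz, ← kb e, e'])), ?_⟩
      refine (commute_conj_iff k x (b e)).1 ?_
      show Commute (cj k x) (cj k (b e))
      rw [← kz, kb]
      exact h.up_comm.2 hze.2.2.symm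
  have hd' : ∀ e ∈ ({a₁, a₂, a₃} : Set Y), b e ∈ nbr (Dc d) d := by
    refine out (g := 1) (Commute.one_left _) (cj_one d) hcD (h.d_mem_delta _) ?_
    rw [cj_one]
    rintro ⟨e, he, k'⟩
    rw [← h.up_inj k'] at hrR
    rcases he with rfl | rfl | rfl
    exacts [hrR.1.1.2.1 rfl, hrR.1.2.2.1 rfl, hrR.2.2.1 rfl]
  have hf' := out hkf kfd hcf ⟨hf₀D, hf₀q⟩ hrB
  obtain ⟨g₁, hg₁, k₁⟩ := h.mem_nbr_d.1 (hd' a₁ (Or.inl rfl))
  obtain ⟨g₂, hg₂, k₂⟩ := h.mem_nbr_d.1 (hd' a₂ (Or.inr (Or.inl rfl)))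
  obtain ⟨g₃, hg₃, k₃⟩ := h.mem_nbr_d.1 (hd' a₃ (Or.inr (Or.inr rfl)))
  have hw : r * g₁ * g₂ * g₃ = a₁ * a₂ * a₃ := by
    refine h.inj ?_
    rw [← hq, ← hprod, k₁, k₂, k₃, hc, h.up_mul r g₁, mul_assoc (ι (r * g₁)), h.up_mul, ← map_mul, ← mul_assoc]
  set S := dn d ι '' (nbr (Dc d) d ∩ nbr (Dc d) f₀) with hS
  have hin : ∀ {z : Y}, up d ι z ∈ nbr (Dc d) d → up d ι z ∈ nbr (Dc d) f₀ → z ∈ S := fun {z} h1 h2 =>
    ⟨_, ⟨h1, h2⟩, h.dn_up z⟩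
  have hSc : S.ncard = (nbr (Dc d) d ∩ nbr (Dc d) f₀).ncard :=
    (h.chart_d.bij.injOn.mono Set.inter_subset_left).ncard_image
  rw [h.same_mu hf₀ hf]
  rcases h.y23.muSet_cases (h.mu_data hf₀) (by rw [← hS, hSc]; exact h.mu_ne hf₀) with k' | k'
  · rwa [← hS, hSc] at k'
  exfalso
  have hpc := fun {e : Y} (he : e ∈ ({a₁, a₂, a₃} : Set Y)) => hd' e he
  have hcomm : ∀ i j : Fin 4, Commute (![r, g₁, g₂, g₃] i) (![r, g₁, g₂, g₃] j) := by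
    have c01 : Commute r g₁ := h.up_comm.1 (k₁ ▸ p1.2.2)
    have c02 : Commute r g₂ := h.up_comm.1 (k₂ ▸ p2.2.2)
    have c03 : Commute r g₃ := h.up_comm.1 (k₃ ▸ p3.2.2)
    have c12 : Commute g₁ g₂ := h.up_comm.1 (k₁ ▸ k₂ ▸ hbc e12)
    have c13 : Commute g₁ g₃ := h.up_comm.1 (k₁ ▸ k₃ ▸ hbc e13)
    have c23 : Commute g₂ g₃ := h.up_comm.1 (k₂ ▸ k₃ ▸ hbc e23)
    intro i j
    fin_cases i <;> fin_cases j <;> first | exact Commute.refl _ | assumption | exact Commute.symm (by assumption)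
  have hinj : Function.Injective ![r, g₁, g₂, g₃] := by
    have n01 : r ≠ g₁ := fun k => p1.2.1 (by rw [k₁, hc, k])
    have n02 : r ≠ g₂ := fun k => p2.2.1 (by rw [k₂, hc, k])
    have n03 : r ≠ g₃ := fun k => p3.2.1 (by rw [k₃, hc, k])
    have n1 : g₁ ≠ g₂ := fun k => hbn n12 (by rw [k₁, k₂, k])
    have n2 : g₁ ≠ g₃ := fun k => hbn n13 (by rw [k₁, k₃, k])
    have n3 : g₂ ≠ g₃ := fun k => hbn n23 (by rw [k₂, k₃, k])
    intro i j e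
    fin_cases i <;> fin_cases j <;> first
      | rfl
      | exact absurd e n01
      | exact absurd e.symm n01
      | exact absurd e n02
      | exact absurd e.symm n02
      | exact absurd e n03
      | exact absurd e.symm n03
      | exact absurd e n1
      | exact absurd e.symm n1
      | exact absurd e n2
      | exact absurd e.symm n2
      | exact absurd e n3
      | exact absurd e.symm n3
  have h52 := k' ![r, g₁, g₂, g₃] (fun i => by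
    fin_cases i
    · exact hin hcD hcf
    · exact hin (k₁ ▸ hd' a₁ (Or.inl rfl)) (k₁ ▸ hf' a₁ (Or.inl rfl))
    · exact hin (k₂ ▸ hd' a₂ (Or.inr (Or.inl rfl))) (k₂ ▸ hf' a₂ (Or.inr (Or.inl rfl)))
    · exact hin (k₃ ▸ hd' a₃ (Or.inr (Or.inr rfl))) (k₃ ▸ hf' a₃ (Or.inr (Or.inr rfl)))) hinj hcomm
  have hsub : M ⊆ {x | x ∈ S ∧ Commute x (![r, g₁, g₂, g₃] 0 * ![r, g₁, g₂, g₃] 1 * ![r, g₁, g₂, g₃] 2 *
      ![r, g₁, g₂, g₃] 3)} := by
    rintro x ⟨hxR, hxf⟩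
    have hxd : up d ι x ∈ nbr (Dc d) d := h.mem_nbr_d.2 ⟨x, hxR.1.1.1, rfl⟩
    refine ⟨hin hxd ⟨hxd.1, fun k => hdf (k ▸ hxd.2.2), hxf.symm⟩, ?_⟩
    show Commute x (r * g₁ * g₂ * g₃)
    rw [hw]
    exact (hxR.1.1.2.2.symm.mul_right hxR.1.2.2.2.symm).mul_right hxR.2.2.2.symm
  have := Set.ncard_le_ncard hsub (Set.toFinite _)
  rw [← hS] at h52
  omega

theorem muSet_card {f : X} (hf : f ∈ far2 d) : (dn d ι '' (nbr (Dc d) d ∩ nbr (Dc d) f)).ncard = 3240 := by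
  rw [(h.chart_d.bij.injOn.mono Set.inter_subset_left).ncard_image, h.card_mu hf]

/-- A member commuting with the involution meets each point at distance two within one step. -/
theorem meet0 {f w : X} (hf : f ∈ far2 d) (hw : w ∈ nbr (Dc d) d) (hwf : ¬ Commute f w) :
    ∃ z, z ∈ nbr (Dc d) d ∧ z ∈ nbr (Dc d) f ∧ z ∈ nbr (Dc d) w := by
  have C := h.chart_d
  have hS := h.mu_data hf
  obtain ⟨hloc, -⟩ := h.y23.muSet_local hS
  obtain ⟨-, h360⟩ := h.y23.bound hS.sub hS.ne fun a ha => (hloc a ha).1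
  have hwE := C.bij.mapsTo hw
  have hwS : (dn d ι) w ∉ (dn d ι) '' (nbr (Dc d) d ∩ nbr (Dc d) f) := by
    rintro ⟨y, hy, e⟩
    exact hwf (C.bij.injOn hy.1 hw e ▸ hy.2.2.2)
  obtain ⟨_, ⟨z, hz, rfl⟩, hzw⟩ : ((dn d ι) '' (nbr (Dc d) d ∩ nbr (Dc d) f) ∩ nbr (Dc t) ((dn d ι) w)).Nonempty :=
    Set.nonempty_of_ncard_ne_zero (by rw [h360 (h.muSet_card hf) _ hwE hwS]; norm_num)
  exact ⟨z, hz.1, hz.2, hz.1.1, fun e => hzw.2.1 (e ▸ rfl), (C.comm w hw z hz.1).1 hzw.2.2⟩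

/-- The points at distance at most two are closed under commuting. -/
theorem closed2 {f w : X} (hf : f ∈ far2 d) (hw : w ∈ nbr (Dc d) f) : w ∈ nbr (Dc d) d ∪ far2 d := by
  have hwd : w ≠ d := fun e => hf.2.1 (e ▸ hw.2.2.symm)
  by_cases hc : Commute d w
  · exact Or.inl ⟨hw.1, hwd, hc⟩
  refine Or.inr ⟨hw.1, hc, ?_⟩
  obtain ⟨g, hg⟩ := isConj_iff.1 hf.1
  have e1 : cj g⁻¹ f = d := by rw [← hg]; simp [cj, mul_assoc]
  have hf' : cj g⁻¹ d ∈ far2 d := by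
    refine ⟨Dc_cj _ h.d_mem, fun k => hf.2.1 ?_, ?_⟩
    · exact ((commute_conj_iff g⁻¹ f d).1 (show Commute (cj g⁻¹ f) (cj g⁻¹ d) by rw [e1]; exact k)).symm
    · obtain ⟨a, ha⟩ := hf.2.2
      refine ⟨cj g⁻¹ a, nbr_cj_mem ha.2 e1, ?_⟩
      · rw [nbr_cj]
        exact ⟨a, ha.1, rfl⟩
  have hw' : cj g⁻¹ w ∈ nbr (Dc d) d := nbr_cj_mem hw e1
  obtain ⟨z, hz1, hz2, hz3⟩ := h.meet0 hf' hw' fun k => hc ((commute_conj_iff g⁻¹ d w).1 k)
  rw [nbr_cj] at hz2 hz3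
  obtain ⟨z₂, hz₂, rfl⟩ := hz2
  obtain ⟨z₃, hz₃, e⟩ := hz3
  exact ⟨z₂, hz₂, cj_inj _ e ▸ hz₃⟩

end Hyp

end CfsgLib.ThreeTrans.FiCent24
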