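import Mathlib
import Cfsg.Agent.Lib.ThreeTrans.FiCent23.Component
import Cfsg.Agent.Lib.ThreeTrans.FiCent24.Mu

/-! The members within distance two of the involution: a closed set whose stabiliser contains the
normaliser over the base and no further member. -/

set_option autoImplicit false
set_option linter.unusedSectionVars false

namespace CfsgLib.ThreeTrans.FiCent24

open CfsgLib.ThreeTrans CfsgLib.ThreeTrans.FiCent23 CfsgLib.ThreeTrans.Classif
open CfsgLib.ThreeTrans.LocalSymThree (nbr nbr_symm)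

universe u

variable {X : Type u} [Group X] [Finite X] {Y : Type u} [Group Y] [Finite Y]
variable {G₀ : Subgroup X} {d : X} {ι : Y →* X} {t : Y} {Ω0 : Set Y}

namespace Hyp

variable (h : Hyp G₀ d ι t Ω0)
include h

theorem om_sub {x : X} (hx : x ∈ Om d) : x ∈ Dc d := by
  rcases hx with rfl | hx | hx
  exacts [h.d_mem, hx.1, hx.1]

theorem om_closed {x y : X} (hx : x ∈ Om d) (hy : y ∈ nbr (Dc d) x) : y ∈ Om d := by
  rcases hx with rfl | hx | hx
  · exact Or.inr (Or.inl hy)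
  · by_cases e : y = d
    · exact Or.inl e
    by_cases hc : Commute d y
    · exact Or.inr (Or.inl ⟨hy.1, e, hc⟩)
    · exact Or.inr (Or.inr ⟨hy.1, hc, x, hx, nbr_symm hx.1 hy⟩)
  · exact Or.inr (h.closed2 hx hy)

theorem om_comm {x y : X} (hx : x ∈ Om d) (hy : y ∈ Dc d) (hc : Commute x y) : y ∈ Om d := by
  by_cases e : y = x
  · exact e ▸ hx
  · exact h.om_closed hx ⟨hy, e, hc⟩

theorem image_eq {g : X} (hg : cj g d ∈ Om d) : cj g '' Om d = Om d := by
  have hstep : ∀ {u}, u ∈ nbr (Dc d) d → cj g u ∈ Om d := fun hu => h.om_closed hg (nbr_cj_mem hu rfl)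
  refine Set.eq_of_subset_of_ncard_le ?_ (by rw [Set.ncard_image_of_injective _ (cj_inj g)]) (Set.toFinite _)
  rintro _ ⟨u, hu, rfl⟩
  rcases hu with rfl | hu | ⟨hu, -, a, ha, ha'⟩
  · exact hg
  · exact hstep hu
  · exact h.om_closed (hstep ha) (nbr_cj_mem (nbr_symm hu ha') rfl)

theorem mem_St {g : X} : g ∈ St d ↔ cj g d ∈ Om d :=
  ⟨fun k => (show cj g '' Om d = Om d from k) ▸ Set.mem_image_of_mem _ (Or.inl rfl), fun k => h.image_eq k⟩

theorem exists_to {x : X} (hx : x ∈ Om d) : ∃ g ∈ St d, cj g d = x := by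
  obtain ⟨g, hg⟩ := isConj_iff.1 (h.om_sub hx)
  exact ⟨g, h.mem_St.2 (show g * d * g⁻¹ ∈ Om d by rw [hg]; exact hx), hg⟩

/-- Whatever carries one point of the component into it preserves it. -/
theorem mem_St_of {g x : X} (hx : x ∈ Om d) (hgx : cj g x ∈ Om d) : g ∈ St d := by
  obtain ⟨g₀, hg₀, rfl⟩ := h.exists_to hx
  have := h.mem_St.2 (show cj (g * g₀) d ∈ Om d by rwa [← cj_cj])
  simpa using mul_mem this (inv_mem hg₀)

theorem cent_le {g x : X} (hx : x ∈ Om d) (hg : Commute g x) : g ∈ St d :=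
  h.mem_St_of hx (by rwa [cj_of_commute hg])

theorem self_mem {x : X} (hx : x ∈ Om d) : x ∈ St d := by
  rcases hx with rfl | hx | ⟨-, -, a, ha, ha'⟩
  · exact h.cent_le (Or.inl rfl) (Commute.refl _)
  · exact h.cent_le (Or.inl rfl) hx.2.2.symm
  · exact h.cent_le (Or.inr (Or.inl ha)) ha'.2.2

theorem braid_om {x y : X} (hx : x ∈ Om d) (hy : y ∈ Om d) (hxy : ¬ Commute x y) : x * y * x = y * x * y := by
  obtain ⟨g, hg, rfl⟩ := h.exists_to hx
  have hy' : cj g⁻¹ y ∈ Om d := FiCent23.Hy.St_maps (inv_mem hg) hy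
  have hnc : ¬ Commute d (cj g⁻¹ y) := fun k => hxy (by
    have := (commute_conj_iff g d (cj g⁻¹ y)).2 k
    rwa [show g * cj g⁻¹ y * g⁻¹ = y by simp [cj, mul_assoc]] at this)
  have key : d * cj g⁻¹ y * d = cj g⁻¹ y * d * cj g⁻¹ y := by
    rcases hy' with e | k | ⟨hyD, -, a, ha, ha'⟩
    · exact absurd (e.symm ▸ Commute.refl d) hnc
    · exact absurd k.2.2 hnc
    · exact h.braid_nbr ha.1 (nbr_symm h.d_mem ha) (nbr_symm hyD ha') hnc
  have := congrArg (cj g) key
  rwa [cj_mul', cj_mul', cj_mul', cj_mul', cj_cj g g⁻¹, mul_inv_cancel, cj_one] at this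

theorem three_om {x y : X} (hx : x ∈ Om d) (hy : y ∈ Om d) (hxy : ¬ Commute x y) : (x * y) ^ 3 = 1 := by
  have e : (x * y) ^ 3 = (x * y * x) * (y * x * y) := by simp [pow_succ, mul_assoc]
  rw [e, h.braid_om hx hy hxy, mul_assoc (y * x) y, ← mul_assoc y (y * x), ← mul_assoc y y x,
    h.sq (h.om_sub hy), one_mul, ← mul_assoc (y * x), mul_assoc y x x, h.sq (h.om_sub hx), mul_one,
    h.sq (h.om_sub hy)]

/-- A commuting pair is carried to the involution and one of its neighbours. -/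
theorem pair_to_St {a b : X} (ha : a ∈ Om d) (hb : b ∈ Om d) (hab : Commute a b) (hne : a ≠ b) :
    ∃ g ∈ St d, cj g a = d ∧ cj g b ∈ nbr (Dc d) d := by
  obtain ⟨g, hg, rfl⟩ := h.exists_to ha
  have e : cj g⁻¹ (cj g d) = d := by rw [cj_cj, inv_mul_cancel, cj_one]
  exact ⟨g⁻¹, inv_mem hg, e, nbr_cj_mem ⟨h.om_sub hb, hne.symm, hab⟩ e⟩

theorem Om24_sub {x : X} (hx : x ∈ Om24 d ι Ω0) : x ∈ Om d :=
  h.om_comm (Or.inl rfl) (h.base_dc hx) (h.comm_AX (Subgroup.subset_closure (Or.inl rfl)) (Subgroup.subset_closure hx))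

theorem NG_le {n : X} (hn : n ∈ NG G₀ ι Ω0) : n ∈ St d :=
  h.mem_St.2 (h.Om24_sub (h.orbit.le ⟨n, hn, rfl⟩))

/-- A subgroup containing the involution meets the subgroup of index two in half. -/
theorem half {H : Subgroup X} (hH : d ∈ H) : Nat.card H = 2 * Nat.card ↥(G₀ ⊓ H) := by
  have := h.normal
  have hi : G₀.relIndex H = 2 := by
    rcases (Nat.dvd_prime Nat.prime_two).1 (h.idx ▸ Subgroup.relIndex_dvd_index_of_normal G₀ H) with e | e
    · exact absurd (Subgroup.relIndex_eq_one.1 e hH) h.out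
    · exact e
  have := Subgroup.card_mul_index (G₀.subgroupOf H)
  rw [show (G₀.subgroupOf H).index = 2 from hi] at this
  rw [← this, mul_comm, ← Subgroup.inf_subgroupOf_right G₀ H,
    Nat.card_congr (Subgroup.subgroupOfEquivOfLe (inf_le_right : G₀ ⊓ H ≤ H)).toEquiv]

/-- An element of square one in the stabiliser is carried there into the normaliser over the base, which has
odd index in it. -/
theorem into_norm {x : X} (hxS : x ∈ St d) (hx2 : x * x = 1) :
    ∃ m ∈ St d, cj m⁻¹ x ∈ Subgroup.normalizer (A0X ι Ω0 : Set X) := by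
  classical
  have hdN : d ∈ Subgroup.normalizer (A0X ι Ω0 : Set X) := by
    refine mem_normalizer_of ?_
    rintro _ ⟨a, ha, rfl⟩
    exact ⟨a, ha, (cj_of_commute (h.comm_i a).symm).symm⟩
  have hdS : d ∈ St d := h.self_mem (Or.inl rfl)
  set H := St d ⊓ Subgroup.normalizer (A0X ι Ω0 : Set X) with hH
  have hdH : d ∈ H := Subgroup.mem_inf.2 ⟨hdS, hdN⟩
  have hinf : G₀ ⊓ H = NG G₀ ι Ω0 := by
    ext z
    simp only [hH, NG, Subgroup.mem_inf]
    exact ⟨fun k => ⟨k.1, k.2.2⟩, fun k => ⟨k.1, h.NG_le (Subgroup.mem_inf.2 k), k.2⟩⟩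
  have hodd : ¬ 2 ∣ H.relIndex (St d) := by
    have hle : NG G₀ ι Ω0 ≤ G₀ ⊓ St d := le_inf inf_le_left fun z hz => h.NG_le hz
    have hdvd : (NG G₀ ι Ω0).relIndex (G₀ ⊓ St d) ∣ (NG G₀ ι Ω0).relIndex G₀ :=
      ⟨_, (Subgroup.relIndex_mul_relIndex _ _ _ hle inf_le_left).symm⟩
    have e1 := Subgroup.card_mul_index (H.subgroupOf (St d))
    change _ * H.relIndex (St d) = _ at e1
    rw [Nat.card_congr (Subgroup.subgroupOfEquivOfLe (inf_le_left : H ≤ St d)).toEquiv, h.half hdH, hinf,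
      h.half hdS] at e1
    have e2 := Subgroup.card_mul_index ((NG G₀ ι Ω0).subgroupOf (G₀ ⊓ St d))
    change _ * (NG G₀ ι Ω0).relIndex (G₀ ⊓ St d) = _ at e2
    rw [Nat.card_congr (Subgroup.subgroupOfEquivOfLe hle).toEquiv] at e2
    rw [← e2, mul_assoc] at e1
    rw [Nat.eq_of_mul_eq_mul_left Nat.card_pos (mul_left_cancel₀ (two_ne_zero) e1)]
    exact fun k => h.syl (k.trans hdvd)
  let xS : St d := ⟨x, hxS⟩
  have hxx : xS * xS = 1 := Subtype.ext hx2
  let Q := St d ⧸ H.subgroupOf (St d)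
  let σ : Equiv.Perm Q := MulAction.toPerm xS
  have : Fintype Q := Fintype.ofFinite _
  have : Fact (Nat.Prime 2) := ⟨Nat.prime_two⟩
  obtain ⟨q, hq⟩ := Equiv.Perm.exists_fixed_point_of_prime (p := 2) (n := 1) (σ := σ)
    (by rw [← Nat.card_eq_fintype_card]; exact hodd)
    (Equiv.ext fun q => by
      show xS • xS • q = q
      rw [smul_smul, hxx, one_smul])
  obtain ⟨m, rfl⟩ := QuotientGroup.mk_surjective q
  change ((xS * m : St d) : Q) = (m : Q) at hq
  have hmem := QuotientGroup.eq.1 hq.symm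
  have hy : cj (m : X)⁻¹ x ∈ H := by
    rw [cj, inv_inv, mul_assoc]
    exact hmem
  exact ⟨m, m.2, hy.2⟩

theorem d_fix_base : cj d '' Om24 d ι Ω0 = Om24 d ι Ω0 := by
  conv_rhs => rw [← Set.image_id (Om24 d ι Ω0)]
  exact Set.image_congr fun z hz =>
    cj_of_commute (h.comm_AX (Subgroup.subset_closure (Or.inl rfl)) (Subgroup.subset_closure hz))

/-- No further member lies in the stabiliser. -/
theorem mem_om_of_St {x : X} (hx : x ∈ Dc d) (hxS : x ∈ St d) : x ∈ Om d := by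
  obtain ⟨m, hm, hy⟩ := h.into_norm hxS (h.sq hx)
  have hdN : d ∈ Subgroup.normalizer (A0X ι Ω0 : Set X) := by
    refine mem_normalizer_of ?_
    rintro _ ⟨a, ha, rfl⟩
    exact ⟨a, ha, (cj_of_commute (h.comm_i a).symm).symm⟩
  set y := cj m⁻¹ x with hy'
  have hyD : y ∈ Dc d := Dc_cj _ hx
  have hyd : y * d ∈ NG G₀ ι Ω0 :=
    Subgroup.mem_inf.2 ⟨h.mul_mem_iff.2 ⟨fun k => absurd k (h.dc_out hyD), fun k => absurd k h.out⟩,
      mul_mem hy hdN⟩
  have hfix : cj y '' Om24 d ι Ω0 = Om24 d ι Ω0 := by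
    have := h.norm_base hyd
    rwa [← cj_image_comp, h.d_fix_base] at this
  obtain ⟨c, hc, hyc⟩ := h.fix_base hyD hfix
  have := FiCent23.Hy.St_maps hm (h.om_comm (h.Om24_sub hc) hyD hyc.symm)
  rwa [hy', cj_cj, mul_inv_cancel, cj_one] at this

end Hyp

end CfsgLib.ThreeTrans.FiCent24
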