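import Mathlib
import Cfsg.Agent.Lib.ThreeTrans.FiCent23.Connect
import Cfsg.Agent.Lib.ThreeTrans.FiCent24.Component

/-! The component is the whole class: the centralisers of products of two, three and four of its members
preserve it, so an involution commuting with a member outside and with a product of two inside is
impossible. -/

set_option autoImplicit false
set_option linter.unusedSectionVars false

namespace CfsgLib.ThreeTrans.FiCent24

open CfsgLib.ThreeTrans CfsgLib.ThreeTrans.FiCent23 CfsgLib.ThreeTrans.Classif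
open CfsgLib.ThreeTrans.TypeTop (isProd_one isProd_two isProd_three)
open CfsgLib.ThreeTrans.Tower (mul_sq_one)
open CfsgLib.ThreeTrans.LocalSymThree (nbr nbr_symm)

universe u

variable {X : Type u} [Group X] [Finite X] {Y : Type u} [Group Y] [Finite Y]
variable {G₀ : Subgroup X} {d : X} {ι : Y →* X} {t : Y} {Ω0 : Set Y}

namespace Hyp

variable (h : Hyp G₀ d ι t Ω0)
include h

theorem cent_pair_le {a b g : X} (ha : a ∈ Om d) (hb : b ∈ nbr (Dc d) a) (hg : Commute g (a * b)) :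
    g ∈ St d := by
  refine h.mem_St_of ha ?_
  rcases h.cent_pair (h.om_sub ha) hb hg with e | e <;> rw [e]
  exacts [ha, h.om_closed ha hb]

/-- Translates of the component that meet are equal. -/
theorem St_of_meet {g z : X} (hz : z ∈ Om d) (hz' : z ∈ cj g '' Om d) : g ∈ St d := by
  obtain ⟨y, hy, rfl⟩ := hz'
  exact h.mem_St_of hy hz

/-- The centraliser of a product of four preserves the component. -/
theorem quad_le {a b c : Y} (T : Triple (Dc t) a b c) {g : X} (hg : Commute g (ι (a * b * c))) :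
    g ∈ St d := by
  classical
  set q := ι (a * b * c) with hq
  by_contra hgS
  have hA : 184 ≤ (Delta d q ∩ Om d).ncard := by
    have hsub : insert d (nbr (Dc d) d ∩ Delta d q) ⊆ Delta d q ∩ Om d := by
      rintro x (rfl | ⟨hx, hx'⟩)
      exacts [⟨h.d_mem_delta _, Or.inl rfl⟩, ⟨hx', Or.inr (Or.inl hx)⟩]
    have := Set.ncard_le_ncard hsub (Set.toFinite _)
    rw [Set.ncard_insert_of_notMem (fun k => k.1.2.1 rfl) (Set.toFinite _), hq, h.card_delta_nbr T, ← hq] at this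
    exact this
  have htrans : ∀ {k : X}, Commute k q → 184 ≤ (Delta d q ∩ cj k '' Om d).ncard := fun {k} hk => by
    have hD : cj k '' Delta d q = Delta d q := by
      refine Set.eq_of_subset_of_ncard_le ?_ (by rw [Set.ncard_image_of_injective _ (cj_inj k)]) (Set.toFinite _)
      rintro _ ⟨z, hz, rfl⟩
      refine ⟨Dc_cj k hz.1, ?_⟩
      rw [← cj_of_commute hk]
      exact (commute_conj_iff k z q).2 hz.2
    rw [← hD, ← Set.image_inter (cj_inj k), Set.ncard_image_of_injective _ (cj_inj k)]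
    exact hA
  have hdq : Commute d q := (h.comm_i _).symm
  have hdS : d ∈ St d := h.self_mem (Or.inl rfl)
  -- the involution fixes the translate
  have hfix : cj g⁻¹ d ∈ St d := by
    by_contra hne
    have d1 : Disjoint (Delta d q ∩ Om d) (Delta d q ∩ cj g '' Om d) :=
      Set.disjoint_left.2 fun z k k' => hgS (h.St_of_meet k.2 k'.2)
    have d2 : Disjoint (Delta d q ∩ Om d) (Delta d q ∩ cj (d * g) '' Om d) :=
      Set.disjoint_left.2 fun z k k' => hgS (by
        have := mul_mem hdS (h.St_of_meet k.2 k'.2)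
        rwa [← mul_assoc, h.dd, one_mul] at this)
    have d3 : Disjoint (Delta d q ∩ cj g '' Om d) (Delta d q ∩ cj (d * g) '' Om d) := by
      refine Set.disjoint_left.2 fun z k k' => hne ?_
      obtain ⟨y, hy, rfl⟩ := k.2
      obtain ⟨y', hy', e⟩ := k'.2
      refine h.mem_St_of hy' ?_
      have : cj g⁻¹ (cj (d * g) y') = y := by rw [e, cj_cj, inv_mul_cancel, cj_one]
      rw [cj_cj] at this
      rw [show cj g⁻¹ d = g⁻¹ * (d * g) by simp [cj, mul_assoc], this]
      exact hy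
    have hle := Set.ncard_le_ncard (show (Delta d q ∩ Om d) ∪ (Delta d q ∩ cj g '' Om d) ∪
        (Delta d q ∩ cj (d * g) '' Om d) ⊆ Delta d q from
      Set.union_subset (Set.union_subset Set.inter_subset_left Set.inter_subset_left) Set.inter_subset_left)
      (Set.toFinite _)
    rw [Set.ncard_union_eq (Set.disjoint_union_left.2 ⟨d2, d3⟩) (Set.toFinite _) (Set.toFinite _),
      Set.ncard_union_eq d1 (Set.toFinite _) (Set.toFinite _), hq, h.card_delta T, ← hq] at hle
    have := htrans hg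
    have := htrans (hdq.mul_left hg)
    omega
  have := h.mem_om_of_St (Dc_cj g⁻¹ h.d_mem) hfix
  exact hgS (inv_inv g ▸ inv_mem (h.mem_St.2 this))

/-- An involution of the subgroup of index two commuting with the marked one. -/
theorem inner_forms {s : X} (hs0 : s ∈ G₀) (hss : s * s = 1) (hs1 : s ≠ 1) (hsd : Commute s d) :
    (∃ a b, a ∈ Om d ∧ b ∈ nbr (Dc d) a ∧ s = a * b) ∨
      ∃ a b c, Triple (Dc t) a b c ∧ s = ι (a * b * c) := by
  rcases h.cen_cases hsd with ⟨-, w, rfl⟩ | ⟨k, -⟩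
  swap
  · exact absurd hs0 k
  have hw : w * w = 1 := h.inj (by rw [map_mul, map_one, hss])
  have hw1 : w ≠ 1 := fun e => hs1 (by rw [e, map_one])
  obtain ⟨n, hn, hn3, hp⟩ := h.y23.classify w hw hw1
  interval_cases n
  · exact Or.inl ⟨d, up d ι w, Or.inl rfl, h.mem_nbr_d.2 ⟨w, isProd_one.1 hp, rfl⟩, (h.d_mul_up w).symm⟩
  · obtain ⟨f, hf, f', hf', rfl⟩ := isProd_two.1 hp
    exact Or.inl ⟨up d ι f, up d ι f', Or.inr (Or.inl (h.mem_nbr_d.2 ⟨f, hf, rfl⟩)),
      ⟨h.up_mem hf'.1, h.up_inj.ne hf'.2.1, h.up_comm.2 hf'.2.2⟩, (h.up_mul f f').symm⟩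
  · obtain ⟨f, hf, f', hf', f'', hf'', rfl⟩ := isProd_three.1 hp
    exact Or.inr ⟨f, f', f'', ⟨hf, hf'.1, hf''.1.1, hf'.2.1.symm, hf''.1.2.1.symm, hf''.2.2.1.symm, hf'.2.2,
      hf''.1.2.2, hf''.2.2.2⟩, rfl⟩

/-- An involution of the subgroup of index two commuting with a member of the component has its centraliser
in the stabiliser. -/
theorem inner_le {s y g : X} (hs0 : s ∈ G₀) (hss : s * s = 1) (hs1 : s ≠ 1) (hy : y ∈ Om d)
    (hsy : Commute s y) (hg : Commute g s) : g ∈ St d := by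
  obtain ⟨r, hr, rfl⟩ := h.exists_to hy
  have e : cj r⁻¹ (cj r d) = d := by rw [cj_cj, inv_mul_cancel, cj_one]
  have hsd : Commute (cj r⁻¹ s) d := e ▸ (commute_conj_iff r⁻¹ s (cj r d)).2 hsy
  have hS1 : cj r⁻¹ s ≠ 1 := fun k => hs1 (cj_inj r⁻¹ (k.trans (by simp [cj])))
  have hgs : Commute (cj r⁻¹ g) (cj r⁻¹ s) := (commute_conj_iff r⁻¹ g s).2 hg
  have key : cj r⁻¹ g ∈ St d := by
    rcases h.inner_forms (s := cj r⁻¹ s) (h.normal.conj_mem _ hs0 _) (by rw [← cj_mul', hss]; simp [cj]) hS1 hsd with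
      ⟨a, b, ha, hb, k⟩ | ⟨a, b, c, T, k⟩
    · exact h.cent_pair_le ha hb (k ▸ hgs)
    · exact h.quad_le T (k ▸ hgs)
  have := mul_mem (mul_mem hr key) (inv_mem hr)
  simpa [cj, mul_assoc] using this

/-- The number of members commuting with an involution of the subgroup of index two. -/
theorem card_delta_inner {s x : X} (hs0 : s ∈ G₀) (hss : s * s = 1) (hs1 : s ≠ 1) (hx : x ∈ Dc d)
    (hsx : Commute s x) : (Delta d s).ncard = 3512 ∨ (Delta d s).ncard = 504 := by
  obtain ⟨r, rfl⟩ := isConj_iff.1 hx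
  have hsd : Commute (cj r⁻¹ s) d := by
    have := (commute_conj_iff r⁻¹ s (r * d * r⁻¹)).2 hsx
    simpa [cj, mul_assoc] using this
  have hS1 : cj r⁻¹ s ≠ 1 := fun k => hs1 (cj_inj r⁻¹ (k.trans (by simp [cj])))
  have himg : cj r⁻¹ '' Delta d s = Delta d (cj r⁻¹ s) := by
    ext z
    constructor
    · rintro ⟨y, hy, rfl⟩
      exact ⟨Dc_cj _ hy.1, (commute_conj_iff r⁻¹ y s).2 hy.2⟩
    · rintro ⟨hz, hc⟩
      refine ⟨cj r z, ⟨Dc_cj r hz, ?_⟩, by rw [cj_cj, inv_mul_cancel, cj_one]⟩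
      have := (commute_conj_iff r z (cj r⁻¹ s)).2 hc
      simpa [cj, mul_assoc] using this
  rw [← Set.ncard_image_of_injective (Delta d s) (cj_inj r⁻¹), himg]
  rcases h.inner_forms (s := cj r⁻¹ s) (h.normal.conj_mem _ hs0 _) (by rw [← cj_mul', hss]; simp [cj]) hS1 hsd with
    ⟨a, b, ha, hb, k⟩ | ⟨a, b, c, T, k⟩ <;> rw [k]
  exacts [Or.inl (h.card_delta_pair (h.om_sub ha) hb), Or.inr (h.card_delta T)]

/-- A member outside the component has product of odd order with every member inside. -/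
theorem odd_prod {x y : X} (hx : x ∈ Dc d) (hxO : x ∉ Om d) (hy : y ∈ Om d) :
    ∃ j, (x * y) ^ (2 * j + 1) = 1 := by
  rcases Nat.even_or_odd' (orderOf (x * y)) with ⟨k, hk | hk⟩
  swap
  · exact ⟨k, hk ▸ pow_orderOf_eq_one _⟩
  exfalso
  have hxx := h.sq hx
  have hyy := h.sq (h.om_sub hy)
  set z := (x * y) ^ k with hz
  have hpos := orderOf_pos (x * y)
  have hz1 : z ≠ 1 := fun e => by
    have := Nat.le_of_dvd (by omega) (orderOf_dvd_of_pow_eq_one e)
    omega
  have hzz : z * z = 1 := by rw [hz, ← pow_add, ← two_mul, ← hk, pow_orderOf_eq_one]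
  have hz0 : z ∈ G₀ := pow_mem (h.mul_mem_iff.2 ⟨fun q => absurd q (h.dc_out hx),
    fun q => absurd q (h.dc_out (h.om_sub hy))⟩) k
  have hczy : Commute z y := by
    have hyc : y * (x * y) * y⁻¹ = (x * y)⁻¹ := by
      rw [inv_eq_of_mul_eq_one_right hyy, mul_inv_rev, inv_eq_of_mul_eq_one_right hyy,
        inv_eq_of_mul_eq_one_right hxx]
      simp [mul_assoc, hyy]
    have : y * z * y⁻¹ = z := by rw [hz, ← conj_pow, hyc, inv_pow]; exact inv_eq_of_mul_eq_one_right hzz
    exact (mul_inv_eq_iff_eq_mul.1 this).symm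
  have hczx : Commute z x := by
    have h2 := (Commute.pow_self (x * y) k).mul_right hczy
    rwa [← hz, mul_assoc, hyy, mul_one] at h2
  exact hxO (h.mem_om_of_St hx (h.inner_le hz0 hzz hz1 hy hczy hczx.symm))

/-- The centraliser of a product of three preserves the component. -/
theorem triple_le {a b c g : X} (ha : a ∈ Om d) (hb : b ∈ nbr (Dc d) a) (hc : c ∈ nbr (Dc d) a)
    (hcb : c ∈ nbr (Dc d) b) (hg : Commute g (a * b * c)) : g ∈ St d := by
  obtain ⟨r, hr, e⟩ := h.exists_to ha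
  have ea : cj r⁻¹ a = d := by rw [← e, cj_cj, inv_mul_cancel, cj_one]
  obtain ⟨e₁, he₁, k₁⟩ := h.mem_nbr_d.1 (nbr_cj_mem hb ea)
  obtain ⟨e₂, he₂, k₂⟩ := h.mem_nbr_d.1 (nbr_cj_mem hc ea)
  have c12 : Commute e₁ e₂ := h.up_comm.1 (k₁ ▸ k₂ ▸ (commute_conj_iff r⁻¹ b c).2 hcb.2.2)
  have n12 : e₁ ≠ e₂ := fun q => hcb.2.1 (cj_inj r⁻¹ (by rw [k₁, k₂, q]))
  obtain ⟨e₃, T⟩ := h.y23.exists_third he₁ (⟨he₂, n12.symm, c12⟩ : e₂ ∈ nbr (Dc t) e₁)
  obtain ⟨-, -, he₃, -, n13, n23, -, c13, c23⟩ := id T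
  set t0 := d * up d ι e₁ * up d ι e₂ with ht0
  suffices key : cj r⁻¹ g ∈ St d by
    have := mul_mem (mul_mem hr key) (inv_mem hr)
    simpa [cj, mul_assoc] using this
  have hgt : Commute (cj r⁻¹ g) t0 := by
    rw [ht0, ← k₁, ← k₂, show d * cj r⁻¹ b * cj r⁻¹ c = cj r⁻¹ (a * b * c) by rw [cj_mul', cj_mul', ea]]
    exact (commute_conj_iff r⁻¹ g _).2 hg
  set g' := cj r⁻¹ g with hg'
  by_contra hgS
  have hxO : cj g' d ∉ Om d := fun q => hgS (h.mem_St.2 q)
  set x := cj g' d with hx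
  have hxD : x ∈ Dc d := Dc_cj _ h.d_mem
  have hdt : Commute d t0 := ((Commute.refl d).mul_right (h.up_comm_d e₁).symm).mul_right (h.up_comm_d e₂).symm
  have hxt : Commute x t0 := by
    rw [hx, ← cj_of_commute hgt]
    exact (commute_conj_iff g' d t0).2 hdt
  have hωn : up d ι e₃ ∈ nbr (Dc d) d := h.mem_nbr_d.2 ⟨e₃, he₃, rfl⟩
  set ω := up d ι e₃ with hω
  have hωt : Commute ω t0 :=
    (hωn.2.2.symm.mul_right (h.up_comm.2 c13.symm)).mul_right (h.up_comm.2 c23.symm)
  obtain ⟨i, hi⟩ := h.odd_prod hxD hxO (y := d) (Or.inl rfl)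
  obtain ⟨j, hj⟩ := h.odd_prod hxD hxO (y := ω) (Or.inr (Or.inl hωn))
  have g1 := conj_of_odd (h.sq hxD) h.dd hi
  have g2 := conj_of_odd (h.sq hxD) (h.sq hωn.1) hj
  set k := ((x * ω) ^ (j + 1))⁻¹ * (x * d) ^ (i + 1) with hk
  have hkd : cj k d = ω := by
    rw [hk, ← cj_cj, g1]
    exact (congrArg (cj _) g2.symm).trans (by rw [cj_cj, inv_mul_cancel, cj_one])
  have hkt : Commute k t0 :=
    ((hxt.mul_left hωt).pow_left _).inv_left.mul_left ((hxt.mul_left hdt).pow_left _)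
  have hp : up d ι e₂ ∈ nbr (Dc d) (up d ι e₁) :=
    ⟨h.up_mem he₂, h.up_inj.ne n12.symm, h.up_comm.2 c12⟩
  refine h.quad_ne_pair T (Dc_cj k (h.up_mem he₁)) (nbr_cj_mem hp rfl) ?_
  calc cj k (up d ι e₁) * cj k (up d ι e₂) = cj k (d * t0) := by
        rw [← cj_mul', ht0, ← mul_assoc, ← mul_assoc, h.dd, one_mul]
    _ = ω * t0 := by rw [cj_mul', hkd, cj_of_commute hkt]
    _ = ι (e₁ * e₂ * e₃) := by rw [hωt.eq, ht0, hω, h.quad_eq]

/-- No involution of the subgroup of index two in the stabiliser commutes with a member outside. -/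
theorem no_inner {s x : X} (hs0 : s ∈ G₀) (hsS : s ∈ St d) (hss : s * s = 1) (hs1 : s ≠ 1) (hx : x ∈ Dc d)
    (hxO : x ∉ Om d) : ¬ Commute s x := by
  classical
  intro hsx
  by_cases hfix : ∃ y ∈ Om d, Commute s y
  · obtain ⟨y, hy, hsy⟩ := hfix
    exact hxO (h.mem_om_of_St hx (h.inner_le hs0 hss hs1 hy hsy hsx.symm))
  simp only [not_exists, not_and] at hfix
  obtain ⟨m, hm, hmN⟩ := h.into_norm hsS hss
  set S := cj m⁻¹ s with hS
  have hS0 : S ∈ G₀ := h.normal.conj_mem _ hs0 _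
  have hSS : S * S = 1 := by rw [hS, ← cj_mul', hss]; simp [cj]
  have hS1 : S ≠ 1 := fun k => hs1 (cj_inj m⁻¹ (k.trans (by simp [cj])))
  have hnof : ∀ z, z ∈ Om d → ¬ Commute S z := fun z hz k => hfix (cj m z) (FiCent23.Hy.St_maps hm hz) (by
    have := (commute_conj_iff m S z).2 k
    simpa [hS, cj, mul_assoc] using this)
  have hSx : Commute S (cj m⁻¹ x) := (commute_conj_iff m⁻¹ s x).2 hsx
  have hxD' : cj m⁻¹ x ∈ Dc d := Dc_cj _ hx
  have hperm : cj S '' Om24 d ι Ω0 = Om24 d ι Ω0 := h.norm_base (Subgroup.mem_inf.2 ⟨hS0, hmN⟩)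
  set A := Subgroup.closure (Om24 d ι Ω0) with hA
  let f : A →* A := MonoidHom.mk' (fun a => ⟨a * cj S a, mul_mem a.2 (h.cj_AX hperm a.2)⟩) fun a b => Subtype.ext (by
    show (a : X) * b * cj S (a * b) = a * cj S a * (b * cj S b)
    rw [cj_mul', show (a : X) * b * (cj S a * cj S b) = a * (b * cj S a) * cj S b by simp [mul_assoc],
      (h.comm_AX b.2 (h.cj_AX hperm a.2)).eq]
    simp [mul_assoc])
  have hf0 : ∀ a : A, (f a : X) ∈ G₀ := fun a => by
    show (a : X) * cj S a ∈ G₀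
    have e : cj S (a : X) ∈ G₀ ↔ (a : X) ∈ G₀ := ⟨fun k => by
      have := h.normal.conj_mem _ k S⁻¹
      simpa [cj, mul_assoc] using this, fun k => h.normal.conj_mem _ k S⟩
    exact h.mul_mem_iff.2 e.symm
  have hfS : ∀ a : A, Commute (f a : X) S := fun a => by
    refine (commute_of_cj ?_).symm
    show cj S ((a : X) * cj S a) = a * cj S a
    rw [cj_mul', cj_cj, hSS, cj_one, (h.comm_AX (h.cj_AX hperm a.2) a.2).eq]
  let I : Subgroup X := f.range.map A.subtype
  have hI : ∀ z ∈ I, z ∈ G₀ ∧ z * z = 1 ∧ Commute z d ∧ Commute z S := by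
    rintro _ ⟨_, ⟨a, rfl⟩, rfl⟩
    refine ⟨hf0 a, ?_, h.comm_AX (f a).2 (Subgroup.subset_closure (Or.inl rfl)), hfS a⟩
    have := h.AX_elementary.2 _ (f a).2
    rwa [pow_two] at this
  -- at least thirteen elements
  have hc' : ∀ {c}, c ∈ Om24 d ι Ω0 → cj S c ∈ Om24 d ι Ω0 := fun hc => hperm ▸ Set.mem_image_of_mem _ hc
  have hcomm : ∀ {a b}, a ∈ Om24 d ι Ω0 → b ∈ Om24 d ι Ω0 → Commute a b := fun ha hb =>
    h.comm_AX (Subgroup.subset_closure ha) (Subgroup.subset_closure hb)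
  have hmove : ∀ {c}, c ∈ Om24 d ι Ω0 → cj S c ≠ c := fun hc k =>
    hnof _ (h.Om24_sub hc) (commute_of_cj k)
  let p : X → X := fun c => c * cj S c
  have hpI : ∀ c ∈ Om24 d ι Ω0, p c ∈ I := fun c hc =>
    ⟨f ⟨c, Subgroup.subset_closure hc⟩, ⟨_, rfl⟩, rfl⟩
  let F : Finset X := (Om24 d ι Ω0).toFinite.toFinset
  have hF : F.card = 24 := by rw [← h.card_Om24, ← Set.ncard_coe_finset]; simp [F]
  have hmemF : ∀ {c}, c ∈ F ↔ c ∈ Om24 d ι Ω0 := fun {c} => by simp [F]
  have h13 : 13 ≤ Nat.card I := by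
    have h12 : 12 ≤ (F.image p).card := by
      have := Finset.card_le_mul_card_image (f := p) F 2 fun y hy => ?_
      · omega
      obtain ⟨c, hc, rfl⟩ := Finset.mem_image.1 hy
      refine le_trans (Finset.card_le_card (t := ({c, cj S c} : Finset X)) fun c' hc'' => ?_) Finset.card_le_two
      rw [Finset.mem_filter] at hc''
      have a := hmemF.1 hc
      have b := hmemF.1 hc''.1
      rcases h.pair_eq (h.base_dc a) ⟨h.base_dc (hc' a), hmove a, hcomm a (hc' a)⟩ (h.base_dc b) (h.base_dc (hc' b))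
        (hcomm a b) (hcomm a (hc' b)) (hcomm (hc' a) b) (hcomm (hc' a) (hc' b)) (hcomm b (hc' b)) hc''.2.symm with
        rfl | rfl <;> simp
    have h1 : (1 : X) ∉ F.image p := fun k => by
      obtain ⟨c, hc, e⟩ := Finset.mem_image.1 k
      refine hmove (hmemF.1 hc) ?_
      rw [eq_inv_of_mul_eq_one_right e, h.inv (h.base_dc (hmemF.1 hc))]
    have hsub : ((insert 1 (F.image p) : Finset X) : Set X) ⊆ (I : Set X) := by
      intro z hz
      rcases Finset.mem_insert.1 (Finset.mem_coe.1 hz) with rfl | hz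
      · exact one_mem I
      · obtain ⟨c, hc, rfl⟩ := Finset.mem_image.1 hz
        exact hpI c (hmemF.1 hc)
    have := Set.ncard_le_ncard hsub (Set.toFinite _)
    rw [Set.ncard_coe_finset, Finset.card_insert_of_notMem h1, ← Nat.card_coe_set_eq, SetLike.coe_sort_coe] at this
    omega
  have hpow : ∃ n, Nat.card I = 2 ^ n := by
    obtain ⟨n, -, hn⟩ := (Nat.dvd_prime_pow Nat.prime_two).1
      (show Nat.card I ∣ 2 ^ 12 from h.card_AX ▸ Subgroup.card_dvd_of_le (by rintro _ ⟨z, -, rfl⟩; exact z.2))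
    exact ⟨n, hn⟩
  -- acting without fixed points
  letI : MulAction I (Delta d S) :=
    { smul := fun g z => ⟨cj (g : X) z, Dc_cj _ z.2.1, by
        have := (commute_conj_iff (g : X) (z : X) S).2 z.2.2
        rwa [show (g : X) * S * (g : X)⁻¹ = S from cj_of_commute (hI _ g.2).2.2.2] at this⟩
      one_smul := fun z => Subtype.ext (cj_one _)
      mul_smul := fun g k z => Subtype.ext (cj_cj _ _ _).symm }
  have hfree : ∀ (z : Delta d S), MulAction.stabilizer I z = ⊥ := fun z => by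
    refine (Subgroup.eq_bot_iff_forall _).2 fun g hg => ?_
    by_contra hg1
    have e : cj (g : X) z = z := congrArg Subtype.val (MulAction.mem_stabilizer_iff.1 hg)
    obtain ⟨g0, gg, gd, -⟩ := hI _ g.2
    have hzS : (z : X) ∈ St d :=
      h.inner_le g0 gg (fun k => hg1 (Subtype.ext k)) (Or.inl rfl) gd (commute_of_cj e).symm
    exact hnof _ (h.mem_om_of_St z.2.1 hzS) z.2.2.symm
  have hdiv : Nat.card I ∣ (Delta d S).ncard := by
    have : Fintype (MulAction.orbitRel.Quotient I (Delta d S)) := Fintype.ofFinite _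
    rw [← Nat.card_coe_set_eq, Nat.card_congr (MulAction.selfEquivSigmaOrbits I (Delta d S)), Nat.card_sigma]
    refine Finset.dvd_sum fun o _ => dvd_of_eq ?_
    have := MulAction.orbitProdStabilizerEquivGroup I o.out
    rw [← Nat.card_congr this, Nat.card_prod, hfree o.out, Subgroup.card_bot, mul_one]
  obtain ⟨n, hn⟩ := hpow
  rw [hn] at h13 hdiv
  have h4 : 4 ≤ n := by
    by_contra hlt
    have := Nat.pow_le_pow_right (show 0 < 2 by norm_num) (show n ≤ 3 by omega)
    omega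
  have h16 : 16 ∣ (Delta d S).ncard := (pow_dvd_pow 2 h4).trans hdiv
  rcases h.card_delta_inner hS0 hSS hS1 hxD' hSx with e | e <;> rw [e] at h16 <;> norm_num at h16

/-- The component is the whole class. -/
theorem mem_om {x : X} (hx : x ∈ Dc d) : x ∈ Om d := by
  by_contra hxO
  set e := ι t with he
  have hee : e * e = 1 := by rw [he, ← map_mul, h.t_sq, map_one]
  have he1 : e ≠ 1 := fun k => ne_one h.y23.set (IsConj.refl t) (h.inj (k.trans (map_one ι).symm))
  have hed : Commute e d := h.comm_i t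
  have he0 : e ∈ G₀ := h.i_mem t
  have hCe : ∀ {g : X}, Commute g e → g ∈ St d := fun hg => h.inner_le he0 hee he1 (Or.inl rfl) hed hg
  have hxx := h.sq hx
  have hout : x * e ∉ G₀ := fun k => h.dc_out hx ((h.mul_mem_iff.1 k).2 he0)
  rcases Nat.even_or_odd' (orderOf (x * e)) with ⟨k, hk | hk⟩
  swap
  · have hpw : ∀ n : ℕ, (x * e) ^ (2 * n) ∈ G₀ := fun n => by
      rw [pow_mul, pow_two]
      exact pow_mem (h.mul_mem_iff.2 Iff.rfl) n
    refine hout ?_
    have e1 := pow_orderOf_eq_one (x * e)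
    rw [hk, pow_succ'] at e1
    rw [eq_inv_of_mul_eq_one_left e1]
    exact inv_mem (hpw k)
  set s := (x * e) ^ k with hs
  have hpos := orderOf_pos (x * e)
  have hs1 : s ≠ 1 := fun q => by
    have := Nat.le_of_dvd (by omega) (orderOf_dvd_of_pow_eq_one q)
    omega
  have hss : s * s = 1 := by rw [hs, ← pow_add, ← two_mul, ← hk, pow_orderOf_eq_one]
  have hse : Commute s e := by
    have hec : e * (x * e) * e⁻¹ = (x * e)⁻¹ := by
      rw [inv_eq_of_mul_eq_one_right hee, mul_inv_rev, inv_eq_of_mul_eq_one_right hee,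
        inv_eq_of_mul_eq_one_right hxx]
      simp [mul_assoc, hee]
    have : e * s * e⁻¹ = s := by rw [hs, ← conj_pow, hec, inv_pow]; exact inv_eq_of_mul_eq_one_right hss
    exact (mul_inv_eq_iff_eq_mul.1 this).symm
  have hsx : Commute s x := by
    have h2 := (Commute.pow_self (x * e) k).mul_right hse
    rwa [← hs, mul_assoc, hee, mul_one] at h2
  have hsS : s ∈ St d := hCe hse
  by_cases hs0 : s ∈ G₀
  · exact h.no_inner hs0 hsS hss hs1 hx hxO hsx
  obtain ⟨r, hr⟩ := isConj_iff.1 hx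
  have ex : cj r⁻¹ x = d := by rw [← hr]; simp [cj, mul_assoc]
  have hsd : Commute (cj r⁻¹ s) d := ex ▸ (commute_conj_iff r⁻¹ s x).2 hsx
  have hrO : cj r⁻¹ d ∉ Om d := fun q => hxO (by
    have := FiCent23.Hy.St_maps (inv_mem (h.mem_St.2 q)) (Or.inl rfl : d ∈ Om d)
    rwa [inv_inv, show cj r d = x from hr] at this)
  rcases h.cen_cases hsd with ⟨q, -⟩ | ⟨-, w, ew⟩
  · refine hs0 ?_
    have := h.normal.conj_mem _ q r
    simpa [cj, mul_assoc] using this
  have hs' : s = cj r (up d ι w) := by rw [← ew, cj_cj, mul_inv_cancel, cj_one]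
  have hww : w * w = 1 := h.inj (by rw [map_one, ← h.up_mul, ← ew, ← cj_mul', hss]; simp [cj])
  by_cases hw1 : w = 1
  · have : s = x := by rw [hs', hw1, h.up_one]; exact hr
    exact hxO (h.mem_om_of_St hx (this ▸ hsS))
  -- the centraliser of the image of `s` keeps the component, so that of `e` does
  have fin : (∀ {g : X}, Commute g (up d ι w) → g ∈ St d) → False := fun hC => by
    have heS : cj r⁻¹ e ∈ St d := hC (ew ▸ ((commute_conj_iff r⁻¹ e s).2 hse.symm))
    refine h.no_inner (s := cj r⁻¹ e) (h.normal.conj_mem _ he0 _) heS (by rw [← cj_mul', hee]; simp [cj])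
      (fun q => he1 (cj_inj r⁻¹ (q.trans (by simp [cj])))) (Dc_cj _ h.d_mem) hrO ?_
    exact (commute_conj_iff r⁻¹ e d).2 hed
  obtain ⟨n, hn, hn3, hp⟩ := h.y23.classify w hww hw1
  interval_cases n
  · have hsD : s ∈ Dc d := hs' ▸ Dc_cj r (h.up_mem (isProd_one.1 hp))
    exact hxO (h.om_comm (h.mem_om_of_St hsD hsS) hx hsx)
  · obtain ⟨f, hf, f', hf', rfl⟩ := isProd_two.1 hp
    refine fin fun {g} hg => h.triple_le (a := d) (b := up d ι f) (c := up d ι f') (Or.inl rfl)
      (h.mem_nbr_d.2 ⟨f, hf, rfl⟩) (h.mem_nbr_d.2 ⟨f', hf'.1, rfl⟩)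
      ⟨h.up_mem hf'.1, h.up_inj.ne hf'.2.1, h.up_comm.2 hf'.2.2⟩ ?_
    rwa [h.d_mul_up, show ι f * up d ι f' = up d ι (f * f') by
      rw [up, up, map_mul, ← mul_assoc, (h.comm_i f).eq, mul_assoc]]
  · obtain ⟨f, hf, f', hf', f'', hf'', rfl⟩ := isProd_three.1 hp
    refine fin fun {g} hg => h.triple_le (a := up d ι f) (b := up d ι f') (c := up d ι f'')
      (Or.inr (Or.inl (h.mem_nbr_d.2 ⟨f, hf, rfl⟩)))
      ⟨h.up_mem hf'.1, h.up_inj.ne hf'.2.1, h.up_comm.2 hf'.2.2⟩
      ⟨h.up_mem hf''.1.1, h.up_inj.ne hf''.1.2.1, h.up_comm.2 hf''.1.2.2⟩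
      ⟨h.up_mem hf''.1.1, h.up_inj.ne hf''.2.2.1, h.up_comm.2 hf''.2.2.2⟩ ?_
    rwa [h.up_mul, show ι (f * f') * up d ι f'' = up d ι (f * f' * f'') by
      rw [up, up, map_mul _ (f * f'), ← mul_assoc, (h.comm_i (f * f')).eq, mul_assoc]]

theorem dc_eq : Dc d = Om d := Set.Subset.antisymm (fun _ hx => h.mem_om hx) fun _ hx => h.om_sub hx

end Hyp

end CfsgLib.ThreeTrans.FiCent24
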