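import Mathlib
import Cfsg.Agent.Lib.ThreeTrans.Inst.TypeTransport
import Cfsg.Agent.Lib.ThreeTrans.Classif.Sporadic

/-! Good classes and what the level of type M(23) passes on, read through an isomorphism. -/

set_option autoImplicit false
set_option linter.unusedSectionVars false

namespace CfsgLib.ThreeTrans.FiCent24

open CfsgLib.ThreeTrans CfsgLib.ThreeTrans.Classif
open CfsgLib.ThreeTrans.LocalSymThree (nbr)

universe u

variable {Y : Type u} [Group Y] {Y' : Type u} [Group Y'] (e : Y ≃* Y') {E : Set Y} {E' : Set Y'}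

theorem image_nbr_map (himg : e '' E = E') (a : Y) : nbr E' (e a) = e '' nbr E a :=
  (Inst.image_nbrs e himg a).symm

theorem good_map (himg : e '' E = E') (h : Classif.Good E) : Classif.Good E' := by
  subst himg
  obtain ⟨⟨⟨⟨hset, hconj⟩, hgen, hcls, htwo⟩, hprim, hpair⟩, htriv⟩ := h
  refine ⟨⟨⟨⟨⟨?_, ?_⟩, ?_⟩, ?_, ?_, ?_⟩, ⟨?_, ?_, ?_⟩, ?_⟩, by rw [← Inst.center_congr e, htriv, Subgroup.map_bot]⟩
  · rintro _ ⟨a, ha, rfl⟩
    exact (orderOf_injective e.toMonoidHom e.injective a).trans (hset.1 a ha)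
  · rintro _ ⟨a, ha, rfl⟩ _ ⟨b, hb, rfl⟩
    refine (hset.2 a ha b hb).imp (fun k => ?_) fun k => ?_ <;>
      rw [← map_mul, ← map_pow, k, map_one]
  · rintro g _ ⟨a, ha, rfl⟩
    obtain ⟨k, rfl⟩ := e.surjective g
    exact ⟨k * a * k⁻¹, hconj k a ha, by rw [map_mul, map_mul, map_inv]⟩
  · rw [show (e '' E) = (e.toMonoidHom : Y → Y') '' E from rfl, ← MonoidHom.map_closure, hgen]
    exact Subgroup.map_top_of_surjective _ e.surjective
  · rintro _ ⟨a, ha, rfl⟩ _ ⟨b, hb, rfl⟩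
    obtain ⟨g, hg⟩ := hcls a ha b hb
    exact ⟨e g, by rw [← hg, map_mul, map_mul, map_inv]⟩
  · obtain ⟨a, ha, b, hb, hne⟩ := htwo
    exact ⟨e a, ⟨a, ha, rfl⟩, e b, ⟨b, hb, rfl⟩, fun k => hne (e.injective k)⟩
  · rintro _ ⟨a, ha, rfl⟩ _ ⟨b, hb, rfl⟩
    obtain ⟨g, hg⟩ := hprim.1 a ha b hb
    exact ⟨e g, by rw [← hg, map_mul, map_mul, map_inv]⟩
  · obtain ⟨a, ha, b, hb, hne⟩ := hprim.2.1
    exact ⟨e a, ⟨a, ha, rfl⟩, e b, ⟨b, hb, rfl⟩, fun k => hne (e.injective k)⟩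
  · intro B hB hblk
    have hsub : e ⁻¹' B ⊆ E := fun x hx => by
      obtain ⟨a, ha, k⟩ := hB hx
      exact e.injective k ▸ ha
    have himg' : ∀ g : Y, e '' ((fun x => g * x * g⁻¹) '' (e ⁻¹' B)) = (fun x => e g * x * (e g)⁻¹) '' B := by
      intro g
      conv_rhs => rw [← Set.image_preimage_eq B e.surjective]
      rw [Set.image_image, Set.image_image]
      simp only [map_mul, map_inv]
    have hblk' : ∀ g : Y, (fun x => g * x * g⁻¹) '' (e ⁻¹' B) = e ⁻¹' B ∨
        Disjoint ((fun x => g * x * g⁻¹) '' (e ⁻¹' B)) (e ⁻¹' B) := fun g => by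
      rcases hblk (e g) with q | q
      · left
        refine e.injective.image_injective ?_
        rw [himg' g, q, Set.image_preimage_eq B e.surjective]
      · right
        refine (Set.disjoint_image_iff e.injective).1 ?_
        rw [himg' g, Set.image_preimage_eq B e.surjective]
        exact q
    rcases hprim.2.2 (e ⁻¹' B) hsub hblk' with k | k
    · left
      intro x hx y hy
      obtain ⟨a, rfl⟩ := e.surjective x
      obtain ⟨b, rfl⟩ := e.surjective y
      rw [k hx hy]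
    · right
      rw [← k, Set.image_preimage_eq B e.surjective]
  · obtain ⟨a, ha, b, hb, hne, hc⟩ := hpair
    exact ⟨e a, ⟨a, ha, rfl⟩, e b, ⟨b, hb, rfl⟩, fun k => hne (e.injective k), hc.map e⟩

theorem typeM23_map (himg : e '' E = E') (h : Cfsg.IsOfTypeM23 Y E) : Cfsg.IsOfTypeM23 Y' E' := by
  obtain ⟨hZ, d, hd, c, hc, hdc, h22, c₃, hc₃, Q, hQ, hdisc, ⟨eQ⟩⟩ := h
  refine ⟨?_, e d, himg ▸ ⟨d, hd, rfl⟩, e c, himg ▸ ⟨c, hc, rfl⟩,
    fun hcm => hdc (by simpa using Commute.map hcm e.symm.toMonoidHom), ?_, c₃, hc₃, Q, hQ, hdisc, ?_⟩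
  · rw [← Inst.center_congr e, hZ, Subgroup.map_bot]
  · have hn := Inst.image_nbrs e himg d
    set S := {y : Y | y ∈ E ∧ y ≠ d ∧ Commute d y}
    set S' := {y : Y' | y ∈ E' ∧ y ≠ e d ∧ Commute (e d) y}
    have hm : (Subgroup.closure S).map e.toMonoidHom = Subgroup.closure S' := by
      rw [MonoidHom.map_closure, ← hn]; rfl
    let ec := (e.subgroupMap (Subgroup.closure S)).trans (MulEquiv.subgroupCongr hm)
    let eq := QuotientGroup.congr _ _ ec (Inst.center_congr ec)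
    refine Inst.typeM22_map eq ?_ h22
    ext z
    constructor
    · rintro ⟨_, ⟨x, hx, rfl⟩, rfl⟩
      exact ⟨ec x, hn.le ⟨x, hx, rfl⟩, rfl⟩
    · rintro ⟨x', hx', rfl⟩
      obtain ⟨x, rfl⟩ := ec.surjective x'
      refine ⟨(x : _ ⧸ _), ⟨x, ?_, rfl⟩, rfl⟩
      obtain ⟨y, hy, k⟩ := hn.ge hx'
      show (x : Y) ∈ S
      rw [← e.injective k]; exact hy
  · obtain ⟨e₁⟩ := Inst.closure_quot_congr e
      (S := {y : Y | y ∈ E ∧ y ≠ d ∧ Commute d y} ∩ {y : Y | y ∈ E ∧ y ≠ c ∧ Commute c y})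
      (S' := {y : Y' | y ∈ E' ∧ y ≠ e d ∧ Commute (e d) y} ∩ {y : Y' | y ∈ E' ∧ y ≠ e c ∧ Commute (e c) y})
      (by rw [Set.image_inter e.injective, Inst.image_nbrs e himg, Inst.image_nbrs e himg])
    exact ⟨e₁.symm.trans eQ⟩

theorem level_map (himg : e '' E = E') (h : LevelTwentyThree E) : LevelTwentyThree E' := by
  obtain ⟨h23, hpar, hmu⟩ := h
  refine ⟨typeM23_map e himg h23, fun n k l m P => hpar n k l m ?_, ?_⟩
  · subst himg
    refine ⟨?_, fun a ha => ?_, fun a ha b hb => ?_, fun a ha b hb hab => ?_⟩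
    · rw [← P.card, Set.ncard_image_of_injective _ e.injective]
    · rw [← P.deg (e a) ⟨a, ha, rfl⟩, image_nbr_map e rfl, Set.ncard_image_of_injective _ e.injective]
    · have hb' : e b ∈ nbr (e '' E) (e a) := image_nbr_map e rfl a ▸ ⟨b, hb, rfl⟩
      rw [← P.lam (e a) ⟨a, ha, rfl⟩ (e b) hb', image_nbr_map e rfl, image_nbr_map e rfl,
        ← Set.image_inter e.injective, Set.ncard_image_of_injective _ e.injective]
    · rw [← P.mu (e a) ⟨a, ha, rfl⟩ (e b) ⟨b, hb, rfl⟩ (fun k => hab (by simpa using k.map e.symm.toMonoidHom)),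
        image_nbr_map e rfl, image_nbr_map e rfl, ← Set.image_inter e.injective,
        Set.ncard_image_of_injective _ e.injective]
  · subst himg
    rintro _ ⟨a, ha, rfl⟩ _ ⟨p, hp, rfl⟩ hap
    obtain ⟨h1, h2, Q, c, ψ, hψ, hR⟩ := hmu a ha p hp fun k => hap (k.map e)
    have hinter : ∀ a p : Y, nbr (e '' E) (e a) ∩ nbr (e '' E) (e p) = e '' (nbr E a ∩ nbr E p) := fun a p => by
      rw [image_nbr_map e rfl, image_nbr_map e rfl, Set.image_inter e.injective]
    rw [hinter]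
    refine ⟨by rw [Set.ncard_image_of_injective _ e.injective, h1], ?_, Q, c, ψ ∘ e.symm, ?_, hR⟩
    · rintro _ ⟨b, hb, rfl⟩
      rw [image_nbr_map e rfl, ← Set.image_inter e.injective, Set.ncard_image_of_injective _ e.injective]
      exact h2 b hb
    · refine hψ.transport e.symm ⟨?_, e.symm.injective.injOn, fun y hy => ⟨e y, ⟨y, hy, rfl⟩, by simp⟩⟩ ?_ ?_
      · rintro _ ⟨y, hy, rfl⟩; simpa using hy
      · intro u _ w _
        exact ⟨fun k => by simpa using k.map e.toMonoidHom, fun k => k.map e.symm.toMonoidHom⟩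
      · intro u _ w _
        rw [map_mul, map_mul]

end CfsgLib.ThreeTrans.FiCent24
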