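import Mathlib
import Cfsg.Agent.Lib.ThreeTrans.Classif.FactsA
import Cfsg.Agent.Lib.ThreeTrans.FiCent23.Final
import Cfsg.Agent.Lib.ThreeTrans.FiCent24.Transport
import Cfsg.Agent.Lib.ThreeTrans.FiCent24.Connect

/-! The class of the involution is a good class of 3-transpositions generating the group, with type M(23)
on the members commuting with one: the group is of type M(24). -/

set_option autoImplicit false
set_option linter.unusedSectionVars false

namespace CfsgLib.ThreeTrans.FiCent24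

open CfsgLib.ThreeTrans CfsgLib.ThreeTrans.FiCent23 CfsgLib.ThreeTrans.Classif
open CfsgLib.ThreeTrans.Tower (mul_sq_one)
open CfsgLib.ThreeTrans.LocalSymThree (nbr nbr_symm)

universe u

variable {X : Type u} [Group X] [Finite X] {Y : Type u} [Group Y] [Finite Y]
variable {G₀ : Subgroup X} {d : X} {ι : Y →* X} {t : Y} {Ω0 : Set Y}

open Classical in
/-- The projection of the centraliser to the group of type M(23). -/
noncomputable def prY (G₀ : Subgroup X) (d : X) (ι : Y →* X) (x : X) : Y :=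
  if x ∈ G₀ then Function.invFun ι x else dn d ι x

namespace Hyp

variable (h : Hyp G₀ d ι t Ω0)
include h

theorem exists_nbr : ∃ b, b ∈ nbr (Dc d) d := ⟨_, h.up_t_mem⟩

theorem exists_far2 : ∃ f, f ∈ far2 d := by
  obtain ⟨a, ha⟩ := h.exists_nbr
  by_contra hno
  simp only [not_exists] at hno
  have hsub : nbr (Dc d) a ⊆ insert d (nbr (Dc d) d ∩ nbr (Dc d) a) := fun b hb => by
    by_cases e : b = d
    · exact Or.inl e
    by_cases c : Commute d b
    · exact Or.inr ⟨⟨hb.1, e, c⟩, hb⟩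
    · exact absurd ⟨hb.1, c, a, ha, nbr_symm ha.1 hb⟩ (hno b)
  have := (Set.ncard_le_ncard hsub (Set.toFinite _)).trans (Set.ncard_insert_le _ _)
  rw [h.card_nbr ha.1, h.lam h.d_mem ha] at this
  omega

theorem card_far2 : (far2 d).ncard = 275264 := by
  obtain ⟨f, hf⟩ := h.exists_far2
  have := h.count_far2 hf
  rw [h.card_mu hf] at this
  omega

theorem set_Dc : Cfsg.IsThreeTranspositionSet (Dc d) := by
  refine ⟨fun x hx => ?_, fun x hx y hy => ?_⟩
  · obtain ⟨g, rfl⟩ := isConj_iff.1 hx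
    rw [← MulAut.conj_apply, MulEquiv.orderOf_eq]
    exact h.ord
  · by_cases hc : Commute x y
    · exact Or.inl (by rw [pow_two]; exact mul_sq_one (h.sq hx) (h.sq hy) hc)
    · exact Or.inr (h.three_om (h.mem_om hx) (h.mem_om hy) hc)

theorem gen_Dc : Subgroup.closure (Dc d) = ⊤ := by
  set H := Subgroup.closure (Dc d) with hH
  have hd : d ∈ H := Subgroup.subset_closure h.d_mem
  have hi : ∀ y : Y, ι y ∈ H := fun y => by
    have hle : Subgroup.closure (Dc t) ≤ H.comap ι := (Subgroup.closure_le _).2 fun e he => by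
      show ι e ∈ H
      rw [← h.d_mul_up e]
      exact mul_mem hd (Subgroup.subset_closure (h.up_mem he))
    exact hle (by rw [h.y23.cls.2.2]; exact Subgroup.mem_top y)
  have hCd : Cd d ≤ H := by
    intro g hg
    rcases h.cen_cases (Subgroup.mem_centralizer_singleton_iff.1 hg) with ⟨-, y, rfl⟩ | ⟨-, y, rfl⟩
    exacts [hi y, mul_mem hd (hi y)]
  have step : ∀ {p q : X}, p ∈ Dc d → q ∈ Dc d → ¬ Commute p q → ∃ g ∈ H, cj g p = q := fun {p q} hp hq hpq => by
    refine ⟨p * q, mul_mem (Subgroup.subset_closure hp) (Subgroup.subset_closure hq), ?_⟩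
    rw [cj, mul_inv_rev, h.inv hp, h.inv hq]
    calc p * q * p * (q * p) = p * q * (p * q * p) := by simp [mul_assoc]
      _ = p * q * (q * p * q) := by rw [h.braid_om (h.mem_om hp) (h.mem_om hq) hpq]
      _ = q := by simp [mul_assoc, ← mul_assoc q q, ← mul_assoc p p, h.sq hp, h.sq hq]
  obtain ⟨a, ha⟩ := h.exists_nbr
  obtain ⟨z, hz, hza⟩ : ∃ z ∈ far2 d, z ∉ nbr (Dc d) a := Set.exists_mem_notMem_of_ncard_lt_ncard
    (by rw [h.card_nbr ha.1, h.card_far2]; norm_num) (Set.toFinite _)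
  have hzane : z ≠ a := fun e => hz.2.1 (e ▸ ha.2.2)
  obtain ⟨g₁, hg₁, e₁⟩ := step h.d_mem hz.1 hz.2.1
  obtain ⟨g₂, hg₂, e₂⟩ := step hz.1 ha.1 fun k => hza ⟨hz.1, hzane, k.symm⟩
  have hall : ∀ y ∈ Dc d, ∃ g ∈ H, cj g d = y := by
    intro y hy
    by_cases hc : Commute d y
    · by_cases e : y = d
      · exact ⟨1, one_mem _, by rw [cj_one, e]⟩
      obtain ⟨k, hk, ek⟩ := h.trans_nbr ha ⟨hy, e, hc⟩
      exact ⟨k * (g₂ * g₁), mul_mem (hCd (Subgroup.mem_centralizer_singleton_iff.2 hk.eq)) (mul_mem hg₂ hg₁),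
        by rw [← cj_cj, ← cj_cj, e₁, e₂, ek]⟩
    · exact step h.d_mem hy hc
  refine (Subgroup.eq_top_iff' H).2 fun g => ?_
  obtain ⟨k, hk, ek⟩ := hall _ (Dc_cj g h.d_mem)
  have hc : Commute (k⁻¹ * g) d := commute_of_cj (by rw [← cj_cj, ← ek, cj_cj, inv_mul_cancel, cj_one])
  have := mul_mem hk (hCd (Subgroup.mem_centralizer_singleton_iff.2 hc.eq))
  rwa [mul_inv_cancel_left] at this

theorem class_Dc : Cfsg.IsThreeTranspositionClass (Dc d) := ⟨h.set_Dc, ⟨d, h.d_mem, rfl⟩, h.gen_Dc⟩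

theorem center_bot : Subgroup.center X = ⊥ := by
  refine (Subgroup.eq_bot_iff_forall _).2 fun z hz => ?_
  have hzd : Commute z d := (Subgroup.mem_center_iff.1 hz d).symm
  have hY : ∀ y : Y, (∀ w, Commute (ι y) (ι w)) → y = 1 := fun y hy => by
    have hc : y ∈ Subgroup.center Y := Subgroup.mem_center_iff.2 fun w =>
      h.inj (by rw [map_mul, map_mul]; exact (hy w).symm.eq)
    rwa [h.y23.good.triv, Subgroup.mem_bot] at hc
  rcases h.cen_cases hzd with ⟨-, y, rfl⟩ | ⟨-, y, rfl⟩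
  · rw [hY y fun w => (Subgroup.mem_center_iff.1 hz (ι w)).symm, map_one]
  · exfalso
    have h1 : y = 1 := hY y fun w => by
      have := (h.comm_i w).symm.mul_left (Subgroup.mem_center_iff.1 hz (ι w)).symm
      rwa [h.d_mul_up] at this
    rw [h1, h.up_one] at hz
    obtain ⟨f, hf⟩ := h.exists_far2
    exact hf.2.1 (Subgroup.mem_center_iff.1 hz f).symm

theorem core_bot {p : ℕ} [Fact p.Prime] (hY : Cfsg.pCore p Y = ⊥) : Cfsg.pCore p X = ⊥ := by
  classical
  set N := Cfsg.pCore p X with hN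
  have hp : IsPGroup p N := CfsgLib.PCore.pCore_isPGroup
  have : N.Normal := inferInstance
  have hfixed : ∀ x ∈ N, Commute x d → x = 1 := by
    intro x hx hxd
    have hM : (N.comap ι).Normal := inferInstance
    have hMp : IsPGroup p (N.comap ι) := hp.comap_of_injective ι h.inj
    have hy : ∀ y : Y, ι y ∈ N → y = 1 := fun y hyN => by
      have h1 : y ∈ Cfsg.pCore p Y := CfsgLib.PCore.le_pCore hM hMp hyN
      rwa [hY, Subgroup.mem_bot] at h1
    rcases h.cen_cases hxd with ⟨-, y, rfl⟩ | ⟨-, y, rfl⟩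
    · rw [hy y hx, map_one]
    exfalso
    have hcen : y ∈ Subgroup.center Y := Subgroup.mem_center_iff.2 fun z => by
      have h1 := hy (cj z y * y⁻¹) (by
        rw [← h.up_mul, ← h.i_up]
        have e : up d ι y⁻¹ = (up d ι y)⁻¹ :=
          eq_inv_of_mul_eq_one_right (by rw [h.up_mul, mul_inv_cancel, map_one])
        rw [e]
        exact mul_mem ((inferInstance : N.Normal).conj_mem _ hx (ι z)) (inv_mem hx))
      exact (commute_of_cj (mul_inv_eq_one.1 h1)).eq
    rw [h.y23.good.triv, Subgroup.mem_bot] at hcen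
    have hdN : d ∈ N := by rw [← h.up_one, ← hcen]; exact hx
    have hle : Dc d ⊆ (N : Set X) := fun y hy => by
      obtain ⟨g, rfl⟩ := isConj_iff.1 hy
      exact (inferInstance : N.Normal).conj_mem d hdN g
    have htop : N = ⊤ := top_unique (h.gen_Dc ▸ (Subgroup.closure_le _).2 hle)
    obtain ⟨f, hf⟩ := h.exists_far2
    have h3 : orderOf (d * f) = 3 := orderOf_eq_prime (h.three_om (Or.inl rfl) (h.mem_om hf.1) hf.2.1) fun e => by
      refine hf.2.1 ?_
      rw [eq_inv_of_mul_eq_one_left e, h.inv hf.1]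
    have hmem : ∀ g : X, g ∈ N := fun g => htop ▸ Subgroup.mem_top g
    obtain ⟨i, hi⟩ := (IsPGroup.iff_orderOf.1 hp) ⟨d, hmem d⟩
    obtain ⟨j, hj⟩ := (IsPGroup.iff_orderOf.1 hp) ⟨d * f, hmem _⟩
    rw [← Subgroup.orderOf_coe] at hi hj
    rw [show orderOf ((⟨d, hmem d⟩ : N) : X) = 2 from h.ord] at hi
    rw [show orderOf ((⟨d * f, hmem _⟩ : N) : X) = 3 from h3] at hj
    have e2 := (Nat.prime_dvd_prime_iff_eq Nat.prime_two (Fact.out : p.Prime)).1
      (Nat.prime_two.dvd_of_dvd_pow (dvd_of_eq hi))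
    have e3 := (Nat.prime_dvd_prime_iff_eq Nat.prime_three (Fact.out : p.Prime)).1
      (Nat.prime_three.dvd_of_dvd_pow (dvd_of_eq hj))
    omega
  have hinvert : ∀ y ∈ Dc d, ∀ x ∈ N, y * x * y⁻¹ = x⁻¹ := by
    have hd : ∀ x ∈ N, d * x * d⁻¹ = x⁻¹ := by
      intro x hx
      let σ : N →* N := (MulAut.conjNormal d : MulAut N).toMonoidHom
      have hσ : ∀ z : N, (σ z : X) = d * z * d⁻¹ := fun z => MulAut.conjNormal_apply d z
      have hfp : MonoidHom.FixedPointFree σ := fun z hz => Subtype.ext (hfixed z z.2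
        (mul_inv_eq_iff_eq_mul.1 (show d * (z : X) * d⁻¹ = z by rw [← hσ, hz]) : Commute d (z : X)).symm)
      have h2 : Function.Involutive σ := fun z => Subtype.ext (by
        rw [hσ, hσ, show d * (d * (z : X) * d⁻¹) * d⁻¹ = (d * d) * z * (d * d)⁻¹ by group, h.dd]; simp)
      have := congrArg Subtype.val (congrFun (hfp.coe_eq_inv_of_involutive h2) ⟨x, hx⟩)
      rw [hσ] at this
      simpa using this
    intro y hy x hx
    obtain ⟨g, rfl⟩ := isConj_iff.1 hy
    have := hd (g⁻¹ * x * g) (by simpa using (inferInstance : N.Normal).conj_mem x hx g⁻¹)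
    calc g * d * g⁻¹ * x * (g * d * g⁻¹)⁻¹ = g * (d * (g⁻¹ * x * g) * d⁻¹) * g⁻¹ := by group
      _ = x⁻¹ := by rw [this]; group
  refine (Subgroup.eq_bot_iff_forall _).2 fun x hx => hfixed x hx ?_
  refine h.comm_AX (h.cen_base fun a ha => ?_) (Subgroup.subset_closure (Or.inl rfl))
  have e1 := hinvert (up d ι a) (h.up_mem (h.y23.sub ha)) x hx
  have e2 := hinvert d h.d_mem x⁻¹ (inv_mem hx)
  rw [inv_inv] at e2
  refine (commute_of_cj ?_).symm
  rw [← h.d_mul_up a, ← cj_cj, show cj (up d ι a) x = x⁻¹ from e1]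
  exact e2

theorem good_Dc : Classif.Good (Dc d) := by
  obtain ⟨b, hb⟩ := h.exists_nbr
  have hY := h.y23.good.semi
  have : Fact (Nat.Prime 2) := ⟨Nat.prime_two⟩
  have : Fact (Nat.Prime 3) := ⟨Nat.prime_three⟩
  refine Semi.good ⟨classTwo_of h.class_Dc ⟨d, h.d_mem, b, hb.1, Ne.symm hb.2.1⟩, h.center_bot,
    h.core_bot hY.two, h.core_bot hY.three, ⟨d, h.d_mem, b, hb.1, Ne.symm hb.2.1, hb.2.2⟩⟩ ?_
  have adj : ∀ {p q : X} (hp : p ∈ Dc d) (hq : q ∈ nbr (Dc d) p),
      (Cfsg.commutingGraph (Dc d)).Reachable ⟨p, hp⟩ ⟨q, hq.1⟩ := fun hp hq =>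
    SimpleGraph.Adj.reachable (G := Cfsg.commutingGraph (Dc d))
      ⟨fun e => hq.2.1 (congrArg Subtype.val e).symm, Or.inl hq.2.2⟩
  have hall : ∀ x : Dc d, (Cfsg.commutingGraph (Dc d)).Reachable ⟨d, h.d_mem⟩ x := by
    rintro ⟨x, hx⟩
    rcases h.mem_om hx with e | k | ⟨-, -, a, ha, ha'⟩
    · subst e; exact SimpleGraph.Reachable.refl _
    · exact adj h.d_mem k
    · exact (adj h.d_mem ha).trans (adj hx ha').symm
  have : Nonempty (Dc d) := ⟨⟨d, h.d_mem⟩⟩
  exact ⟨fun x y => (hall x).symm.trans (hall y)⟩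

theorem ups_prod (l : List Y) :
    (l.map (up d ι)).prod = if Even l.length then ι l.prod else up d ι l.prod := by
  induction l with
  | nil => simp
  | cons a l ih =>
    rw [List.map_cons, List.prod_cons, ih, List.prod_cons, List.length_cons]
    by_cases he : Even l.length
    · rw [if_pos he, if_neg (by rw [Nat.even_add_one, not_not]; exact he), up, up, map_mul, mul_assoc]
    · rw [if_neg he, if_pos (by rw [Nat.even_add_one]; exact he), h.up_mul]

theorem pr_spec {x : X} {y : Y} (hx : x = ι y ∨ x = up d ι y) : prY G₀ d ι x = y := by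
  rcases hx with rfl | rfl
  · rw [prY, if_pos (h.i_mem y)]; exact Function.leftInverse_invFun h.inj y
  · rw [prY, if_neg (h.up_not_mem y), h.dn_up]

/-- The group is of type M(24). -/
theorem typeM24 : Cfsg.IsOfTypeM24 X (Dc d) := by
  classical
  have hG := h.good_Dc
  have hd := h.d_mem
  have hHC : Hd (Dc d) d ≤ Cd d := fun g hg =>
    Subgroup.mem_centralizer_singleton_iff.2 (commute_of_mem_Hd hg).eq
  have hup : ∀ {e}, e ∈ Dc t → up d ι e ∈ Hd (Dc d) d := fun he =>
    Subgroup.subset_closure (h.mem_nbr_d.2 ⟨_, he, rfl⟩)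
  have hdH : d ∈ Hd (Dc d) d := by
    obtain ⟨l, hlo, hlm, hlp⟩ := h.y23.odd_rel
    have := h.ups_prod l
    rw [if_neg (Nat.not_even_iff_odd.2 hlo), hlp, h.up_one] at this
    suffices k : (l.map (up d ι)).prod ∈ Hd (Dc d) d by rwa [this] at k
    refine list_prod_mem fun x hx => ?_
    obtain ⟨y, hy, rfl⟩ := List.mem_map.1 hx
    exact hup (hlm y hy)
  have hiH : ∀ y : Y, ι y ∈ Hd (Dc d) d := fun y => by
    have hle : Subgroup.closure (Dc t) ≤ (Hd (Dc d) d).comap ι := (Subgroup.closure_le _).2 fun e he => by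
      show ι e ∈ Hd (Dc d) d
      rw [← h.d_mul_up e]
      exact mul_mem hdH (hup he)
    exact hle (by rw [h.y23.cls.2.2]; exact Subgroup.mem_top y)
  have hsplit : ∀ x : Hd (Dc d) d, ∃ y, (x : X) = ι y ∨ (x : X) = up d ι y := fun x => by
    rcases h.cen_cases (commute_of_mem_Hd x.2) with ⟨-, y, e⟩ | ⟨-, y, e⟩
    exacts [⟨y, Or.inl e⟩, ⟨y, Or.inr e⟩]
  let θ : Hd (Dc d) d →* Y := MonoidHom.mk' (fun x => prY G₀ d ι x) fun a b => by
    obtain ⟨y, hy⟩ := hsplit a
    obtain ⟨z, hz⟩ := hsplit b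
    rw [h.pr_spec hy, h.pr_spec hz]
    refine h.pr_spec ?_
    show (a : X) * b = _ ∨ (a : X) * b = _
    rcases hy with e | e <;> rcases hz with e' | e' <;> rw [e, e']
    · exact Or.inl (map_mul ι y z).symm
    · exact Or.inr (by rw [up, up, map_mul, ← mul_assoc, (h.comm_i y).eq, mul_assoc])
    · exact Or.inr (by rw [up, up, map_mul, mul_assoc])
    · exact Or.inl (h.up_mul y z)
  have hθ : ∀ (x : Hd (Dc d) d) {y : Y}, ((x : X) = ι y ∨ (x : X) = up d ι y) → θ x = y :=
    fun x y k => h.pr_spec k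
  have hθs : Function.Surjective θ := fun y => ⟨⟨ι y, hiH y⟩, hθ _ (Or.inl rfl)⟩
  have hθk : Subgroup.center (Hd (Dc d) d) = θ.ker := by
    refine le_antisymm (fun x hx => MonoidHom.mem_ker.2 ?_) fun x hx => ?_
    · have : θ x ∈ Subgroup.center Y := Subgroup.mem_center_iff.2 fun y => by
        obtain ⟨k, rfl⟩ := hθs y
        rw [← map_mul, ← map_mul, Subgroup.mem_center_iff.1 hx k]
      rwa [h.y23.good.triv, Subgroup.mem_bot] at this
    · refine Subgroup.mem_center_iff.2 fun z => ?_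
      obtain ⟨y, hy⟩ := hsplit x
      have hy1 : y = 1 := (hθ x hy).symm.trans (MonoidHom.mem_ker.1 hx)
      subst hy1
      refine Subtype.ext ?_
      show (z : X) * x = x * z
      rcases hy with e | e <;> rw [e]
      · rw [map_one, mul_one, one_mul]
      · rw [h.up_one]; exact (commute_of_mem_Hd z.2).eq
  set π := QuotientGroup.mk' (Subgroup.center (Hd (Dc d) d)) with hπ
  let ee : Hd (Dc d) d ⧸ Subgroup.center (Hd (Dc d) d) ≃* Y :=
    (QuotientGroup.quotientMulEquivOfEq hθk).trans (QuotientGroup.quotientKerEquivOfSurjective θ hθs)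
  have hee : ∀ x, ee (π x) = θ x := fun x => rfl
  have himg : ee.symm '' Dc t = imgSet (Dc d) d π := by
    ext y
    constructor
    · rintro ⟨e, he, rfl⟩
      refine ⟨fun k => ne_one h.y23.set he ?_, ⟨_, hup he⟩, h.mem_nbr_d.2 ⟨e, he, rfl⟩, ee.injective ?_⟩
      · simpa using congrArg ee k
      · rw [hee, MulEquiv.apply_symm_apply]
        exact hθ _ (Or.inr rfl)
    · rintro ⟨-, x, hx, rfl⟩
      obtain ⟨e, he, k⟩ := h.mem_nbr_d.1 hx
      exact ⟨e, he, ee.injective (by rw [MulEquiv.apply_symm_apply, hee, hθ x (Or.inr k)])⟩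
  have hB := isBase_mk hG.group hd
  have hcls := hG.set.prim.1
  have hNT := hG.noTwins
  have hphi : ∀ a (ha : a ∈ nbr (Dc d) d), Tower.phi π a = π ⟨a, Subgroup.subset_closure ha⟩ :=
    fun a ha => Tower.phi_of_mem π (x := ⟨a, Subgroup.subset_closure ha⟩) ha
  have C : Classif.Chart (Dc d) d (Tower.phi π) (imgSet (Dc d) d π) := by
    refine ⟨hd, ⟨fun a ha => ?_, fun a ha b hb k => ?_, ?_⟩, fun a ha b hb => ?_, fun a ha b hb => ?_⟩
    · rw [hphi a ha]; exact hB.img_mem hcls hNT ha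
    · rw [hphi a ha, hphi b hb] at k
      exact congrArg Subtype.val (hB.img_injective hcls hNT (x := ⟨a, Subgroup.subset_closure ha⟩)
        (y := ⟨b, Subgroup.subset_closure hb⟩) ha hb k)
    · rintro _ ⟨-, y, hy, rfl⟩
      exact ⟨y, hy, hphi _ hy⟩
    · rw [hphi a ha, hphi b hb]
      exact hB.commute_img (x := ⟨a, Subgroup.subset_closure ha⟩) (y := ⟨b, Subgroup.subset_closure hb⟩) ha hb
    · rw [hphi a ha, hphi b hb, hphi _ (Classif.nbr_closed hG.set.hD.closed ha hb), ← map_mul, ← map_mul]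
      rfl
  exact (level_twentyFour (FromRefl.lift_refl (by norm_num)) splitEight hG hπ C
    (good_map ee.symm himg h.y23.good) (level_map ee.symm himg h.y23.level)).1

end Hyp

end CfsgLib.ThreeTrans.FiCent24
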