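import Mathlib
import Cfsg.Prelude.Def_MonsterType
import Cfsg.Agent.Lib.Golay.M24Group
import Cfsg.Agent.Lib.Golay.Mathieu
import Cfsg.Agent.Lib.H82.UFourThreeNorm
import Cfsg.Agent.Lib.FischerTwoFour.Cocode.Final
import Cfsg.Agent.Lib.ThreeTrans.Classif.Disconnected
import Cfsg.Agent.Lib.ThreeTrans.FiCent24.Final

/-! A subgroup of index two of large Fischer type and an outer involution whose centraliser there is of
type M(23): the whole group is of type M(24). -/

set_option autoImplicit false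
set_option linter.unusedSectionVars false

namespace CfsgLib.ThreeTrans.FiCent24

open CfsgLib.ThreeTrans CfsgLib.ThreeTrans.FiCent23
open CfsgLib.ThreeTrans.LocalSymThree (nbr)

universe u

variable {G : Type u} [Group G]

theorem cent_conj_card (g x : G) :
    Nat.card (Subgroup.centralizer ({g * x * g⁻¹} : Set G)) = Nat.card (Subgroup.centralizer ({x} : Set G)) := by
  refine (Nat.card_congr (?_ : Subgroup.centralizer ({x} : Set G) ≃ Subgroup.centralizer ({g * x * g⁻¹} : Set G))).symm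
  refine (MulAut.conj g).toEquiv.subtypeEquiv fun c => ?_
  simp only [Subgroup.mem_centralizer_singleton_iff]
  show c * x = x * c ↔ g * c * g⁻¹ * (g * x * g⁻¹) = g * x * g⁻¹ * (g * c * g⁻¹)
  simp only [mul_assoc, inv_mul_cancel_left, mul_right_inj]
  rw [← mul_assoc, ← mul_assoc, mul_left_inj]

theorem le_normalizer_thompsonOf (T : Subgroup G) :
    T ≤ Subgroup.normalizer (Cfsg.thompsonSubgroupOf 2 T : Set G) := by
  intro s hs
  let f : T ≃* T := MulAut.conj ⟨s, hs⟩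
  have key : ∀ (k : T ≃* T) (W : Subgroup T), W ∈ Cfsg.maxElementaryAbelianSubgroups 2 T →
      W.map k.toMonoidHom ∈ Cfsg.maxElementaryAbelianSubgroups 2 T := by
    rintro k W ⟨⟨hW1, hW2⟩, hmax⟩
    refine ⟨⟨inferInstance, ?_⟩, fun B hB => ?_⟩
    · rintro _ ⟨x, hx, rfl⟩
      rw [← map_pow, hW2 x hx, map_one]
    · rw [Subgroup.card_map_of_injective k.injective]; exact hmax B hB
  have hle : ∀ k : T ≃* T, (Cfsg.thompsonSubgroup 2 T).map k.toMonoidHom ≤ Cfsg.thompsonSubgroup 2 T := fun k => by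
    rw [Subgroup.map_le_iff_le_comap]
    exact sSup_le fun W hW => Subgroup.map_le_iff_le_comap.1 (le_sSup (key k W hW))
  refine Subgroup.mem_normalizer_iff.2 fun x => ⟨?_, ?_⟩
  · rintro ⟨y, hy, rfl⟩
    exact ⟨f y, hle f ⟨y, hy, rfl⟩, rfl⟩
  · rintro ⟨y, hy, e⟩
    refine ⟨f.symm y, hle f.symm ⟨y, hy, rfl⟩, ?_⟩
    show s⁻¹ * (y : G) * s = x
    rw [show (y : G) = s * x * s⁻¹ from e]
    simp [mul_assoc]

variable [Finite G] {z : G}

/-- An elementary abelian subgroup of order `2^11` is the subgroup with the group M24 on it. -/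
theorem mathieuLocal_of_card {Q : Subgroup (Subgroup.centralizer ({z} : Set G))} [Q.Normal]
    (hF : Cfsg.IsOfLargeFischerTypeAt z Q) {A : Subgroup G} (hc : ∀ a ∈ A, ∀ b ∈ A, a * b = b * a)
    (hs : ∀ a ∈ A, a * a = 1) (hA : Nat.card A = 2048) :
    ∃ T : Sylow 2 G, (T : Subgroup G) ≤ Subgroup.normalizer (A : Set G) ∧
      FischerTwoFour.Cocode.MathieuLocal z A := by
  classical
  have : Fact (Nat.Prime 2) := ⟨Nat.prime_two⟩
  obtain ⟨T, hT⟩ := (IsPGroup.of_card (p := 2) (n := 11) (G := A) hA).exists_le_sylow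
  have hM := FischerTwoFour.Cocode.mathieuLocal_of_fischer hF T
  suffices e : A = Cfsg.thompsonSubgroupOf 2 (T : Subgroup G) by
    exact ⟨T, e ▸ le_normalizer_thompsonOf _, e ▸ hM⟩
  have hJ : Nat.card (Cfsg.thompsonSubgroup 2 ↥(T : Subgroup G)) = 2048 :=
    (Subgroup.card_map_of_injective (T : Subgroup G).subtype_injective).symm.trans hM.card
  have hel : Cfsg.IsElementaryAbelian 2 (A.subgroupOf (T : Subgroup G)) :=
    ⟨⟨⟨fun a b => Subtype.ext (Subtype.ext (hc _ a.2 _ b.2))⟩⟩,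
      fun a ha => Subtype.ext ((pow_two _).trans (hs _ ha))⟩
  have hcard : Nat.card (A.subgroupOf (T : Subgroup G)) = 2048 := by
    rw [Nat.card_congr (Subgroup.subgroupOfEquivOfLe hT).toEquiv, hA]
  obtain ⟨W, hW, hWmax⟩ := Set.exists_max_image {B : Subgroup ↥(T : Subgroup G) | Cfsg.IsElementaryAbelian 2 B}
    (fun B => Nat.card B) (Set.toFinite _) ⟨_, hel⟩
  have hWle : Nat.card W ≤ 2048 :=
    hJ ▸ Subgroup.card_le_of_le (le_sSup (show W ∈ Cfsg.maxElementaryAbelianSubgroups 2 _ from ⟨hW, hWmax⟩))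
  have hle : A.subgroupOf (T : Subgroup G) ≤ Cfsg.thompsonSubgroup 2 ↥(T : Subgroup G) :=
    le_sSup (show A.subgroupOf (T : Subgroup G) ∈ Cfsg.maxElementaryAbelianSubgroups 2 _ from
      ⟨hel, fun B hB => by rw [hcard]; exact (hWmax B hB).trans hWle⟩)
  refine Subgroup.eq_of_le_of_card_ge ?_ (by rw [hA, hM.card])
  intro a ha
  exact ⟨⟨a, hT ha⟩, hle ha, rfl⟩

section Local

variable {A : Subgroup G} (hM : FischerTwoFour.Cocode.MathieuLocal z A)
include hM

theorem card_normalizer : Nat.card (Subgroup.normalizer (A : Set G)) = 2048 * 244823040 := by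
  obtain ⟨φ, hφ, hk, -⟩ := hM.quot
  rw [← Subgroup.card_mul_index φ.ker, Subgroup.index_ker, MonoidHom.range_eq_top.2 hφ, Subgroup.card_top,
    Golay.natCard_M24, hk, Nat.card_congr (Subgroup.subgroupOfEquivOfLe Subgroup.le_normalizer).toEquiv, hM.card]

theorem centralizer_le : Subgroup.centralizer (A : Set G) ≤ A := by
  classical
  set N := Subgroup.normalizer (A : Set G)
  have hCN : Subgroup.centralizer (A : Set G) ≤ N := fun g hg => Subgroup.mem_normalizer_iff.2 fun x => by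
    have h1 : ∀ y ∈ A, g * y * g⁻¹ = y := fun y hy => by rw [← hg y hy, mul_inv_cancel_right]
    refine ⟨fun hx => by rwa [h1 x hx], fun hx => ?_⟩
    have e : g * x * g⁻¹ = x := mul_left_cancel (a := g) (mul_right_cancel (b := g⁻¹) (h1 _ hx))
    rwa [e] at hx
  set C := (Subgroup.centralizer (A : Set G)).subgroupOf N with hC
  have hCn : C.Normal := ⟨fun c hc n => by
    refine Subgroup.mem_subgroupOf.2 fun y hy => ?_
    have hy' : (n : G)⁻¹ * y * n ∈ A := by simpa using (Subgroup.mem_normalizer_iff.1 (inv_mem n.2) y).1 hy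
    have : (n : G)⁻¹ * y * n * c = c * ((n : G)⁻¹ * y * n) := Subgroup.mem_subgroupOf.1 hc _ hy'
    calc y * ((n : G) * c * (n : G)⁻¹) = n * ((n : G)⁻¹ * y * n * c) * (n : G)⁻¹ := by group
      _ = n * (c * ((n : G)⁻¹ * y * n)) * (n : G)⁻¹ := by rw [this]
      _ = (n : G) * c * (n : G)⁻¹ * y := by group⟩
  obtain ⟨φ, hφ, hk, -⟩ := hM.quot
  have : IsSimpleGroup Cfsg.M24 := Golay.isSimpleGroup_M24
  intro g hg
  rcases (hCn.map φ hφ).eq_bot_or_eq_top with e | e
  · have : φ ⟨g, hCN hg⟩ = 1 := Subgroup.mem_bot.1 (e ▸ ⟨⟨g, hCN hg⟩, hg, rfl⟩)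
    have hker : (⟨g, hCN hg⟩ : N) ∈ φ.ker := this
    rw [hk] at hker
    exact hker
  · exfalso
    have hker : φ.ker ≤ C := by
      rw [hk]
      exact fun a ha y hy => hM.comm y hy _ ha
    have htop : C = ⊤ := by
      rw [← Subgroup.comap_map_eq_self hker, e, Subgroup.comap_top]
    have hfix : ∀ a ∈ A, ∀ m ∈ N, m * a * m⁻¹ = a := fun a ha m hm => by
      have hm' : (⟨m, hm⟩ : N) ∈ C := htop ▸ Subgroup.mem_top _
      have e2 : a * m = m * a := Subgroup.mem_subgroupOf.1 hm' a ha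
      rw [← e2, mul_inv_cancel_right]
    obtain ⟨a₁, ha₁, h₁, hz₁⟩ := hM.conjz
    obtain ⟨a₂, ha₂, h₂, hz₂⟩ := hM.other
    have hsub : (A : Set G) ⊆ {1, a₁, a₂} := fun a ha => by
      by_cases h1 : a = 1
      · exact Or.inl h1
      by_cases hz : IsConj z a
      · obtain ⟨m, hm, e⟩ := hM.trans a ha a₁ ha₁ h1 h₁ ⟨fun _ => hz₁, fun _ => hz⟩
        exact Or.inr (Or.inl ((hfix a ha m hm).symm.trans e))
      · obtain ⟨m, hm, e⟩ := hM.trans a ha a₂ ha₂ h1 h₂ ⟨fun k => absurd k hz, fun k => absurd k hz₂⟩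
        exact Or.inr (Or.inr ((hfix a ha m hm).symm.trans e))
    have := Set.ncard_le_ncard hsub (Set.toFinite _)
    rw [← Nat.card_coe_set_eq, SetLike.coe_sort_coe, hM.card] at this
    have := (Set.ncard_insert_le (1 : G) {a₁, a₂}).trans (Nat.add_le_add_right (Set.ncard_insert_le a₁ {a₂}) 1)
    rw [Set.ncard_singleton] at this
    omega

theorem orbit_dvd {S : Set G} {c : G} (hc : c ∈ S)
    (hS : S = {x | x ∈ A ∧ x ≠ 1 ∧ ¬ IsConj z x}) : S.ncard ∣ 2048 * 244823040 := by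
  rw [← card_normalizer hM]
  have ho := Classif.orbit_card (Subgroup.normalizer (A : Set G)).subtype c
  suffices e : {x | ∃ m : Subgroup.normalizer (A : Set G),
      (Subgroup.normalizer (A : Set G)).subtype m * c * ((Subgroup.normalizer (A : Set G)).subtype m)⁻¹ = x} = S by
    rw [e] at ho
    exact Dvd.intro _ ho
  subst hS
  obtain ⟨hcA, hc1, hcz⟩ := hc
  ext x
  constructor
  · rintro ⟨m, rfl⟩
    exact ⟨(Subgroup.mem_normalizer_iff.1 m.2 c).1 hcA, fun e => hc1 (conj_eq_one_iff.1 e),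
      fun k => hcz (k.trans (isConj_iff.2 ⟨_, rfl⟩).symm)⟩
  · rintro ⟨hxA, hx1, hxz⟩
    obtain ⟨m, hm, e⟩ := hM.trans c hcA x hxA hc1 hx1 ⟨fun k => absurd k hcz, fun k => absurd k hxz⟩
    exact ⟨⟨m, hm⟩, e⟩

end Local

theorem card_centralizer_z {Q : Subgroup (Subgroup.centralizer ({z} : Set G))} [Q.Normal]
    (hF : Cfsg.IsOfLargeFischerTypeAt z Q) :
    Nat.card (Subgroup.centralizer ({z} : Set G)) = 160526499840 := by
  obtain ⟨⟨-, -, -, hcQ, -⟩, N, M, _, _, -, hNM, hN, ⟨K, _, _, hK, ⟨e⟩⟩, hM⟩ := hF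
  have : Fact (Nat.Prime 3) := ⟨Nat.prime_three⟩
  have : CharP K 3 := charP_of_card_eq_prime_pow (f := 2) (p := 3) (by rw [hK]; rfl)
  rw [← Subgroup.card_mul_index M, hM, Subgroup.card_eq_card_quotient_mul_card_subgroup (N.subgroupOf M),
    Nat.card_congr e.toEquiv, UFourThree82.card_psu hK,
    Nat.card_congr (Subgroup.subgroupOfEquivOfLe hNM).toEquiv, hN, hcQ]
  norm_num

/-- The kind of products of three, and hence the number of elements commuting with one. -/
theorem card_cent_triple {Y : Type u} [Group Y] [Finite Y] {j : Y →* G} (hj : Function.Injective j)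
    {t : Y} {Ω0 : Set Y} (h : M23 t Ω0) (hM : FischerTwoFour.Cocode.MathieuLocal z ((Subgroup.closure Ω0).map j))
    {Q : Subgroup (Subgroup.centralizer ({z} : Set G))} [Q.Normal] (hF : Cfsg.IsOfLargeFischerTypeAt z Q)
    {a b c : Y} (T : Triple (Dc t) a b c) :
    Nat.card (Subgroup.centralizer ({j (a * b * c)} : Set G)) = 160526499840 := by
  classical
  have hconj : ∀ y x : Y, IsConj (j x) (j (cj y x)) := fun y x =>
    isConj_iff.2 ⟨j y, by simp [cj, map_mul, map_inv]⟩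
  have ht : ¬ IsConj z (j t) := fun k => by
    obtain ⟨g, hg⟩ := isConj_iff.1 k
    have hle : (Cd t).map j ≤ Subgroup.centralizer ({j t} : Set G) := by
      rintro _ ⟨y, hy, rfl⟩
      refine Subgroup.mem_centralizer_singleton_iff.2 ?_
      rw [← map_mul, ← map_mul, Subgroup.mem_centralizer_singleton_iff.1 hy]
    have h1 := Subgroup.card_dvd_of_le hle
    rw [Subgroup.card_map_of_injective hj, ← hg, cent_conj_card, card_centralizer_z hF] at h1
    have h2 := Classif.orbit_card (MonoidHom.id Y) t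
    have hset : {x | ∃ y : Y, (MonoidHom.id Y) y * t * ((MonoidHom.id Y) y)⁻¹ = x} = Dc t :=
      Set.ext fun x => (isConj_iff (a := t) (b := x)).symm
    rw [hset, h.loc.card, Subgroup.comap_id, h.order] at h2
    rw [Nat.eq_of_mul_eq_mul_left (by norm_num) h2] at h1
    norm_num at h1
  have hO : ∀ x ∈ Ω0, ¬ IsConj z (j x) := fun x hx k => by
    obtain ⟨g, hg⟩ := isConj_iff.1 (h.sub hx)
    exact ht (k.trans (by rw [← hg]; exact (hconj g t).symm))
  have h3 : ∀ x ∈ K3 Ω0, ∀ y ∈ K3 Ω0, IsConj (j x) (j y) := by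
    rintro _ ⟨p, hp, q, hq, r, hr, npq, npr, nqr, rfl⟩ _ ⟨p', hp', q', hq', r', hr', npq', npr', nqr', rfl⟩
    obtain ⟨y, -, e1, e2, e3⟩ := h.perm p q r p' q' r' hp hq hr npq npr nqr hp' hq' hr' npq' npr' nqr'
    rw [← e1, ← e2, ← e3, ← cj_mul', ← cj_mul']
    exact hconj y _
  have h2 : ∀ x ∈ K2 Ω0, ∀ y ∈ K2 Ω0, IsConj (j x) (j y) := by
    rintro _ ⟨p, hp, q, hq, npq, rfl⟩ _ ⟨p', hp', q', hq', npq', rfl⟩
    have third : ∀ u v : Y, ∃ w ∈ Ω0, u ≠ w ∧ v ≠ w := fun u v => by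
      obtain ⟨w, hw, hne⟩ := Set.exists_mem_notMem_of_ncard_lt_ncard (s := ({u, v} : Set Y)) (t := Ω0)
        (((Set.ncard_insert_le u {v}).trans (by rw [Set.ncard_singleton])).trans_lt (by rw [h.card]; norm_num))
        (Set.toFinite _)
      simp only [Set.mem_insert_iff, Set.mem_singleton_iff, not_or] at hne
      exact ⟨w, hw, Ne.symm hne.1, Ne.symm hne.2⟩
    obtain ⟨r, hr, npr, nqr⟩ := third p q
    obtain ⟨r', hr', npr', nqr'⟩ := third p' q'
    obtain ⟨y, -, e1, e2, -⟩ := h.perm p q r p' q' r' hp hq hr npq npr nqr hp' hq' hr' npq' npr' nqr'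
    rw [← e1, ← e2, ← cj_mul']
    exact hconj y _
  suffices hK : ∀ x ∈ K3 Ω0, IsConj z (j x) by
    obtain ⟨p, q, r, hp, hq, hr, npq, npr, nqr, -⟩ := h.exists_base_triple
    obtain ⟨y, e1, e2, e3⟩ := h.triples _ _ _ _ _ _ T (h.tri hp hq hr npq npr nqr)
    have k := hK (p * q * r) ⟨p, hp, q, hq, r, hr, npq, npr, nqr, rfl⟩
    rw [← e1, ← e2, ← e3, ← cj_mul', ← cj_mul'] at k
    obtain ⟨g, hg⟩ := isConj_iff.1 (k.trans (hconj y _).symm)
    rw [← hg, cent_conj_card, card_centralizer_z hF]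
  by_contra hno
  simp only [not_forall] at hno
  obtain ⟨x₀, hx₀, hz₀⟩ := hno
  have hK3 : ∀ x ∈ K3 Ω0, ¬ IsConj z (j x) := fun x hx k => hz₀ (k.trans (h3 x hx x₀ hx₀))
  have hne : ∀ x ∈ Ω0 ∪ K3 Ω0, x ≠ 1 := by
    rintro x (hx | hx)
    · exact h.ne_one_of_prod le_rfl (by norm_num) (TypeTop.isProd_one.2 (h.sub hx))
    · exact h.ne_one_of_prod (by norm_num) (by norm_num) (h.three_of_K3 hx)
  have hK2 : ∀ x ∈ K2 Ω0, IsConj z (j x) := fun x hx => by
    by_contra hxz
    obtain ⟨_, ⟨w, hw, rfl⟩, hw1, hwz⟩ := hM.conjz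
    rcases h.cases hw (fun e => hw1 (by rw [e, map_one])) with k | k | k
    exacts [hO w k hwz, hxz (hwz.trans (h2 w k x hx)), hK3 w k hwz]
  have hS : j '' (Ω0 ∪ K3 Ω0) = {x | x ∈ (Subgroup.closure Ω0).map j ∧ x ≠ 1 ∧ ¬ IsConj z x} := by
    ext x
    constructor
    · rintro ⟨w, hw, rfl⟩
      refine ⟨⟨w, h.mem_closure_K ?_, rfl⟩, fun e => hne w hw (hj (e.trans (map_one j).symm)), ?_⟩
      · exact hw.elim Or.inl fun k => Or.inr (Or.inr k)
      · exact hw.elim (hO w) (hK3 w)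
    · rintro ⟨⟨w, hw, rfl⟩, hw1, hwz⟩
      rcases h.cases hw (fun e => hw1 (by rw [e, map_one])) with k | k | k
      exacts [⟨w, Or.inl k, rfl⟩, absurd (hK2 w k) hwz, ⟨w, Or.inr k, rfl⟩]
  have hdvd := orbit_dvd hM (S := j '' (Ω0 ∪ K3 Ω0)) (c := j t) ⟨t, Or.inl h.self, rfl⟩ hS
  rw [Set.ncard_image_of_injective _ hj, Set.ncard_union_eq h.disj13 (Set.toFinite _) (Set.toFinite _),
    h.card, h.card_K.2] at hdvd
  norm_num at hdvd

/-- An outer involution with centraliser of type M(23) gives type M(24). -/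
theorem typeM24_of_fischer {X : Type u} [Group X] [Finite X] (G₀ : Subgroup X) (hidx : G₀.index = 2) (z : ↥G₀)
    (Q : Subgroup (Subgroup.centralizer ({z} : Set ↥G₀))) [Q.Normal] (hF : Cfsg.IsOfLargeFischerTypeAt z Q)
    (d : X) (hd : orderOf d = 2) (hout : d ∉ G₀) (t : ↥(G₀ ⊓ Subgroup.centralizer ({d} : Set X)))
    (ht : orderOf t = 2)
    (hq : Cfsg.IsQuasisimple ↥(Subgroup.centralizer ({t} : Set ↥(G₀ ⊓ Subgroup.centralizer ({d} : Set X)))))
    [((Subgroup.zpowers t).subgroupOf (Cd t)).Normal]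
    {E : Set (↥(Cd t) ⧸ (Subgroup.zpowers t).subgroupOf (Cd t))} (hE : Cfsg.IsThreeTranspositionClass E)
    (h22 : Cfsg.IsOfTypeM22 _ E) (hnwc : ∃ g, g * t * g⁻¹ ∈ Cd t ∧ g * t * g⁻¹ ≠ t) :
    ∃ E : Set X, Cfsg.IsThreeTranspositionClass E ∧ Cfsg.IsOfTypeM24 X E := by
  classical
  have : Fact (Nat.Prime 2) := ⟨Nat.prime_two⟩
  obtain ⟨x₁, hy⟩ := (cov_of t ht hq hE h22 hnwc).exists_hy
  obtain ⟨Ω0, h⟩ := exists_M23 hy
  let j : ↥(G₀ ⊓ Subgroup.centralizer ({d} : Set X)) →* ↥G₀ := Subgroup.inclusion inf_le_left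
  have hj : Function.Injective j := Subgroup.inclusion_injective _
  set ι := (G₀ ⊓ Subgroup.centralizer ({d} : Set X)).subtype
  set A := (Subgroup.closure Ω0).map j with hA
  obtain ⟨T, hTN, hM⟩ := mathieuLocal_of_card hF (A := A)
    (by rintro _ ⟨a, ha, rfl⟩ _ ⟨b, hb, rfl⟩; rw [← map_mul, ← map_mul, (h.commA ha hb).eq])
    (by rintro _ ⟨a, ha, rfl⟩; rw [← map_mul, h.sqA ha, map_one])
    (by rw [Subgroup.card_map_of_injective hj, h.card_closure]; norm_num)
  have hAX : A0X ι Ω0 = A.map G₀.subtype := by rw [A0X, hA, Subgroup.map_map]; rfl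
  have hmem : ∀ {x : ↥G₀}, (x : X) ∈ A0X ι Ω0 ↔ x ∈ A := fun {x} => by
    rw [hAX]; exact Subgroup.mem_map_iff_mem G₀.subtype_injective
  have hNG : NG G₀ ι Ω0 = (Subgroup.normalizer (A : Set ↥G₀)).map G₀.subtype := by
    ext g
    constructor
    · rintro ⟨hg, hn⟩
      exact ⟨⟨g, hg⟩, Subgroup.mem_normalizer_iff.2 fun x =>
        hmem.symm.trans ((Subgroup.mem_normalizer_iff.1 hn x).trans (hmem (x := ⟨g, hg⟩ * x * ⟨g, hg⟩⁻¹))), rfl⟩
    · rintro ⟨g, hg, rfl⟩
      refine ⟨g.2, Subgroup.mem_normalizer_iff.2 fun x => ⟨fun hx => ?_, fun hx => ?_⟩⟩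
      · obtain ⟨y, hy, rfl⟩ := hAX.le hx
        exact hmem.2 ((Subgroup.mem_normalizer_iff.1 hg y).1 hy)
      · obtain ⟨y, hy, e⟩ := hAX.le hx
        have := hmem.2 ((Subgroup.mem_normalizer_iff.1 (inv_mem hg) y).1 hy)
        rw [Subgroup.coe_mul, Subgroup.coe_mul, show (y : X) = g * x * (g : X)⁻¹ from e] at this
        simpa [mul_assoc] using this
  have hcard : Nat.card (NG G₀ ι Ω0) = 2048 * 244823040 := by
    rw [hNG, Subgroup.card_map_of_injective G₀.subtype_injective, card_normalizer hM]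
  have H : Hyp G₀ d ι t Ω0 := by
    refine ⟨hidx, hd, hout, Subgroup.subtype_injective _, Subgroup.range_subtype _, h, ?_, ?_, ?_, ?_, ?_⟩
    · intro g hg hc
      refine (hmem (x := ⟨g, hg⟩)).2 (centralizer_le hM ?_)
      rintro _ ⟨w, hw, rfl⟩
      have hle : Subgroup.closure Ω0 ≤ (Subgroup.centralizer ({g} : Set X)).comap ι :=
        (Subgroup.closure_le _).2 fun a ha => Subgroup.mem_centralizer_singleton_iff.2 (hc a ha).symm.eq
      exact Subtype.ext (Subgroup.mem_centralizer_singleton_iff.1 (hle hw))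
    · rw [hcard]; norm_num
    · rw [hcard]; norm_num
    · intro k
      rw [Subgroup.relIndex, hNG, ← Subgroup.comap_subtype,
        Subgroup.comap_map_eq_self_of_injective G₀.subtype_injective] at k
      exact T.not_dvd_index (k.trans (Subgroup.index_dvd_of_le hTN))
    · intro a b c hT3
      have e : G₀ ⊓ Cd (ι (a * b * c)) =
          (Subgroup.centralizer ({j (a * b * c)} : Set ↥G₀)).map G₀.subtype := by
        ext g
        constructor
        · rintro ⟨hg, hc⟩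
          exact ⟨⟨g, hg⟩, Subgroup.mem_centralizer_singleton_iff.2
            (Subtype.ext (Subgroup.mem_centralizer_singleton_iff.1 hc)), rfl⟩
        · rintro ⟨g, hg, rfl⟩
          exact ⟨g.2, Subgroup.mem_centralizer_singleton_iff.2
            (congrArg Subtype.val (Subgroup.mem_centralizer_singleton_iff.1 hg))⟩
      rw [e, Subgroup.card_map_of_injective G₀.subtype_injective]
      exact card_cent_triple hj h hM hF hT3
  exact ⟨Dc d, H.class_Dc, H.typeM24⟩

end CfsgLib.ThreeTrans.FiCent24
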